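import Cfsg.Agent.ASolv.CubicMono
import Cfsg.Agent.Lib.PGroups.AbelianNormal
import Cfsg.Agent.Lib.Cores.Fitting

/-!
The group `R` of an irreducible solvable `R⟨b⟩` with a cubic element and a four-group in `R` is a
four-group or extraspecial of order 32.
-/

set_option autoImplicit false

namespace Cfsg.Agent.ASolv.CubicCore

open Cfsg.Agent.ASolv.CubicFour Cfsg.Agent.ASolv.CubicIrr Cfsg.Agent.ASolv.CubicMono
open scoped commutatorElement

universe u

variable {G : Type u} [Group G] {V : Type*} [AddCommGroup V] [Module (ZMod 3) V]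
variable {ρ : Representation (ZMod 3) G V}

/-- `g` acts as `1` or `-1`. -/
def Sc (ρ : Representation (ZMod 3) G V) (g : G) : Prop :=
  (∀ v, ρ g v = v) ∨ (∀ v, ρ g v = -v)

theorem sc_comm (hinj : Function.Injective ρ) {g : G} (hg : Sc ρ g) (h : G) : g * h = h * g := by
  refine eq_of_app hinj fun v => ?_
  rw [mul_app, mul_app]
  rcases hg with e | e
  · rw [e, e]
  · rw [e, e, map_neg]

theorem sc_cases (hinj : Function.Injective ρ) {z g : G} (hz : ∀ v, ρ z v = -v) (hg : Sc ρ g) :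
    g = 1 ∨ g = z := by
  rcases hg with e | e
  · exact Or.inl (eq_of_app hinj fun v => by rw [e, one_app])
  · exact Or.inr (eq_of_app hinj fun v => by rw [e, hz])

variable [Finite G] [Finite V] {R T : Subgroup G} {b a₁ a₂ z : G}

/-- An abelian normal 2-subgroup of `R` gives the shape or is scalar. -/
theorem sc_of_abelian [Group.IsSolvable G] (S : Setting ρ R b a₁ a₂) (hns : ¬ Shape R)
    {A : Subgroup G} (hA : A.Normal) (hAR : A ≤ R) (h2 : IsPGroup 2 A)
    (hcom : ∀ x ∈ A, ∀ y ∈ A, x * y = y * x) : ∀ a ∈ A, Sc ρ a := by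
  haveI := hA
  let Ω : Subgroup G :=
    { carrier := {x | x ∈ A ∧ x * x = 1}
      one_mem' := ⟨A.one_mem, mul_one 1⟩
      mul_mem' := fun {x y} hx hy => ⟨A.mul_mem hx.1 hy.1, by
        calc x * y * (x * y) = x * (y * x) * y := by group
          _ = x * (x * y) * y := by rw [hcom y hy.1 x hx.1]
          _ = (x * x) * (y * y) := by group
          _ = 1 := by rw [hx.2, hy.2, one_mul]⟩
      inv_mem' := fun {x} hx => by
        show x⁻¹ ∈ A ∧ x⁻¹ * x⁻¹ = 1
        rw [inv_eq_of_mul_eq_one_right hx.2]; exact hx }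
  have hΩn : Ω.Normal := ⟨fun x hx g => ⟨hA.conj_mem x hx.1 g, by
    rw [show g * x * g⁻¹ * (g * x * g⁻¹) = g * (x * x) * g⁻¹ by group, hx.2, mul_one,
      mul_inv_cancel]⟩⟩
  have hfix : ∀ x ∈ Ω, b * x = x * b := by
    by_contra h
    push Not at h
    exact hns (shape_of_normal S hΩn (fun x hx => hAR hx.1) (fun x hx => hx.2) h)
  have hstep : ∀ j, ∀ a ∈ A, a ^ 2 ^ j = 1 → b * a = a * b := by
    intro j
    induction j with
    | zero => intro a _ h; rw [pow_zero, pow_one] at h; simp [h]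
    | succ j ih =>
        intro a ha h
        have ha2 : b * (a * a) = a * a * b := ih _ (A.mul_mem ha ha) (by
          rw [← pow_two, ← pow_mul, ← pow_succ', h])
        set x := a⁻¹ * (b * a * b⁻¹) with hx
        have hxA : x ∈ A := A.mul_mem (A.inv_mem ha) (hA.conj_mem a ha b)
        have hxx : x * x = 1 := by
          calc x * x = a⁻¹ * (b * a * b⁻¹ * a⁻¹) * (b * a * b⁻¹) := by rw [hx]; group
            _ = a⁻¹ * (a⁻¹ * (b * a * b⁻¹)) * (b * a * b⁻¹) := by
                rw [hcom _ (hA.conj_mem a ha b) _ (A.inv_mem ha)]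
            _ = (a * a)⁻¹ * (b * (a * a) * b⁻¹) := by group
            _ = 1 := by rw [ha2]; group
        have hbx := hfix x ⟨hxA, hxx⟩
        have hbx' : b * x * b⁻¹ = x := by rw [hbx]; group
        have hx1 : x = 1 := by
          have h3 : x * x * x = 1 := by
            calc x * x * x = x * (b * x * b⁻¹) * (b * (b * x * b⁻¹) * b⁻¹) := by rw [hbx', hbx']
              _ = a⁻¹ * ((b * b * b) * a * (b * b * b)⁻¹) := by rw [hx]; group
              _ = 1 := by
                  rw [show b * b * b = b ^ 3 by simp [pow_succ, mul_assoc], S.cubic.cube]; group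
          rwa [hxx, one_mul] at h3
        rw [hx, inv_mul_eq_one] at hx1
        exact (eq_mul_inv_iff_mul_eq.1 hx1).symm
  intro a ha
  refine S.scalar_of_b (N := A) (fun x hx => ?_) ha
  obtain ⟨j, hj⟩ := h2 ⟨x, hx⟩
  exact hstep j x hx (congrArg Subtype.val hj)

/-- No non-trivial normal `q`-subgroup of `R` for `q` odd. -/
theorem q_trivial (S : Setting ρ R b a₁ a₂) {q : ℕ} [hq : Fact q.Prime] (hq2 : q ≠ 2)
    {Q : Subgroup G} (hQ : Q.Normal) (hQR : Q ≤ R) (hQq : IsPGroup q Q) : Q = ⊥ := by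
  by_contra hne
  haveI := hQ
  haveI : Nontrivial Q := (Subgroup.nontrivial_iff_ne_bot Q).2 hne
  have hq3 : q ≠ 3 := by
    rintro rfl
    obtain ⟨k, hk, hcard⟩ := hQq.nontrivial_iff_card.1 inferInstance
    exact S.cop ((hcard ▸ dvd_pow_self 3 hk.ne').trans (Subgroup.card_dvd_of_le hQR))
  have hq5 : 5 ≤ q := by
    have := hq.out.two_le
    rcases Nat.lt_or_ge q 5 with h | h
    · interval_cases q
      · exact absurd rfl hq2
      · exact absurd rfl hq3
      · exact absurd hq.out (by norm_num)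
    · exact h
  set Z := (Subgroup.center Q).map Q.subtype with hZ
  haveI hZn : Z.Normal := inferInstanceAs ((Subgroup.center Q).map Q.subtype).Normal
  have hZc : ∀ x ∈ Z, ∀ y ∈ Z, x * y = y * x := by
    rintro _ ⟨x, hx, rfl⟩ _ ⟨y, -, rfl⟩
    exact congrArg Subtype.val (Subgroup.mem_center_iff.1 hx y).symm
  let Ω : Subgroup G :=
    { carrier := {x | x ∈ Z ∧ x ^ q = 1}
      one_mem' := ⟨Z.one_mem, one_pow q⟩
      mul_mem' := fun {x y} hx hy => ⟨Z.mul_mem hx.1 hy.1, by
        rw [(show Commute x y from hZc x hx.1 y hy.1).mul_pow, hx.2, hy.2, one_mul]⟩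
      inv_mem' := fun {x} hx => ⟨Z.inv_mem hx.1, by rw [inv_pow, hx.2, inv_one]⟩ }
  haveI hΩn : Ω.Normal := ⟨fun x hx g => ⟨hZn.conj_mem x hx.1 g, by rw [conj_pow, hx.2]; group⟩⟩
  haveI := hQq.center_nontrivial
  obtain ⟨k, hk, hcard⟩ := (hQq.to_subgroup (Subgroup.center Q)).nontrivial_iff_card.1 inferInstance
  obtain ⟨x, hx⟩ := exists_prime_orderOf_dvd_card' (G := Subgroup.center Q) q
    (hcard ▸ dvd_pow_self q hk.ne')
  have hxq : ((x : Q) : G) ^ q = 1 := by
    have := congrArg (fun y : Subgroup.center Q => ((y : Q) : G)) (hx ▸ pow_orderOf_eq_one x)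
    simpa using this
  have h1 := no_odd S hq5 (N := Ω) (fun y hy => hQR (Subgroup.map_subtype_le _ hy.1))
    (fun y hy => hy.2) (fun y hy w hw => hZc y hy.1 w hw.1) _ ⟨⟨(x : Q), x.2, rfl⟩, hxq⟩
  have hx1 : x = 1 := Subtype.ext (Subtype.ext h1)
  rw [hx1, orderOf_one] at hx
  exact hq.out.one_lt.ne hx

/-- The 2-core `T` of `R` and its properties in a counterexample. -/
structure Core (ρ : Representation (ZMod 3) G V) (R T : Subgroup G) (b a₁ a₂ z : G) : Prop where
  setting : Setting ρ R b a₁ a₂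
  normal : T.Normal
  le : T ≤ R
  two : IsPGroup 2 T
  max : ∀ K : Subgroup G, K.Normal → K ≤ R → IsPGroup 2 K → K ≤ T
  cent : ∀ r ∈ R, (∀ t ∈ T, r * t = t * r) → r ∈ T
  zmem : z ∈ T
  neg : ∀ v, ρ z v = -v
  sq : ∀ x ∈ T, x * x = 1 ∨ x * x = z
  com : ∀ x ∈ T, ∀ y ∈ T, x * y = y * x ∨ x * y = y * x * z
  centre : ∀ x ∈ T, (∀ y ∈ T, x * y = y * x) → x = 1 ∨ x = z

theorem exists_core [Group.IsSolvable G] (S : Setting ρ R b a₁ a₂) (hns : ¬ Shape R) :
    ∃ T z, Core ρ R T b a₁ a₂ z := by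
  classical
  haveI := S.normal
  haveI : Fact (Nat.Prime 2) := ⟨Nat.prime_two⟩
  set T := Cfsg.pCore 2 G ⊓ R with hT
  haveI hTn : T.Normal := inferInstance
  have hT2 : IsPGroup 2 T := (Cfsg.Agent.Cores.pCore_isPGroup 2).to_le inf_le_left
  have hmax : ∀ K : Subgroup G, K.Normal → K ≤ R → IsPGroup 2 K → K ≤ T :=
    fun K hK hKR h2 => le_inf (haveI := hK; Cfsg.Agent.Cores.le_pCore h2) hKR
  have hFT : (Cfsg.fittingSubgroup R).map R.subtype ≤ T := by
    rw [Cfsg.Agent.Cores.fittingSubgroup_eq_iSup, Subgroup.map_iSup]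
    refine iSup_le fun p => ?_
    haveI : Fact (p : ℕ).Prime := ⟨Nat.prime_of_mem_primeFactors p.2⟩
    rw [Cfsg.Agent.Cores.map_pCore_subtype_eq_inf]
    by_cases hp : (p : ℕ) = 2
    · rw [hp]
    · rw [q_trivial S hp (Q := Cfsg.pCore (p : ℕ) G ⊓ R) inferInstance inf_le_right
        ((Cfsg.Agent.Cores.pCore_isPGroup _).to_le inf_le_left)]
      exact bot_le
  have hcent : ∀ r ∈ R, (∀ t ∈ T, r * t = t * r) → r ∈ T := by
    intro r hr h
    have hmem : (⟨r, hr⟩ : R) ∈ Cfsg.fittingSubgroup R := by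
      refine Cfsg.Agent.Cores.centralizer_fittingSubgroup_le ?_
      rw [Subgroup.mem_centralizer_iff]
      intro y hy
      exact Subtype.ext (h y (hFT ⟨y, hy, rfl⟩)).symm
    exact hFT ⟨_, hmem, rfl⟩
  -- the centre of `T`
  set Z := (Subgroup.center T).map T.subtype with hZdef
  haveI hZn : Z.Normal := inferInstanceAs ((Subgroup.center T).map T.subtype).Normal
  have hZc : ∀ x ∈ Z, ∀ y ∈ Z, x * y = y * x := by
    rintro _ ⟨x, hx, rfl⟩ _ ⟨y, -, rfl⟩
    exact congrArg Subtype.val (Subgroup.mem_center_iff.1 hx y).symm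
  have hZT : Z ≤ T := Subgroup.map_subtype_le _
  have hZsc := sc_of_abelian S hns hZn (hZT.trans inf_le_right) (hT2.to_le hZT) hZc
  have hTne : T ≠ ⊥ := by
    intro h
    refine S.four.ne ?_
    have := hcent a₁ S.mem fun t ht => by
      rw [h, Subgroup.mem_bot] at ht
      rw [ht, mul_one, one_mul]
    rwa [h, Subgroup.mem_bot] at this
  haveI : Nontrivial T := (Subgroup.nontrivial_iff_ne_bot T).2 hTne
  haveI := hT2.center_nontrivial
  obtain ⟨c, hc⟩ := exists_ne (1 : Subgroup.center T)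
  set z : G := ((c : T) : G) with hzdef
  have hzZ : z ∈ Z := ⟨(c : T), c.2, rfl⟩
  have hneg : ∀ v, ρ z v = -v := (hZsc z hzZ).resolve_left fun e =>
    hc (Subtype.ext (Subtype.ext (eq_of_app (g := z) (h := 1) S.inj fun v => by rw [e, one_app])))
  have hzT : z ∈ T := hZT hzZ
  have hzc : ∀ g : G, z * g = g * z := fun g => sc_comm S.inj (Or.inr hneg) g
  have hzz : z * z = 1 := eq_of_app S.inj fun v => by rw [mul_app, hneg, hneg, neg_neg, one_app]
  have hcentre : ∀ x ∈ T, (∀ y ∈ T, x * y = y * x) → x = 1 ∨ x = z := fun x hx h =>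
    sc_cases S.inj hneg (hZsc x ⟨⟨x, hx⟩, Subgroup.mem_center_iff.2 fun y =>
      Subtype.ext (h y y.2).symm, rfl⟩)
  -- class two
  let Z₀ : Subgroup G :=
    { carrier := {g | g = 1 ∨ g = z}
      one_mem' := Or.inl rfl
      mul_mem' := by
        rintro x y (rfl | rfl) (rfl | rfl) <;> simp [hzz]
      inv_mem' := by
        rintro x (rfl | rfl)
        · simp
        · exact Or.inr (inv_eq_of_mul_eq_one_right hzz) }
  have hZ₀c : ∀ g ∈ Z₀, ∀ h : G, g * h = h * g := by
    rintro g (rfl | rfl) h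
    · simp
    · exact hzc h
  haveI hZ₀n : Z₀.Normal := ⟨fun x hx g => by rwa [← hZ₀c x hx g, mul_inv_cancel_right]⟩
  have hclass : ⁅T, T⁆ ≤ Z₀ := by
    by_contra hnot
    let U : Subgroup G :=
      { carrier := {x | x ∈ T ∧ ∀ t ∈ T, x * t * x⁻¹ * t⁻¹ ∈ Z₀}
        one_mem' := ⟨T.one_mem, fun t _ => by simp⟩
        mul_mem' := fun {x y} hx hy => ⟨T.mul_mem hx.1 hy.1, fun t ht => by
          have h1 := hy.2 t ht
          have h2 := hx.2 t ht
          have he : x * y * t * (x * y)⁻¹ * t⁻¹ =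
              (y * t * y⁻¹ * t⁻¹) * (x * t * x⁻¹ * t⁻¹) := by
            calc x * y * t * (x * y)⁻¹ * t⁻¹
                = x * (y * t * y⁻¹ * t⁻¹) * (t * x⁻¹ * t⁻¹) := by group
              _ = (y * t * y⁻¹ * t⁻¹) * x * (t * x⁻¹ * t⁻¹) := by rw [hZ₀c _ h1 x]
              _ = _ := by group
          rw [he]; exact Z₀.mul_mem h1 h2⟩
        inv_mem' := fun {x} hx => ⟨T.inv_mem hx.1, fun t ht => by
          have h2 := hx.2 t ht
          have he : x⁻¹ * t * x⁻¹⁻¹ * t⁻¹ = (x * t * x⁻¹ * t⁻¹)⁻¹ := by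
            calc x⁻¹ * t * x⁻¹⁻¹ * t⁻¹ = x⁻¹ * (x * t * x⁻¹ * t⁻¹)⁻¹ * x := by group
              _ = _ := by
                  rw [mul_assoc, hZ₀c _ (Z₀.inv_mem h2) x]; group
          rw [he]; exact Z₀.inv_mem h2⟩ }
    have hUn : U.Normal := ⟨fun x hx g => ⟨hTn.conj_mem x hx.1 g, fun t ht => by
      have h2 := hx.2 (g⁻¹ * t * g) (by
        have := hTn.conj_mem t ht g⁻¹
        rwa [inv_inv] at this)
      have := hZ₀n.conj_mem _ h2 g
      convert this using 1
      group⟩⟩
    have hU' : ∀ x ∈ U, ∀ d ∈ ⁅T, T⁆, x * d = d * x := by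
      intro x hx d hd
      let C : Subgroup G := Subgroup.centralizer {x}
      have hle : ⁅T, T⁆ ≤ C := by
        rw [Subgroup.commutator_le]
        intro s hs t ht
        rw [Subgroup.mem_centralizer_singleton_iff]
        set p := x * s * x⁻¹ * s⁻¹
        set q := x * t * x⁻¹ * t⁻¹
        have hp := hZ₀c p (hx.2 s hs)
        have hq := hZ₀c q (hx.2 t ht)
        have hsx : x * s * x⁻¹ = p * s := by simp only [p]; group
        have htx : x * t * x⁻¹ = q * t := by simp only [q]; group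
        have : x * ⁅s, t⁆ * x⁻¹ = ⁅s, t⁆ := by
          rw [commutatorElement_def]
          calc x * (s * t * s⁻¹ * t⁻¹) * x⁻¹
              = (x * s * x⁻¹) * (x * t * x⁻¹) * (x * s * x⁻¹)⁻¹ * (x * t * x⁻¹)⁻¹ := by group
            _ = (p * s) * (q * t) * (p * s)⁻¹ * (q * t)⁻¹ := by rw [hsx, htx]
            _ = p * (s * q) * t * (s⁻¹ * p⁻¹) * (t⁻¹ * q⁻¹) := by group
            _ = p * (q * s) * t * (p⁻¹ * s⁻¹) * (q⁻¹ * t⁻¹) := by
                rw [hq s, hZ₀c _ (Z₀.inv_mem (hx.2 s hs)) s⁻¹,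
                  hZ₀c _ (Z₀.inv_mem (hx.2 t ht)) t⁻¹]
            _ = p * q * ((s * t) * p⁻¹) * s⁻¹ * q⁻¹ * t⁻¹ := by group
            _ = p * q * (p⁻¹ * (s * t)) * s⁻¹ * q⁻¹ * t⁻¹ := by
                rw [hZ₀c _ (Z₀.inv_mem (hx.2 s hs)) (s * t)]
            _ = p * q * p⁻¹ * ((s * t * s⁻¹) * q⁻¹) * t⁻¹ := by group
            _ = p * q * p⁻¹ * (q⁻¹ * (s * t * s⁻¹)) * t⁻¹ := by
                rw [hZ₀c _ (Z₀.inv_mem (hx.2 t ht)) (s * t * s⁻¹)]
            _ = (p * q) * p⁻¹ * q⁻¹ * (s * t * s⁻¹ * t⁻¹) := by group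
            _ = (q * p) * p⁻¹ * q⁻¹ * (s * t * s⁻¹ * t⁻¹) := by rw [hp q]
            _ = _ := by group
        exact (mul_inv_eq_iff_eq_mul.1 this).symm
      exact ((Subgroup.mem_centralizer_singleton_iff).1 (hle hd)).symm
    haveI := hUn
    have hAsc := sc_of_abelian S hns (A := ⁅T, T⁆ ⊓ U) inferInstance
      (fun y hy => (hy.2.1 : y ∈ T).2) (hT2.to_le fun y hy => hy.2.1)
      (fun x hx y hy => hU' x hx.2 y hy.1)
    -- find an element of the intersection outside `Z₀`
    have hlt : Z₀.subgroupOf T < (⁅T, T⁆ ⊔ Z₀).subgroupOf T := by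
      refine lt_of_le_of_ne (fun x hx => Subgroup.mem_sup_right (S := ⁅T, T⁆) hx) fun e => hnot ?_
      intro d hd
      have hdT : d ∈ T := Subgroup.commutator_le_self T hd
      have : (⟨d, hdT⟩ : T) ∈ (⁅T, T⁆ ⊔ Z₀).subgroupOf T := Subgroup.mem_sup_left (T := Z₀) hd
      rw [← e] at this
      exact this
    obtain ⟨x, hxN, hxB, -, hx⟩ := Cfsg.Agent.PGroups.AbelianNormal.exists_step hT2 hlt
    have hxU : (x : G) ∈ U := ⟨x.2, fun t ht => by
      have := hx ⟨t, ht⟩
      have he : (x : G) * t * (x : G)⁻¹ * t⁻¹ = (t * x * t⁻¹ * (x : G)⁻¹)⁻¹ := by group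
      rw [he]
      exact Z₀.inv_mem this⟩
    obtain ⟨d, hd, e, he, hde⟩ := Subgroup.mem_sup_of_normal_right.1
      (show (x : G) ∈ ⁅T, T⁆ ⊔ Z₀ from hxN)
    have heU : e ∈ U := by
      refine ⟨?_, fun t _ => ?_⟩
      · rcases he with rfl | rfl
        exacts [T.one_mem, hzT]
      · rw [hZ₀c e he t, mul_inv_cancel_right, mul_inv_cancel]; exact Z₀.one_mem
    have hdU : d ∈ U := by
      rw [show d = (x : G) * e⁻¹ by rw [← hde, mul_inv_cancel_right]]
      exact U.mul_mem hxU (U.inv_mem heU)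
    refine hxB ?_
    show (x : G) ∈ Z₀
    rw [← hde]
    exact Z₀.mul_mem (sc_cases S.inj hneg (hAsc d ⟨hd, hdU⟩)) he
  have hcom : ∀ x ∈ T, ∀ y ∈ T, x * y = y * x ∨ x * y = y * x * z := by
    intro x hx y hy
    have h : ⁅x, y⁆ ∈ Z₀ := hclass (Subgroup.commutator_mem_commutator hx hy)
    rcases h with e | e
    · exact Or.inl (commutatorElement_eq_one_iff_mul_comm.1 e)
    · right
      rw [commutatorElement_def] at e
      rw [← hzc, ← e]; group
  refine ⟨T, z, S, hTn, inf_le_right, hT2, hmax, hcent, hzT, hneg, fun x hx => ?_, hcom, hcentre⟩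
  refine hcentre _ (T.mul_mem hx hx) fun y hy => ?_
  rcases hcom x hx y hy with e | e
  · rw [mul_assoc, e, ← mul_assoc, e, mul_assoc]
  · calc x * x * y = x * (y * x * z) := by rw [mul_assoc, e]
      _ = (x * y) * x * z := by group
      _ = y * x * z * x * z := by rw [e]
      _ = y * x * (z * x) * z := by group
      _ = y * x * x * (z * z) := by rw [hzc]; group
      _ = y * (x * x) := by rw [hzz, mul_one, mul_assoc]

namespace Core

variable (C : Core ρ R T b a₁ a₂ z)
include C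

theorem zc (g : G) : z * g = g * z := sc_comm C.setting.inj (Or.inr C.neg) g

theorem zz : z * z = 1 := eq_of_app C.setting.inj fun v => by
  rw [mul_app, C.neg, C.neg, neg_neg, one_app]

theorem bconj {t : G} (ht : t ∈ T) : b * t * b⁻¹ ∈ T := C.normal.conj_mem t ht b

theorem zconj (g : G) : g * z * g⁻¹ = z := by rw [← C.zc, mul_inv_cancel_right]

theorem moved_ne {a : G} (h : b * a * b⁻¹ ≠ a) : a ≠ z ∧ a ≠ 1 := by
  constructor <;> rintro rfl
  · exact h (C.zconj b)
  · exact h (by group)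

theorem exists_moved : ∃ u ∈ T, b * u ≠ u * b := by
  by_contra h
  push Not at h
  haveI := C.normal
  have hc := C.setting.central_of_b h
  have hRT : ∀ r ∈ R, r ∈ T := fun r hr => C.cent r hr fun t ht => (hc r hr t ht).symm
  exact C.setting.four.moved (by
    rw [h a₁ (hRT _ C.setting.mem)]; group)

/-- `T` contains a four-group permuted by `b`. -/
theorem exists_four : ∃ a a' : G, a ∈ T ∧ Four b a a' := by
  obtain ⟨u, hu, hbu⟩ := C.exists_moved
  have hz3 : z * z * z = z := by rw [C.zz, one_mul]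
  set x := u⁻¹ * (b * u * b⁻¹) with hxdef
  have hxT : x ∈ T := T.mul_mem (T.inv_mem hu) (C.bconj hu)
  have hcube := C.setting.cubic.cube
  have hx1 : x ≠ 1 := fun e => hbu (by
    have := mul_eq_one_iff_inv_eq.1 e
    rw [inv_inv] at this
    conv_rhs => rw [this]
    group)
  rcases C.sq x hxT with hsq | hsq
  · exact ⟨x, _, hxT, four_of hcube hxdef hsq hx1⟩
  by_contra hno
  set x₂ := b * x * b⁻¹ with hx₂def
  have hx₂T : x₂ ∈ T := C.bconj hxT
  have hsq₂ : x₂ * x₂ = z := by
    rw [hx₂def, show b * x * b⁻¹ * (b * x * b⁻¹) = b * (x * x) * b⁻¹ by group, hsq, C.zconj]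
  have hb3 : b * b * b = 1 := by rw [← hcube]; simp [pow_succ, mul_assoc]
  have htel : x * x₂ * (b * x₂ * b⁻¹) = 1 := by
    calc x * x₂ * (b * x₂ * b⁻¹) = u⁻¹ * ((b * b * b) * u * (b * b * b)⁻¹) := by
          rw [hx₂def, hxdef]; group
      _ = 1 := by rw [hb3]; group
  have hx₃ : b * x₂ * b⁻¹ = (x * x₂)⁻¹ := eq_inv_of_mul_eq_one_right htel
  have hb₃ : b * (x * x₂)⁻¹ * b⁻¹ = x := by
    calc b * (x * x₂)⁻¹ * b⁻¹ = b * (b * (b * x * b⁻¹) * b⁻¹) * b⁻¹ := by rw [← hx₃, hx₂def]
      _ = (b * b * b) * x * (b * b * b)⁻¹ := by group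
      _ = x := by rw [hb3]; group
  have hanti : x * x₂ = x₂ * x * z := by
    have h3 : x * x₂ * (x * x₂) = z := by
      have e : (x * x₂)⁻¹ * (x * x₂)⁻¹ = z := by
        rw [← hx₃, show b * x₂ * b⁻¹ * (b * x₂ * b⁻¹) = b * (x₂ * x₂) * b⁻¹ by group, hsq₂, C.zconj]
      rw [← mul_inv_rev, inv_eq_iff_eq_inv, inv_eq_of_mul_eq_one_right C.zz] at e
      exact e
    rcases C.com x hxT x₂ hx₂T with e | e
    · exfalso
      have h4 : x * x * (x₂ * x₂) = z := by
        calc x * x * (x₂ * x₂) = x * (x * x₂) * x₂ := by group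
          _ = x * (x₂ * x) * x₂ := by rw [e]
          _ = x * x₂ * (x * x₂) := by group
          _ = z := h3
      rw [hsq, hsq₂, C.zz] at h4
      exact hx1 (by
        refine eq_of_app C.setting.inj fun v => ?_
        have hv := C.neg v
        rw [← h4, one_app] at hv
        rw [eq_zero_of_eq_neg hv, map_zero, map_zero])
    · exact e
  have hnox : ¬ x₂ * x = x * x₂ := fun e => by
    rw [← e, left_eq_mul] at hanti
    exact hx1 (eq_of_app C.setting.inj fun v => by
      have hv := C.neg v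
      rw [hanti, one_app] at hv
      rw [eq_zero_of_eq_neg hv, map_zero, map_zero])
  -- the centraliser of `x` and `x₂` in `T` is fixed by `b`
  have hfix : ∀ c ∈ T, c * x = x * c → c * x₂ = x₂ * c → b * c = c * b := by
    intro u' hu' h1 h2
    by_contra hne
    set x' := u'⁻¹ * (b * u' * b⁻¹) with hx'def
    have hx'T : x' ∈ T := T.mul_mem (T.inv_mem hu') (C.bconj hu')
    have hx'1 : x' ≠ 1 := fun e => hne (by
      have := mul_eq_one_iff_inv_eq.1 e
      rw [inv_inv] at this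
      conv_rhs => rw [this]
      group)
    rcases C.sq x' hx'T with e | e
    · exact hno ⟨x', _, hx'T, four_of hcube hx'def e hx'1⟩
    have hc3 : u' * (x * x₂)⁻¹ = (x * x₂)⁻¹ * u' :=
      ((show Commute u' x from h1).mul_right (show Commute u' x₂ from h2)).inv_right.eq
    have hbu'x : (b * u' * b⁻¹) * x = x * (b * u' * b⁻¹) := by
      conv_lhs => rw [← hb₃]
      conv_rhs => rw [← hb₃]
      calc b * u' * b⁻¹ * (b * (x * x₂)⁻¹ * b⁻¹) = b * (u' * (x * x₂)⁻¹) * b⁻¹ := by group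
        _ = b * ((x * x₂)⁻¹ * u') * b⁻¹ := by rw [hc3]
        _ = _ := by group
    have hbu'x₂ : (b * u' * b⁻¹) * x₂ = x₂ * (b * u' * b⁻¹) := by
      rw [hx₂def, show b * u' * b⁻¹ * (b * x * b⁻¹) = b * (u' * x) * b⁻¹ by group, h1]; group
    have hcx : x' * x = x * x' :=
      ((show Commute u' x from h1).inv_left.mul_left hbu'x).eq
    have hcx₂ : x' * x₂ = x₂ * x' :=
      ((show Commute u' x₂ from h2).inv_left.mul_left hbu'x₂).eq
    have hyeq : (u * u')⁻¹ * (b * (u * u') * b⁻¹) = x * x' := by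
      calc (u * u')⁻¹ * (b * (u * u') * b⁻¹) = u'⁻¹ * x * (b * u' * b⁻¹) := by
            rw [hxdef]; group
        _ = x * u'⁻¹ * (b * u' * b⁻¹) := by
            rw [(show Commute u' x from h1).inv_left.eq]
        _ = x * x' := by rw [hx'def]; group
    have hysq : x * x' * (x * x') = 1 := by
      calc x * x' * (x * x') = x * (x' * x) * x' := by group
        _ = x * (x * x') * x' := by rw [hcx]
        _ = (x * x) * (x' * x') := by group
        _ = 1 := by rw [hsq, e, C.zz]
    have hy1 : x * x' ≠ 1 := fun e' => hnox (by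
      have e2 : x' = x⁻¹ := eq_inv_of_mul_eq_one_right e'
      rw [e2] at hcx₂
      calc x₂ * x = x * (x⁻¹ * x₂) * x := by group
        _ = x * (x₂ * x⁻¹) * x := by rw [hcx₂]
        _ = _ := by group)
    exact hno ⟨x * x', _, T.mul_mem hxT hx'T, four_of hcube hyeq.symm hysq hy1⟩
  obtain ⟨v₀, hv₀, heig⟩ := exists_eigen C.setting.cubic
  have hCc : ∀ c ∈ T, c * x = x * c → c * x₂ = x₂ * c → ∀ d ∈ T, d * x = x * d →
      d * x₂ = x₂ * d → c * d = d * c := by
    intro c hc c1 c2 d hd d1 d2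
    rcases C.com c hc d hd with e | e
    · exact e
    exfalso
    have hv : ρ (c * d) v₀ = ρ (d * c) v₀ := by
      rw [mul_app, mul_app]
      rcases heig c (hfix c hc c1 c2).symm with a | a <;>
        rcases heig d (hfix d hd d1 d2).symm with a' | a' <;> simp [a, a', map_neg]
    rw [e, mul_app (d * c) z, C.neg, map_neg] at hv
    exact hv₀ (inj_app (ρ := ρ) (d * c) (by rw [map_zero]; exact eq_zero_of_eq_neg hv.symm))
  have hCdec : ∀ t ∈ T, ∃ p, (p = 1 ∨ p = x ∨ p = x₂ ∨ p = x * x₂) ∧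
      (t * p) * x = x * (t * p) ∧ (t * p) * x₂ = x₂ * (t * p) := by
    intro t ht
    have hx2c : x * x = x * x := rfl
    have key1 : ∀ {p q : G}, t * q = q * t * z → p * q = q * p * z →
        t * p * q = q * (t * p) := by
      intro p q e1 e2
      calc t * p * q = t * (q * p * z) := by rw [mul_assoc, e2]
        _ = (t * q) * p * z := by group
        _ = q * t * z * p * z := by rw [e1]
        _ = q * t * (z * p) * z := by group
        _ = q * (t * p) * (z * z) := by rw [C.zc]; group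
        _ = q * (t * p) := by rw [C.zz, mul_one]
    have key0 : ∀ {p q : G}, t * q = q * t → p * q = q * p → t * p * q = q * (t * p) :=
      fun {p q} e1 e2 => ((show Commute t q from e1).mul_left (show Commute p q from e2)).eq
    have hx₂x : x₂ * x = x * x₂ * z := by
      rw [hanti, mul_assoc (x₂ * x) z z, C.zz, mul_one]
    rcases C.com t ht x hxT with e1 | e1 <;> rcases C.com t ht x₂ hx₂T with e2 | e2
    · exact ⟨1, Or.inl rfl, by simpa using e1, by simpa using e2⟩
    · exact ⟨x, Or.inr (Or.inl rfl), key0 e1 rfl, key1 e2 hanti⟩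
    · exact ⟨x₂, Or.inr (Or.inr (Or.inl rfl)), key1 e1 hx₂x, key0 e2 rfl⟩
    · refine ⟨x * x₂, Or.inr (Or.inr (Or.inr rfl)), key1 e1 ?_, key1 e2 ?_⟩
      · calc x * x₂ * x = x * (x₂ * x) := by group
          _ = x * (x * x₂ * z) := by rw [hx₂x]
          _ = _ := by group
      · calc x * x₂ * x₂ = x₂ * x * z * x₂ := by rw [← hanti]
          _ = x₂ * (x * (z * x₂)) := by group
          _ = x₂ * (x * x₂) * z := by rw [C.zc]; group
  have hctr : ∀ c ∈ T, c * x = x * c → c * x₂ = x₂ * c → c = 1 ∨ c = z := by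
    intro c hc c1 c2
    refine C.centre c hc fun t ht => ?_
    obtain ⟨p, hp, t1, t2⟩ := hCdec t ht
    have hpT : p ∈ T := by
      rcases hp with rfl | rfl | rfl | rfl
      exacts [T.one_mem, hxT, hx₂T, T.mul_mem hxT hx₂T]
    have hcp : Commute c p := by
      rcases hp with rfl | rfl | rfl | rfl
      exacts [Commute.one_right c, c1, c2,
        (show Commute c x from c1).mul_right (show Commute c x₂ from c2)]
    have h := (show Commute c (t * p) from hCc c hc c1 c2 _ (T.mul_mem ht hpT) t1 t2).mul_right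
      hcp.inv_right
    rw [mul_inv_cancel_right] at h
    exact h.eq
  have hclasses : ∀ t ∈ T, t * t = 1 → t = 1 ∨ t = z := by
    intro t ht htt
    obtain ⟨p, hp, t1, t2⟩ := hCdec t ht
    have hpT : p ∈ T := by
      rcases hp with rfl | rfl | rfl | rfl
      exacts [T.one_mem, hxT, hx₂T, T.mul_mem hxT hx₂T]
    rcases hp with rfl | hp
    · rw [mul_one] at t1 t2; exact hctr t ht t1 t2
    exfalso
    have hpp : p * p = z := by
      rcases hp with rfl | rfl | rfl
      · exact hsq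
      · exact hsq₂
      · calc x * x₂ * (x * x₂) = x * (x₂ * x) * x₂ := by group
          _ = x * (x * x₂ * z) * x₂ := by rw [hanti, mul_assoc _ z, C.zz, mul_one]
          _ = (x * x) * (x₂ * (z * x₂)) := by group
          _ = z * (x₂ * x₂ * z) := by rw [C.zc, hsq]; group
          _ = z := by rw [hsq₂, C.zz, mul_one]
    have ht' : t = (t * p) * p⁻¹ := (mul_inv_cancel_right t p).symm
    have hzne : z ≠ 1 := fun e => hx1 (eq_of_app C.setting.inj fun v => by
      have hv := C.neg v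
      rw [e, one_app] at hv
      rw [eq_zero_of_eq_neg hv, map_zero, map_zero])
    refine hzne ?_
    have hpi : p⁻¹ * p⁻¹ = z := by
      rw [← mul_inv_rev, hpp, inv_eq_of_mul_eq_one_right C.zz]
    rcases hctr _ (T.mul_mem ht hpT) t1 t2 with e | e <;> rw [e] at ht'
    · rw [ht', one_mul, hpi] at htt; exact htt
    · rw [ht', show z * p⁻¹ * (z * p⁻¹) = z * (p⁻¹ * z) * p⁻¹ by group, ← C.zc,
        show z * (z * p⁻¹) * p⁻¹ = (z * z) * (p⁻¹ * p⁻¹) by group, C.zz, one_mul, hpi] at htt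
      exact htt
  -- elements preserving every class
  let P : G → G → Prop := fun g t => g * t * g⁻¹ = t ∨ g * t * g⁻¹ = t * z
  have hP2 : ∀ {g s t}, P g s → P g t → P g (s * t) := by
    intro g s t hs ht
    have e : g * (s * t) * g⁻¹ = (g * s * g⁻¹) * (g * t * g⁻¹) := by group
    rcases hs with hs | hs <;> rcases ht with ht | ht <;> simp only [P, e, hs, ht]
    · exact Or.inl trivial
    · right; group
    · right; rw [mul_assoc s z, C.zc]; group
    · left
      rw [show s * z * (t * z) = s * (z * t) * z by group, C.zc,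
        show s * (t * z) * z = s * t * (z * z) by group, C.zz, mul_one]
  have hPinv : ∀ {g t}, P g t → P g t⁻¹ := by
    intro g t ht
    have e : g * t⁻¹ * g⁻¹ = (g * t * g⁻¹)⁻¹ := by group
    rcases ht with ht | ht <;> simp only [P, e, ht]
    · exact Or.inl trivial
    · right; rw [mul_inv_rev, inv_eq_of_mul_eq_one_right C.zz, C.zc]
  have hPz : ∀ g, P g z := fun g => Or.inl (C.zconj g)
  have hPall : ∀ g, P g x → P g x₂ → ∀ t ∈ T, P g t := by
    intro g g1 g2 t ht
    obtain ⟨p, hp, t1, t2⟩ := hCdec t ht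
    have hpT : p ∈ T := by
      rcases hp with rfl | rfl | rfl | rfl
      exacts [T.one_mem, hxT, hx₂T, T.mul_mem hxT hx₂T]
    have hPp : P g p := by
      rcases hp with rfl | rfl | rfl | rfl
      exacts [Or.inl (by group), g1, g2, hP2 g1 g2]
    have : P g ((t * p) * p⁻¹) := hP2 (by
      rcases hctr _ (T.mul_mem ht hpT) t1 t2 with e | e <;> rw [e]
      · exact Or.inl (by group)
      · exact hPz g) (hPinv hPp)
    rwa [mul_inv_cancel_right] at this
  have h4 := C.setting.four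
  -- `a₁` preserves one of the three classes
  let x₃ := (x * x₂)⁻¹
  have hclass3 : ∀ t ∈ T, t = 1 ∨ t = z ∨ ∃ y, (y = x ∨ y = x₂ ∨ y = x₃) ∧ (t = y ∨ t = y * z) := by
    intro t ht
    obtain ⟨p, hp, t1, t2⟩ := hCdec t ht
    have hpT : p ∈ T := by
      rcases hp with rfl | rfl | rfl | rfl
      exacts [T.one_mem, hxT, hx₂T, T.mul_mem hxT hx₂T]
    have ht' : t = (t * p) * p⁻¹ := (mul_inv_cancel_right t p).symm
    have hxi : x⁻¹ = x * z := inv_eq_of_mul_eq_one_right (by rw [← mul_assoc, hsq, C.zz])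
    have hxi₂ : x₂⁻¹ = x₂ * z := inv_eq_of_mul_eq_one_right (by rw [← mul_assoc, hsq₂, C.zz])
    rcases hctr _ (T.mul_mem ht hpT) t1 t2 with e | e <;> rw [e] at ht' <;>
      rcases hp with rfl | rfl | rfl | rfl
    · left; simpa using ht'
    · refine Or.inr (Or.inr ⟨x, Or.inl rfl, Or.inr ?_⟩); rw [ht', one_mul, hxi]
    · refine Or.inr (Or.inr ⟨x₂, Or.inr (Or.inl rfl), Or.inr ?_⟩); rw [ht', one_mul, hxi₂]
    · refine Or.inr (Or.inr ⟨x₃, Or.inr (Or.inr rfl), Or.inl ?_⟩); rw [ht', one_mul]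
    · right; left; simpa using ht'
    · refine Or.inr (Or.inr ⟨x, Or.inl rfl, Or.inl ?_⟩)
      rw [ht', hxi, C.zc, mul_assoc, C.zz, mul_one]
    · refine Or.inr (Or.inr ⟨x₂, Or.inr (Or.inl rfl), Or.inl ?_⟩)
      rw [ht', hxi₂, C.zc, mul_assoc, C.zz, mul_one]
    · refine Or.inr (Or.inr ⟨x₃, Or.inr (Or.inr rfl), Or.inr ?_⟩); rw [ht', C.zc]
  let Q : G → G → G → Prop := fun g s t => g * s * g⁻¹ = t ∨ g * s * g⁻¹ = t * z
  have hQswap : ∀ {g s t}, g * g = 1 → Q g s t → Q g t s := by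
    intro g s t hg hs
    have hgi : g⁻¹ = g := inv_eq_of_mul_eq_one_right hg
    rcases hs with e | e
    · left
      calc g * t * g⁻¹ = g * (g * s * g⁻¹) * g⁻¹ := by rw [e]
        _ = (g * g) * s * (g * g)⁻¹ := by group
        _ = s := by rw [hg]; group
    · right
      calc g * t * g⁻¹ = (g * (t * z) * g⁻¹) * (g * z * g⁻¹)⁻¹ := by group
        _ = (g * (g * s * g⁻¹) * g⁻¹) * z := by
            rw [e, C.zconj, inv_eq_of_mul_eq_one_right C.zz]
        _ = (g * g) * s * (g * g)⁻¹ * z := by group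
        _ = s * z := by rw [hg]; group
  have hQmul : ∀ {g s s' t t'}, Q g s t → Q g s' t' → Q g (s * s') (t * t') := by
    intro g s s' t t' h h'
    have e : g * (s * s') * g⁻¹ = (g * s * g⁻¹) * (g * s' * g⁻¹) := by group
    rcases h with h | h <;> rcases h' with h' | h' <;> simp only [Q, e, h, h']
    · exact Or.inl trivial
    · right; group
    · right; rw [mul_assoc t z, C.zc]; group
    · left
      rw [show t * z * (t' * z) = t * (z * t') * z by group, C.zc,
        show t * (t' * z) * z = t * t' * (z * z) by group, C.zz, mul_one]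
  have hQinv : ∀ {g s t}, Q g s t → Q g s⁻¹ t⁻¹ := by
    intro g s t h
    have e : g * s⁻¹ * g⁻¹ = (g * s * g⁻¹)⁻¹ := by group
    rcases h with h | h <;> simp only [Q, e, h]
    · exact Or.inl trivial
    · right; rw [mul_inv_rev, inv_eq_of_mul_eq_one_right C.zz, C.zc]
  have hQz : ∀ {g s t}, Q g s (t * z) → Q g s t := by
    intro g s t h
    rcases h with h | h
    · exact Or.inr h
    · left; rw [h, mul_assoc, C.zz, mul_one]
  have himg : ∀ {g}, g ∈ R → ∃ y, (y = x ∨ y = x₂ ∨ y = x₃) ∧ Q g x y := by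
    intro g _
    rcases hclass3 _ (C.normal.conj_mem x hxT g) with e | e | ⟨y, hy, e⟩
    · exact absurd (by simpa using e) hx1
    · exfalso
      have : x = z := by
        calc x = g⁻¹ * (g * x * g⁻¹) * g := by group
          _ = g⁻¹ * z * g⁻¹⁻¹ := by rw [e, inv_inv]
          _ = z := C.zconj g⁻¹
      exact hnox (by rw [this, C.zc])
    · exact ⟨y, hy, e⟩
  have hone : P a₁ x ∨ P a₁ x₂ ∨ P a₁ x₃ := by
    obtain ⟨y, hy, hQ⟩ := himg C.setting.mem
    rcases hy with rfl | rfl | rfl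
    · exact Or.inl hQ
    · right; right
      have h' := hQinv (hQmul hQ (hQswap h4.sq₁ hQ))
      show Q a₁ x₃ x₃
      have hswap : (x₂ * x)⁻¹ = x₃ * z := by
        rw [show x₂ * x = x * x₂ * z by rw [hanti, mul_assoc (x₂ * x) z z, C.zz, mul_one], mul_inv_rev,
          inv_eq_of_mul_eq_one_right C.zz, C.zc]
      rw [hswap] at h'
      exact hQz h'
    · right; left
      have hQ' : Q a₁ x x₃ := hQ
      have h' := hQinv (hQmul (hQswap h4.sq₁ hQ') hQ')
      show Q a₁ x₂ x₂
      have e1 : (x₃ * x)⁻¹ = x⁻¹ * x * x₂ := by simp only [x₃]; group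
      have e2 : (x * x₃)⁻¹ = x * x₂ * x⁻¹ := by simp only [x₃]; group
      rw [e1, e2, inv_mul_cancel, one_mul, hanti, mul_assoc x₂ x z, ← C.zc x,
        show x₂ * (z * x) * x⁻¹ = x₂ * z by group] at h'
      exact hQz h'
  have hbP : ∀ {g t}, P g t → P (b * g * b⁻¹) (b * t * b⁻¹) := by
    intro g t h
    have e : b * g * b⁻¹ * (b * t * b⁻¹) * (b * g * b⁻¹)⁻¹ = b * (g * t * g⁻¹) * b⁻¹ := by group
    rcases h with h | h <;> simp only [P, e, h]
    · exact Or.inl trivial
    · right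
      rw [show b * (t * z) * b⁻¹ = (b * t * b⁻¹) * (b * z * b⁻¹) by group, C.zconj]
  have hcommP : ∀ {g h t}, g * h = h * g → P h t → P h (g * t * g⁻¹) := by
    intro g h t e hh
    have e' : h * (g * t * g⁻¹) * h⁻¹ = g * (h * t * h⁻¹) * g⁻¹ := by
      calc h * (g * t * g⁻¹) * h⁻¹ = (h * g) * t * (h * g)⁻¹ := by group
        _ = (g * h) * t * (g * h)⁻¹ := by rw [e]
        _ = _ := by group
    rcases hh with hh | hh <;> simp only [P, e', hh]
    · exact Or.inl trivial
    · right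
      rw [show g * (t * z) * g⁻¹ = (g * t * g⁻¹) * (g * z * g⁻¹) by group, C.zconj]
  have hPofQ : ∀ {g s t}, Q g s t → ∀ {h}, P h (g * s * g⁻¹) → P h t := by
    intro g s t hq h hp
    rcases hq with e | e <;> rw [e] at hp
    · exact hp
    · have := hP2 hp (hPz h); rwa [mul_assoc, C.zz, mul_one] at this
  -- hence `a₁` preserves all classes
  have htwoclass : ∀ {g}, ((P g x ∧ P g x₂) ∨ (P g x₂ ∧ P g x₃) ∨ (P g x₃ ∧ P g x)) →
      P g x ∧ P g x₂ := by
    intro g h
    rcases h with h | ⟨h, h'⟩ | ⟨h', h⟩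
    · exact h
    · refine ⟨?_, h⟩
      have := hP2 (hPinv h') (hPinv h)
      simpa [x₃] using this
    · refine ⟨h, ?_⟩
      have := hP2 (hPinv h) (hPinv h')
      simpa [x₃] using this
  have hbx₂ : b * x₂ * b⁻¹ = x₃ := hx₃
  have hall : P a₁ x ∧ P a₁ x₂ := by
    refine htwoclass ?_
    have hc : a₁ * a₂ = a₂ * a₁ := h4.comm
    obtain ⟨y, y', hy, e, hPy⟩ : ∃ y y', ((y = x ∧ y' = x₂) ∨ (y = x₂ ∧ y' = x₃) ∨
        (y = x₃ ∧ y' = x)) ∧ b * y * b⁻¹ = y' ∧ P a₁ y := by
      rcases hone with h | h | h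
      exacts [⟨x, x₂, Or.inl ⟨rfl, rfl⟩, rfl, h⟩, ⟨x₂, x₃, Or.inr (Or.inl ⟨rfl, rfl⟩), hbx₂, h⟩,
        ⟨x₃, x, Or.inr (Or.inr ⟨rfl, rfl⟩), hb₃, h⟩]
    have hP2y' : P a₂ y' := by rw [← h4.conj₁, ← e]; exact hbP hPy
    have hP2z := hbP hP2y'
    rw [h4.conj₂] at hP2z
    have hy'' : b * y' * b⁻¹ = x ∨ b * y' * b⁻¹ = x₂ ∨ b * y' * b⁻¹ = x₃ := by
      rcases hy with ⟨-, rfl⟩ | ⟨-, rfl⟩ | ⟨-, rfl⟩
      exacts [Or.inr (Or.inr hbx₂), Or.inl hb₃, Or.inr (Or.inl rfl)]
    -- `a₂` preserves the class of the image of `y'` under `a₁`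
    have hmove := hcommP (g := a₁) hc hP2y'
    have hyimg : ∀ w, (w = x ∨ w = x₂ ∨ w = x₃) → ∃ w', (w' = x ∨ w' = x₂ ∨ w' = x₃) ∧ Q a₁ w w' := by
      intro w hw
      have hwT : w ∈ T := by
        rcases hw with rfl | rfl | rfl
        exacts [hxT, hx₂T, T.inv_mem (T.mul_mem hxT hx₂T)]
      rcases hclass3 _ (C.normal.conj_mem w hwT a₁) with e' | e' | ⟨w', hw', e'⟩
      · exfalso
        have hw1 : w = 1 := by simpa using e'
        rcases hw with rfl | rfl | rfl
        · exact hx1 hw1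
        · exact hnox (by rw [hw1, one_mul, mul_one])
        · exact hnox (by
            have : x₂ = x⁻¹ := by
              have := inv_eq_one.1 hw1
              exact eq_inv_of_mul_eq_one_right this
            rw [this]; group)
      · exfalso
        have hwz : w = z := by
          calc w = a₁⁻¹ * (a₁ * w * a₁⁻¹) * a₁ := by group
            _ = a₁⁻¹ * z * a₁⁻¹⁻¹ := by rw [e', inv_inv]
            _ = z := C.zconj a₁⁻¹
        rcases hw with rfl | rfl | rfl
        · exact hnox (by rw [hwz, C.zc])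
        · exact hnox (by rw [hwz, C.zc])
        · exact hnox (by
            have h' : x * x₂ = z := by
              rw [← inv_inv (x * x₂), show (x * x₂)⁻¹ = z from hwz,
                inv_eq_of_mul_eq_one_right C.zz]
            have : x₂ = x⁻¹ * z := by rw [← h']; group
            rw [this, mul_assoc, C.zc]; group)
      · exact ⟨w', hw', e'⟩
    obtain ⟨w', hw', hQw⟩ := hyimg y' (by
      rcases hy with ⟨-, rfl⟩ | ⟨-, rfl⟩ | ⟨-, rfl⟩
      exacts [Or.inr (Or.inl rfl), Or.inr (Or.inr rfl), Or.inl rfl])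
    have hPw' : P a₂ w' := hPofQ hQw hmove
    -- `a₂` fixes `y'` and `w'`
    by_cases hsame : w' = y'
    · subst hsame
      have hPy' : P a₁ w' := hQw
      rcases hy with ⟨rfl, rfl⟩ | ⟨rfl, rfl⟩ | ⟨rfl, rfl⟩
      exacts [Or.inl ⟨hPy, hPy'⟩, Or.inr (Or.inl ⟨hPy, hPy'⟩), Or.inr (Or.inr ⟨hPy, hPy'⟩)]
    · have h2all : P a₂ x ∧ P a₂ x₂ := by
        refine htwoclass ?_
        rcases hy with ⟨rfl, rfl⟩ | ⟨rfl, rfl⟩ | ⟨rfl, rfl⟩ <;>
          rcases hw' with rfl | rfl | rfl <;>
          first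
          | exact absurd rfl hsame
          | exact Or.inl ⟨hPw', hP2y'⟩
          | exact Or.inl ⟨hP2y', hPw'⟩
          | exact Or.inr (Or.inl ⟨hPw', hP2y'⟩)
          | exact Or.inr (Or.inl ⟨hP2y', hPw'⟩)
          | exact Or.inr (Or.inr ⟨hPw', hP2y'⟩)
          | exact Or.inr (Or.inr ⟨hP2y', hPw'⟩)
      have ha1 : b * (a₁ * a₂) * b⁻¹ = a₁ := h4.conj₃
      have h3x₂ : P (a₁ * a₂) x₂ := by rw [← h4.conj₂]; exact hbP h2all.1
      have h3x₃ : P (a₁ * a₂) x₃ := by rw [← h4.conj₂, ← hbx₂]; exact hbP h2all.2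
      have h1x₃ : P a₁ x₃ := by rw [← ha1, ← hbx₂]; exact hbP h3x₂
      have h1x : P a₁ x := by rw [← ha1, ← hb₃]; exact hbP h3x₃
      exact Or.inr (Or.inr ⟨h1x₃, h1x⟩)
  -- so `a₁` lies in the 2-group of elements fixing every class
  let K : Subgroup G :=
    { carrier := {g | g ∈ R ∧ ∀ t ∈ T, P g t}
      one_mem' := ⟨R.one_mem, fun t _ => Or.inl (by group)⟩
      mul_mem' := fun {g h} hg hh => ⟨R.mul_mem hg.1 hh.1, fun t ht => by
        have e : g * h * t * (g * h)⁻¹ = g * (h * t * h⁻¹) * g⁻¹ := by group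
        rcases hh.2 t ht with e1 | e1
        · rcases hg.2 t ht with e2 | e2 <;> simp only [P, e, e1, e2]
          · exact Or.inl trivial
          · exact Or.inr trivial
        · have e3 : g * (t * z) * g⁻¹ = (g * t * g⁻¹) * (g * z * g⁻¹) := by group
          rcases hg.2 t ht with e2 | e2 <;> simp only [P, e, e1, e3, e2, C.zconj]
          · exact Or.inr trivial
          · left; rw [mul_assoc, C.zz, mul_one]⟩
      inv_mem' := fun {g} hg => ⟨R.inv_mem hg.1, fun t ht => by
        rcases hg.2 t ht with e | e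
        · left; conv_lhs => rw [← e]
          group
        · right
          calc g⁻¹ * t * g⁻¹⁻¹ = g⁻¹ * ((t * z) * z) * g⁻¹⁻¹ := by
                rw [mul_assoc t, C.zz, mul_one]
            _ = g⁻¹ * ((g * t * g⁻¹) * z) * g⁻¹⁻¹ := by rw [e]
            _ = t * (g⁻¹ * z * g⁻¹⁻¹) := by group
            _ = t * z := by rw [C.zconj]⟩ }
  have hKn : K.Normal := ⟨fun g hg c => ⟨C.setting.normal.conj_mem g hg.1 c, fun t ht => by
    have ht' : c⁻¹ * t * c ∈ T := by
      have := C.normal.conj_mem t ht c⁻¹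
      rwa [inv_inv] at this
    have e : c * g * c⁻¹ * t * (c * g * c⁻¹)⁻¹ = c * (g * (c⁻¹ * t * c) * g⁻¹) * c⁻¹ := by group
    rcases hg.2 _ ht' with e' | e' <;> simp only [P, e, e']
    · left; group
    · right
      rw [show c * (c⁻¹ * t * c * z) * c⁻¹ = t * (c * z * c⁻¹) by group, C.zconj]⟩⟩
  have hK2 : IsPGroup 2 K := by
    rintro ⟨g, hgR, hg⟩
    have hsq' : g * g ∈ T := C.cent _ (R.mul_mem hgR hgR) fun t ht => by
      have key : g * (g * t * g⁻¹) * g⁻¹ = t := by
        rcases hg t ht with e | e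
        · rw [e, e]
        · rw [e, show g * (t * z) * g⁻¹ = (g * t * g⁻¹) * (g * z * g⁻¹) by group, C.zconj, e,
            mul_assoc, C.zz, mul_one]
      calc g * g * t = (g * (g * t * g⁻¹) * g⁻¹) * (g * g) := by group
        _ = t * (g * g) := by rw [key]
    obtain ⟨k, hk⟩ := C.two ⟨g * g, hsq'⟩
    refine ⟨k + 1, Subtype.ext ?_⟩
    have := congrArg Subtype.val hk
    simpa [pow_succ', pow_mul, pow_two] using this
  have ha₁T : a₁ ∈ T := C.max K hKn (fun g hg => hg.1) hK2 ⟨C.setting.mem, hPall a₁ hall.1 hall.2⟩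
  exact (hclasses a₁ ha₁T h4.sq₁).elim h4.ne (C.moved_ne h4.moved).1

end Core

/-! ### The four-group inside `T` -/

theorem card_modEq_fixed {X : Type*} [Finite X] {ℓ : ℕ} [hl : Fact ℓ.Prime] (e : Equiv.Perm X)
    (he : e ^ ℓ = 1) : Nat.card X ≡ Nat.card {x : X // e x = x} [MOD ℓ] := by
  have hP : IsPGroup ℓ (Subgroup.zpowers e) := by
    rintro ⟨g, hg⟩
    obtain ⟨i, rfl⟩ := Subgroup.mem_zpowers_iff.1 hg
    refine ⟨1, Subtype.ext ?_⟩
    show (e ^ i) ^ (ℓ ^ 1) = 1
    rw [pow_one, ← zpow_natCast, ← zpow_mul, mul_comm, zpow_mul, zpow_natCast, he, one_zpow]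
  have h := hP.card_modEq_card_fixedPoints X
  have hfix : Nat.card (MulAction.fixedPoints (Subgroup.zpowers e) X) =
      Nat.card {x : X // e x = x} := by
    refine Nat.card_congr (Equiv.subtypeEquivRight fun x => ⟨fun hx => ?_, fun hx => ?_⟩)
    · exact hx ⟨e, Subgroup.mem_zpowers e⟩
    · rintro ⟨g, hg⟩
      obtain ⟨i, rfl⟩ := Subgroup.mem_zpowers_iff.1 hg
      exact Equiv.Perm.zpow_apply_eq_self_of_apply_eq_self hx i
  rwa [hfix] at h

/-- `z` to the power `e`. -/
def zp (z : G) (e : Bool) : G := if e then z else 1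

/-- `g` and `h` commute up to the sign `e`. -/
def An (z g h : G) (e : Bool) : Prop := g * h = h * g * zp z e

theorem count_twelve : Nat.card {u : Bool × Bool × Bool × Bool × Bool //
    xor (u.1 && u.2.2.1) (u.2.1 && u.2.2.2.1) = true} = 12 := by
  rw [Nat.card_eq_fintype_card]; decide

namespace Core

variable (C : Core ρ R T b a₁ a₂ z)
include C

theorem zp_comm (e : Bool) (g : G) : zp z e * g = g * zp z e := by
  cases e <;> simp [zp, C.zc]

theorem zp_xor (e e' : Bool) : zp z e * zp z e' = zp z (xor e e') := by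
  cases e <;> cases e' <;> simp [zp, C.zz]

theorem an_mul {g h h' : G} {e e' : Bool} (h1 : An z g h e) (h2 : An z g h' e') :
    An z g (h * h') (xor e e') := by
  unfold An at *
  calc g * (h * h') = h * g * zp z e * h' := by rw [← mul_assoc, h1]
    _ = h * g * (zp z e * h') := by group
    _ = h * (g * h') * zp z e := by rw [C.zp_comm]; group
    _ = h * (h' * g * zp z e') * zp z e := by rw [h2]
    _ = h * h' * g * (zp z e' * zp z e) := by group
    _ = h * h' * g * zp z (xor e e') := by rw [C.zp_xor, Bool.xor_comm]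

theorem an_symm {g h : G} {e : Bool} (h1 : An z g h e) : An z h g e := by
  unfold An at *
  rw [h1, mul_assoc _ (zp z e), C.zp_xor, Bool.xor_self]
  simp [zp]

theorem an_self (g : G) : An z g g false := by simp [An, zp]

theorem an_zp (g : G) (e : Bool) : An z g (zp z e) false := by
  show g * zp z e = zp z e * g * zp z false
  rw [C.zp_comm]; simp [zp]

theorem an_if {g h : G} {e : Bool} (h1 : An z g h e) (i : Bool) :
    An z g (if i then h else 1) (i && e) := by
  cases i
  · simp [An, zp]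
  · simpa using h1

theorem an_sq {g h : G} {e : Bool} (h1 : An z h g e) :
    g * h * (g * h) = (g * g) * (h * h) * zp z e := by
  unfold An at h1
  calc g * h * (g * h) = g * (h * g) * h := by group
    _ = g * (g * h * zp z e) * h := by rw [h1]
    _ = g * g * (h * (zp z e * h)) := by group
    _ = _ := by rw [C.zp_comm]; group

theorem an_cases {g h : G} (hg : g ∈ T) (hh : h ∈ T) : An z g h false ∨ An z g h true := by
  rcases C.com g hg h hh with e | e
  · exact Or.inl (by simp [An, zp, e])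
  · exact Or.inr (by simp [An, zp, e])

theorem exists_anti {a : G} (ha : a ∈ T) (h1 : a ≠ 1) (hz : a ≠ z) : ∃ t ∈ T, An z a t true := by
  by_contra hno
  push Not at hno
  rcases C.centre a ha (fun y hy => by
    have := (C.an_cases ha hy).resolve_right (hno y hy)
    simpa [An, zp] using this) with e | e
  · exact h1 e
  · exact hz e

theorem shape_contra [Group.IsSolvable G] (hns : ¬ Shape R) (ha₁ : a₁ ∈ T) : False := by
  classical
  haveI := C.normal
  have S := C.setting
  have h4 := S.four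
  have hn₁ := C.moved_ne h4.moved
  have hmv₂ : b * a₂ * b⁻¹ ≠ a₂ := by
    rw [h4.conj₂]; exact fun e => h4.ne (mul_eq_right.1 e)
  have hn₂ := C.moved_ne hmv₂
  have hmv₃ : b * (a₁ * a₂) * b⁻¹ ≠ a₁ * a₂ := by
    rw [h4.conj₃]; exact fun e => h4.ne₂ (left_eq_mul.1 e)
  have hn₃ := C.moved_ne hmv₃
  have ha₂ : a₂ ∈ T := h4.conj₁ ▸ C.bconj ha₁
  have h12 : An z a₁ a₂ false := by simpa [An, zp] using h4.comm
  -- elements anticommuting with exactly one of `a₁`, `a₂`
  obtain ⟨t₁', ht₁', h11', h21', t₂', ht₂', h12', h22'⟩ : ∃ t₁ ∈ T, An z a₁ t₁ true ∧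
      An z a₂ t₁ false ∧ ∃ t₂ ∈ T, An z a₁ t₂ false ∧ An z a₂ t₂ true := by
    obtain ⟨s, hs, hs1⟩ := C.exists_anti ha₁ hn₁.2 hn₁.1
    obtain ⟨u, hu, hu2⟩ := C.exists_anti ha₂ hn₂.2 hn₂.1
    obtain ⟨w, hw, hw3⟩ := C.exists_anti (T.mul_mem ha₁ ha₂) hn₃.2 hn₃.1
    rcases C.an_cases ha₂ hs with hs2 | hs2
    · rcases C.an_cases ha₁ hu with hu1 | hu1
      · exact ⟨s, hs, hs1, hs2, u, hu, hu1, hu2⟩
      · exact ⟨s, hs, hs1, hs2, u * s, T.mul_mem hu hs, C.an_mul hu1 hs1, C.an_mul hu2 hs2⟩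
    · rcases C.an_cases ha₁ hu with hu1 | hu1
      · exact ⟨s * u, T.mul_mem hs hu, C.an_mul hs1 hu1, C.an_mul hs2 hu2, u, hu, hu1, hu2⟩
      · have hw3' := C.an_symm hw3
        rcases C.an_cases ha₁ hw with hw1 | hw1 <;> rcases C.an_cases ha₂ hw with hw2 | hw2
        · exfalso
          have h' := C.an_mul (C.an_symm hw1) (C.an_symm hw2)
          unfold An at h' hw3'
          rw [h'] at hw3'
          simp [zp] at hw3'
          exact hn₁.2 (eq_of_app S.inj fun v => by
            have hv := C.neg v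
            rw [hw3', one_app] at hv
            rw [eq_zero_of_eq_neg hv, map_zero, map_zero])
        · exact ⟨w * s, T.mul_mem hw hs, C.an_mul hw1 hs1, C.an_mul hw2 hs2, w, hw, hw1, hw2⟩
        · exact ⟨w, hw, hw1, hw2, w * s, T.mul_mem hw hs, C.an_mul hw1 hs1, C.an_mul hw2 hs2⟩
        · exfalso
          have h' := C.an_mul (C.an_symm hw1) (C.an_symm hw2)
          unfold An at h' hw3'
          rw [h'] at hw3'
          simp [zp] at hw3'
          exact hn₁.2 (eq_of_app S.inj fun v => by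
            have hv := C.neg v
            rw [hw3', one_app] at hv
            rw [eq_zero_of_eq_neg hv, map_zero, map_zero])
  -- normalise their squares and their commutator
  obtain ⟨t₁, ht₁, h11, h21, hs₁⟩ : ∃ t ∈ T, An z a₁ t true ∧ An z a₂ t false ∧ t * t = 1 := by
    rcases C.sq t₁' ht₁' with e | e
    · exact ⟨t₁', ht₁', h11', h21', e⟩
    · refine ⟨t₁' * a₁, T.mul_mem ht₁' ha₁, C.an_mul h11' (C.an_self a₁),
        C.an_mul h21' (C.an_symm h12), ?_⟩
      rw [C.an_sq h11', e, h4.sq₁]; simp [zp, C.zz]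
  obtain ⟨t₂, ht₂, h12, h22, hs₂, htt⟩ : ∃ t ∈ T, An z a₁ t false ∧ An z a₂ t true ∧ t * t = 1 ∧
      An z t₁ t false := by
    obtain ⟨t, ht, g1, g2, g3⟩ : ∃ t ∈ T, An z a₁ t false ∧ An z a₂ t true ∧ t * t = 1 := by
      rcases C.sq t₂' ht₂' with e | e
      · exact ⟨t₂', ht₂', h12', h22', e⟩
      · refine ⟨t₂' * a₂, T.mul_mem ht₂' ha₂, C.an_mul h12' h12, C.an_mul h22' (C.an_self a₂), ?_⟩
        rw [C.an_sq h22', e, h4.sq₂]; simp [zp, C.zz]
    rcases C.an_cases ht₁ ht with g | g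
    · exact ⟨t, ht, g1, g2, g3, g⟩
    · refine ⟨t * a₁, T.mul_mem ht ha₁, C.an_mul g1 (C.an_self a₁), C.an_mul g2 (C.an_symm h12),
        ?_, C.an_mul g (C.an_symm h11)⟩
      rw [C.an_sq g1, g3, h4.sq₁]; simp [zp]
  have ha12 : An z a₁ a₂ false := by simpa [An, zp] using h4.comm
  -- the weight spaces
  obtain ⟨hX, hY, hZ, -⟩ := weights h4 S.inj S.cubic
  have hsign : ∀ {a t : G} {e : Bool}, An z a t e → ∀ v : V,
      ρ a (ρ t v) = (if e then -ρ t (ρ a v) else ρ t (ρ a v)) := by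
    intro a t e h v
    rw [← mul_app, show a * t = t * a * zp z e from h]
    cases e
    · simp [zp, mul_app]
    · simp only [zp, if_true, mul_app, C.neg, map_neg]
  have hmap : ∀ {s₁ s₂ : ZMod 3} {v}, v ∈ wt ρ a₁ a₂ s₁ s₂ → ρ t₁ v ∈ wt ρ a₁ a₂ (-s₁) s₂ := by
    intro s₁ s₂ v hv
    rw [mem_wt] at hv ⊢
    refine ⟨?_, ?_⟩
    · rw [hsign h11, if_pos rfl, hv.1, map_smul, neg_smul]
    · rw [hsign h21]; simp [hv.2]
  have hC3 : Nat.card (wt ρ a₁ a₂ 1 1) = 3 := by
    refine le_antisymm ?_ ?_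
    · refine le_trans ?_ hY.le
      exact Nat.card_le_card_of_injective
        (fun v : wt ρ a₁ a₂ 1 1 => (⟨ρ t₁ v, hmap v.2⟩ : wt ρ a₁ a₂ (-1) 1))
        (fun v w e => Subtype.ext (inj_app t₁ (congrArg Subtype.val e)))
    · refine le_trans hY.ge ?_
      exact Nat.card_le_card_of_injective
        (fun v : wt ρ a₁ a₂ (-1) 1 => (⟨ρ t₁ v, by simpa using hmap v.2⟩ : wt ρ a₁ a₂ 1 1))
        (fun v w e => Subtype.ext (inj_app t₁ (congrArg Subtype.val e)))
  -- the centraliser of `a₁, a₂` in `T`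
  have hpres : ∀ {n : G}, An z a₁ n false → An z a₂ n false → ∀ {s₁ s₂ : ZMod 3} {v},
      v ∈ wt ρ a₁ a₂ s₁ s₂ → ρ n v ∈ wt ρ a₁ a₂ s₁ s₂ := by
    intro n n1 n2 s₁ s₂ v hv
    rw [mem_wt] at hv ⊢
    refine ⟨?_, ?_⟩
    · rw [hsign n1]; simp [hv.1]
    · rw [hsign n2]; simp [hv.2]
  have hline : ∀ {n : G}, An z a₁ n false → An z a₂ n false → ∀ {s₁ s₂ : ZMod 3},
      Nat.card (wt ρ a₁ a₂ s₁ s₂) = 3 → (∀ v ∈ wt ρ a₁ a₂ s₁ s₂, ρ n v = v) ∨
        (∀ v ∈ wt ρ a₁ a₂ s₁ s₂, ρ n v = -v) := by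
    intro n n1 n2 s₁ s₂ hcard
    obtain ⟨v, hv, hv0⟩ := exists_ne_zero_of_card (U := wt ρ a₁ a₂ s₁ s₂) (by omega)
    rcases cases_of_card_three hcard hv hv0 (hpres n1 n2 hv) with e | e | e
    · exact absurd (inj_app n (e.trans (map_zero (ρ n)).symm)) hv0
    · left; intro w hw
      rcases cases_of_card_three hcard hv hv0 hw with rfl | rfl | rfl <;> simp [e]
    · right; intro w hw
      rcases cases_of_card_three hcard hv hv0 hw with rfl | rfl | rfl <;> simp [e]
  have hNsq : ∀ n, An z a₁ n false → An z a₂ n false → n * n = 1 := by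
    intro n n1 n2
    refine eq_of_app S.inj fun v => ?_
    obtain ⟨c, hc, x, hx, y, hy, w, hw, rfl⟩ := decomp (ρ := ρ) h4 v
    have key : ∀ {s₁ s₂ : ZMod 3}, Nat.card (wt ρ a₁ a₂ s₁ s₂) = 3 → ∀ u ∈ wt ρ a₁ a₂ s₁ s₂,
        ρ n (ρ n u) = u := by
      intro s₁ s₂ hcard u hu
      rcases hline n1 n2 hcard with e | e
      · rw [e u hu, e u hu]
      · rw [e u hu, map_neg, e u hu, neg_neg]
    rw [mul_app, one_app]
    simp only [map_add, key hC3 c hc, key hX x hx, key hY y hy, key hZ w hw]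
  -- the eight elements
  let E : Bool → Bool → Bool → G := fun i j m =>
    (if i then a₁ else 1) * (if j then a₂ else 1) * zp z m
  have hE1 : ∀ i j m, An z a₁ (E i j m) false ∧ An z a₂ (E i j m) false := by
    intro i j m
    constructor
    · simpa only [Bool.and_false, Bool.and_true, Bool.xor_false, Bool.false_xor, Bool.xor_self] using C.an_mul (C.an_mul (C.an_if (C.an_self a₁) i) (C.an_if ha12 j)) (C.an_zp a₁ m)
    · simpa only [Bool.and_false, Bool.and_true, Bool.xor_false, Bool.false_xor, Bool.xor_self] using C.an_mul (C.an_mul (C.an_if (C.an_symm ha12) i) (C.an_if (C.an_self a₂) j))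
        (C.an_zp a₂ m)
  have hEact : ∀ i j m, ∀ {s₁ s₂ : ZMod 3} {v}, v ∈ wt ρ a₁ a₂ s₁ s₂ →
      ρ (E i j m) v = ((if m then -1 else 1) * (if i then s₁ else 1) * (if j then s₂ else 1) :
        ZMod 3) • v := by
    intro i j m s₁ s₂ v hv
    rw [mem_wt] at hv
    simp only [E, mul_app]
    cases i <;> cases j <;> cases m <;>
      simp [zp, C.neg, hv.1, hv.2, one_app, map_neg, map_smul, smul_smul, neg_smul, mul_comm]
  have hN8 : ∀ n ∈ T, An z a₁ n false → An z a₂ n false → ∃ i j m, n = E i j m := by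
    intro n hn n1 n2
    obtain ⟨σc, hσc⟩ : ∃ m : Bool, ∀ v ∈ wt ρ a₁ a₂ 1 1,
        ρ n v = ((if m then -1 else 1 : ZMod 3)) • v := by
      rcases hline n1 n2 hC3 with e | e
      · exact ⟨false, fun v hv => by simp [e v hv]⟩
      · exact ⟨true, fun v hv => by simp [e v hv]⟩
    obtain ⟨σx, hσx⟩ : ∃ m : Bool, ∀ v ∈ wt ρ a₁ a₂ 1 (-1),
        ρ n v = ((if m then -1 else 1 : ZMod 3)) • v := by
      rcases hline n1 n2 hX with e | e
      · exact ⟨false, fun v hv => by simp [e v hv]⟩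
      · exact ⟨true, fun v hv => by simp [e v hv]⟩
    obtain ⟨σy, hσy⟩ : ∃ m : Bool, ∀ v ∈ wt ρ a₁ a₂ (-1) 1,
        ρ n v = ((if m then -1 else 1 : ZMod 3)) • v := by
      rcases hline n1 n2 hY with e | e
      · exact ⟨false, fun v hv => by simp [e v hv]⟩
      · exact ⟨true, fun v hv => by simp [e v hv]⟩
    refine ⟨xor σy σc, xor σx σc, σc, ?_⟩
    set e := E (xor σy σc) (xor σx σc) σc with he
    have hee : e * e = 1 := hNsq e (hE1 _ _ _).1 (hE1 _ _ _).2
    have hag : ∀ v, v ∈ wt ρ a₁ a₂ 1 1 ∨ v ∈ wt ρ a₁ a₂ 1 (-1) ∨ v ∈ wt ρ a₁ a₂ (-1) 1 →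
        ρ (e * n) v = v := by
      intro v hv
      rw [mul_app]
      rcases hv with hv | hv | hv
      · rw [hσc v hv, map_smul, he, hEact _ _ _ hv, smul_smul]
        cases σc <;> cases σx <;> cases σy <;> simp
      · rw [hσx v hv, map_smul, he, hEact _ _ _ hv, smul_smul]
        cases σc <;> cases σx <;> cases σy <;> simp
      · rw [hσy v hv, map_smul, he, hEact _ _ _ hv, smul_smul]
        cases σc <;> cases σx <;> cases σy <;> simp
    have m1 : An z a₁ (e * n) false := by simpa using C.an_mul (hE1 _ _ _).1 n1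
    have m2 : An z a₂ (e * n) false := by simpa using C.an_mul (hE1 _ _ _).2 n2
    have heT : e ∈ T := by
      simp only [he, E]
      refine T.mul_mem (T.mul_mem ?_ ?_) ?_
      · split_ifs; exacts [ha₁, T.one_mem]
      · split_ifs; exacts [ha₂, T.one_mem]
      · unfold zp; split_ifs; exacts [C.zmem, T.one_mem]
    have hcomm : An z (e * n) t₁ false := by
      rcases C.an_cases (T.mul_mem heT hn) ht₁ with g | g
      · exact g
      exfalso
      obtain ⟨c, hc, hc0⟩ := exists_ne_zero_of_card (U := wt ρ a₁ a₂ 1 1) (by omega)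
      have h1 := hsign g c
      rw [if_pos rfl, hag c (Or.inl hc), hag _ (Or.inr (Or.inr (hmap hc)))] at h1
      exact hc0 (inj_app (ρ := ρ) t₁ (by rw [map_zero]; exact eq_zero_of_eq_neg h1))
    have hen : e * n = 1 := by
      refine eq_of_app S.inj fun v => ?_
      obtain ⟨c, hc, x, hx, y, hy, w, hw, rfl⟩ := decomp (ρ := ρ) h4 v
      have hw' : ρ t₁ w ∈ wt ρ a₁ a₂ 1 (-1) := by simpa using hmap hw
      have hfix : ρ (e * n) w = w := by
        refine inj_app (ρ := ρ) t₁ ?_
        have h1 := hsign hcomm w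
        rw [hag _ (Or.inr (Or.inl hw'))] at h1
        simpa using h1.symm
      rw [one_app, map_add, map_add, map_add, hag c (Or.inl hc), hag x (Or.inr (Or.inl hx)),
        hag y (Or.inr (Or.inr hy)), hfix]
    calc n = (e * e) * n := by rw [hee, one_mul]
      _ = e := by rw [mul_assoc, hen, mul_one]
  -- coordinates on `T`
  let P : Bool → Bool → G := fun i k => (if i then a₁ else 1) * (if k then t₁ else 1)
  let Q : Bool → Bool → G := fun j l => (if j then a₂ else 1) * (if l then t₂ else 1)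
  let ψ : Bool × Bool × Bool × Bool × Bool → G := fun u =>
    P u.1 u.2.2.1 * Q u.2.1 u.2.2.2.1 * zp z u.2.2.2.2
  have hmemT : ∀ u, ψ u ∈ T := by
    intro u
    simp only [ψ, P, Q]
    refine T.mul_mem (T.mul_mem (T.mul_mem ?_ ?_) (T.mul_mem ?_ ?_)) ?_
    · split_ifs; exacts [ha₁, T.one_mem]
    · split_ifs; exacts [ht₁, T.one_mem]
    · split_ifs; exacts [ha₂, T.one_mem]
    · split_ifs; exacts [ht₂, T.one_mem]
    · unfold zp; split_ifs; exacts [C.zmem, T.one_mem]
  have hcoord : ∀ {g : G} {e₁ e₂ e₃ e₄ : Bool}, An z g a₁ e₁ → An z g t₁ e₂ → An z g a₂ e₃ →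
      An z g t₂ e₄ → ∀ u : Bool × Bool × Bool × Bool × Bool, An z g (ψ u)
        (xor (xor (u.1 && e₁) (u.2.2.1 && e₂)) (xor (u.2.1 && e₃) (u.2.2.2.1 && e₄))) := by
    intro g e₁ e₂ e₃ e₄ g1 g2 g3 g4 u
    simpa only [Bool.and_false, Bool.and_true, Bool.xor_false, Bool.false_xor, Bool.xor_self] using C.an_mul (C.an_mul (C.an_mul (C.an_if g1 u.1) (C.an_if g2 u.2.2.1))
      (C.an_mul (C.an_if g3 u.2.1) (C.an_if g4 u.2.2.2.1))) (C.an_zp g u.2.2.2.2)
  have hzne : z ≠ 1 := fun e => hn₁.2 (eq_of_app S.inj fun v => by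
    have hv := C.neg v
    rw [e, one_app] at hv
    rw [eq_zero_of_eq_neg hv, map_zero, map_zero])
  have han_uniq : ∀ {g h : G} {e e' : Bool}, An z g h e → An z g h e' → e = e' := by
    intro g h e e' g1 g2
    have he := mul_left_cancel (g1.symm.trans g2)
    cases e <;> cases e' <;> first | rfl | exact absurd he (by simpa [zp, eq_comm] using hzne)
  have hψinj : Function.Injective ψ := by
    intro u u' e
    have k1 := hcoord (C.an_self a₁) h11 ha12 h12 u
    have k1' := hcoord (C.an_self a₁) h11 ha12 h12 u'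
    have k2 := hcoord (C.an_symm ha12) h21 (C.an_self a₂) h22 u
    have k2' := hcoord (C.an_symm ha12) h21 (C.an_self a₂) h22 u'
    have k3 := hcoord (C.an_symm h11) (C.an_self t₁) (C.an_symm h21) htt u
    have k3' := hcoord (C.an_symm h11) (C.an_self t₁) (C.an_symm h21) htt u'
    have k4 := hcoord (C.an_symm h12) (C.an_symm htt) (C.an_symm h22) (C.an_self t₂) u
    have k4' := hcoord (C.an_symm h12) (C.an_symm htt) (C.an_symm h22) (C.an_self t₂) u'
    rw [e] at k1 k2 k3 k4
    obtain ⟨i, j, k, l, m⟩ := u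
    obtain ⟨i', j', k', l', m'⟩ := u'
    have e1 : k = k' := by simpa using han_uniq k1 k1'
    have e2 : l = l' := by simpa using han_uniq k2 k2'
    have e3 : i = i' := by simpa using han_uniq k3 k3'
    have e4 : j = j' := by simpa using han_uniq k4 k4'
    subst e1 e2 e3 e4
    have e5 : zp z m = zp z m' := mul_left_cancel e
    have hm : m = m' := by
      cases m <;> cases m' <;> first | rfl | exact absurd e5 (by simpa [zp, eq_comm] using hzne)
    rw [hm]
  have hψsurj : ∀ t ∈ T, ∃ u, ψ u = t := by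
    intro t ht
    obtain ⟨k, hk⟩ : ∃ k : Bool, An z a₁ t k :=
      (C.an_cases ha₁ ht).elim (fun h => ⟨_, h⟩) (fun h => ⟨_, h⟩)
    obtain ⟨l, hl⟩ : ∃ l : Bool, An z a₂ t l :=
      (C.an_cases ha₂ ht).elim (fun h => ⟨_, h⟩) (fun h => ⟨_, h⟩)
    set p := (if k then t₁ else 1) * (if l then t₂ else 1) with hp
    have hpT : p ∈ T := by
      simp only [hp]
      refine T.mul_mem ?_ ?_
      · split_ifs; exacts [ht₁, T.one_mem]
      · split_ifs; exacts [ht₂, T.one_mem]
    have hpp : p * p = 1 := by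
      simp only [hp]
      cases k <;> cases l <;> simp [hs₁, hs₂]
      rw [C.an_sq (C.an_symm htt), hs₁, hs₂]; simp [zp]
    have hp1 : An z a₁ (t * p) false := by
      simpa only [Bool.and_false, Bool.and_true, Bool.xor_false, Bool.false_xor, Bool.xor_self] using C.an_mul hk (C.an_mul (C.an_if h11 k) (C.an_if h12 l))
    have hp2 : An z a₂ (t * p) false := by
      simpa only [Bool.and_false, Bool.and_true, Bool.xor_false, Bool.false_xor, Bool.xor_self] using C.an_mul hl (C.an_mul (C.an_if h21 k) (C.an_if h22 l))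
    obtain ⟨i, j, m, hn⟩ := hN8 _ (T.mul_mem ht hpT) hp1 hp2
    have ht' : t = E i j m * p := by rw [← hn, mul_assoc, hpp, mul_one]
    refine ⟨(i, j, k, l, m), ?_⟩
    rw [ht']
    simp only [ψ, P, Q, E, hp]
    have hjk : (if k then t₁ else 1) * (if j then a₂ else 1) =
        (if j then a₂ else 1) * (if k then t₁ else 1) := by
      cases k <;> cases j <;> simp
      simpa [An, zp] using (C.an_symm h21)
    calc _ = (if i then a₁ else 1) * ((if k then t₁ else 1) * (if j then a₂ else 1)) *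
          (if l then t₂ else 1) * zp z m := by group
      _ = (if i then a₁ else 1) * (if j then a₂ else 1) *
          ((if k then t₁ else 1) * (if l then t₂ else 1) * zp z m) := by rw [hjk]; group
      _ = _ := by rw [← C.zp_comm]; group
  let eT : Bool × Bool × Bool × Bool × Bool ≃ T :=
    Equiv.ofBijective (fun u => ⟨ψ u, hmemT u⟩) ⟨fun u u' e => hψinj (congrArg Subtype.val e),
      fun t => by obtain ⟨u, hu⟩ := hψsurj t t.2; exact ⟨u, Subtype.ext hu⟩⟩
  have hT32 : Nat.card T = 32 := by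
    rw [← Nat.card_congr eT]; simp
  have hψsq : ∀ u, ψ u * ψ u = zp z (xor (u.1 && u.2.2.1) (u.2.1 && u.2.2.2.1)) := by
    rintro ⟨i, j, k, l, m⟩
    have hP : P i k * P i k = zp z (i && k) := by
      simp only [P]
      cases i <;> cases k <;> simp [hs₁, h4.sq₁, zp]
      rw [C.an_sq (C.an_symm h11), hs₁, h4.sq₁]; simp [zp]
    have hQ : Q j l * Q j l = zp z (j && l) := by
      simp only [Q]
      cases j <;> cases l <;> simp [hs₂, h4.sq₂, zp]
      rw [C.an_sq (C.an_symm h22), hs₂, h4.sq₂]; simp [zp]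
    have hPQ : An z (Q j l) (P i k) false := by
      have hcr : ∀ {g}, An z g a₂ false → An z g t₂ false → An z g (Q j l) false := fun g1 g2 => by
        simpa only [Bool.and_false, Bool.and_true, Bool.xor_false, Bool.false_xor, Bool.xor_self] using C.an_mul (C.an_if g1 j) (C.an_if g2 l)
      simpa only [Bool.and_false, Bool.and_true, Bool.xor_false, Bool.false_xor, Bool.xor_self] using C.an_mul (C.an_if (C.an_symm (hcr ha12 h12)) i)
        (C.an_if (C.an_symm (hcr (C.an_symm h21) htt)) k)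
    have hmm : zp z m * zp z m = 1 := by rw [C.zp_xor, Bool.xor_self]; rfl
    show P i k * Q j l * zp z m * (P i k * Q j l * zp z m) = _
    rw [show P i k * Q j l * zp z m * (P i k * Q j l * zp z m) =
      P i k * Q j l * (zp z m * (P i k * Q j l)) * zp z m by group, C.zp_comm,
      show P i k * Q j l * (P i k * Q j l * zp z m) * zp z m =
      (P i k * Q j l * (P i k * Q j l)) * (zp z m * zp z m) by group, hmm, mul_one,
      C.an_sq hPQ, hP, hQ, C.zp_xor]
    simp [zp]
  have hW12 : Nat.card {t : T // (t : G) * t = z} = 12 := by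
    rw [← count_twelve]
    refine (Nat.card_congr (eT.subtypeEquiv fun u => ?_)).symm
    show _ ↔ ψ u * ψ u = z
    rw [hψsq]
    constructor
    · intro h; rw [h]; rfl
    · intro h
      generalize xor (u.1 && u.2.2.1) (u.2.1 && u.2.2.2.1) = q at h ⊢
      cases q
      · exact absurd h.symm (by simpa [zp] using hzne)
      · rfl
  -- `R` is a 2-group
  have hRT : R ≤ T := by
    refine C.max R S.normal le_rfl ?_
    refine IsPGroup.of_card (n := (Nat.card R).primeFactorsList.length)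
      (Nat.eq_prime_pow_of_unique_prime_dvd Nat.card_pos.ne' fun {ℓ} hℓ hdvd => ?_)
    by_contra hℓ2
    haveI : Fact ℓ.Prime := ⟨hℓ⟩
    obtain ⟨r, hr⟩ := exists_prime_orderOf_dvd_card' (G := R) ℓ hdvd
    have hℓ3 : ℓ ≠ 3 := fun e => S.cop (e ▸ hdvd)
    have hrℓ : (r : G) ^ ℓ = 1 := by
      have := congrArg Subtype.val (hr ▸ pow_orderOf_eq_one r)
      simpa using this
    let σ : Equiv.Perm T :=
      { toFun := fun t => ⟨(r : G) * t * (r : G)⁻¹, C.normal.conj_mem t t.2 r⟩
        invFun := fun t => ⟨(r : G)⁻¹ * t * r, by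
          have := C.normal.conj_mem t t.2 (r : G)⁻¹
          rwa [inv_inv] at this⟩
        left_inv := fun t => Subtype.ext (by show (r : G)⁻¹ * ((r : G) * t * (r : G)⁻¹) * r = t; group)
        right_inv := fun t => Subtype.ext (by show (r : G) * ((r : G)⁻¹ * t * r) * (r : G)⁻¹ = t; group) }
    have hσpow : ∀ (k : ℕ) (t : T), (((σ ^ k) t : T) : G) = (r : G) ^ k * t * ((r : G) ^ k)⁻¹ := by
      intro k
      induction k with
      | zero => intro t; simp
      | succ k ih =>
          intro t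
          rw [pow_succ', Equiv.Perm.mul_apply]
          show (r : G) * ((σ ^ k) t : T) * (r : G)⁻¹ = _
          rw [ih, pow_succ']; group
    have hσ : σ ^ ℓ = 1 := Equiv.ext fun t => Subtype.ext (by rw [hσpow, hrℓ]; simp)
    let Wt := {t : T // (t : G) * t = z}
    have hpred : ∀ t : T, ((t : G) * t = z) ↔ ((σ t : T) : G) * (σ t : T) = z := by
      intro t
      show _ ↔ (r : G) * t * (r : G)⁻¹ * ((r : G) * t * (r : G)⁻¹) = z
      rw [show (r : G) * t * (r : G)⁻¹ * ((r : G) * t * (r : G)⁻¹) = (r : G) * ((t : G) * t) * (r : G)⁻¹ by group]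
      constructor
      · intro h; rw [h, C.zconj]
      · intro h
        calc (t : G) * t = (r : G)⁻¹ * ((r : G) * ((t : G) * t) * (r : G)⁻¹) * r := by group
          _ = (r : G)⁻¹ * z * (r : G)⁻¹⁻¹ := by rw [h, inv_inv]
          _ = z := C.zconj _
    let σW : Equiv.Perm Wt := σ.subtypeEquiv hpred
    have hσWpow : ∀ (k : ℕ) (t : Wt), (((σW ^ k) t : Wt) : T) = (σ ^ k) (t : T) := by
      intro k
      induction k with
      | zero => intro t; rfl
      | succ k ih =>
          intro t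
          rw [pow_succ', pow_succ', Equiv.Perm.mul_apply, Equiv.Perm.mul_apply, ← ih t]
          rfl
    have hσW : σW ^ ℓ = 1 := Equiv.ext fun t => Subtype.ext (by rw [hσWpow, hσ]; rfl)
    set F : Subgroup G := T ⊓ Subgroup.centralizer {(r : G)} with hF
    have hFcard : Nat.card {t : T // σ t = t} = Nat.card F := by
      refine Nat.card_congr
        { toFun := fun t => ⟨t.1, t.1.2, Subgroup.mem_centralizer_singleton_iff.2 (by
            have h : (r : G) * t.1 * (r : G)⁻¹ = t.1 := congrArg Subtype.val t.2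
            exact (mul_inv_eq_iff_eq_mul.1 h).symm)⟩
          invFun := fun f => ⟨⟨f.1, f.2.1⟩, Subtype.ext (by
            show (r : G) * f.1 * (r : G)⁻¹ = f.1
            rw [← Subgroup.mem_centralizer_singleton_iff.1 f.2.2, mul_inv_cancel_right])⟩
          left_inv := fun t => rfl
          right_inv := fun f => rfl }
    have hmodT := card_modEq_fixed (ℓ := ℓ) σ hσ
    rw [hT32, hFcard] at hmodT
    have hmodW := card_modEq_fixed (ℓ := ℓ) σW hσW
    rw [hW12] at hmodW
    obtain ⟨j, hj5, hj⟩ := (Nat.dvd_prime_pow Nat.prime_two).1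
      (show Nat.card F ∣ 2 ^ 5 by
        have := Subgroup.card_dvd_of_le (inf_le_left : F ≤ T)
        rwa [hT32] at this)
    have hzF : z ∈ F := ⟨C.zmem, Subgroup.mem_centralizer_singleton_iff.2 (C.zc _)⟩
    have hj1 : 1 ≤ j := by
      by_contra h0
      have hbot : F = ⊥ := F.eq_bot_of_card_eq (by rw [hj, show j = 0 by omega, pow_zero])
      rw [hbot, Subgroup.mem_bot] at hzF
      exact hzne hzF
    have hWF : Nat.card {t : Wt // σW t = t} ≤ Nat.card F := by
      refine le_trans ?_ hFcard.le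
      exact Nat.card_le_card_of_injective
        (fun t => (⟨(t.1 : T), congrArg Subtype.val t.2⟩ : {t : T // σ t = t}))
        (fun a c e => Subtype.ext (Subtype.ext (congrArg (fun t : {t : T // σ t = t} => (t : T)) e)))
    have hWF2 : 1 ≤ Nat.card {t : Wt // σW t = t} → 3 ≤ Nat.card F := by
      intro h
      obtain ⟨⟨⟨⟨w, hwT⟩, hww⟩, hfix⟩⟩ : Nonempty {t : Wt // σW t = t} :=
        (Nat.card_pos_iff.1 h).1
      have hwF : w ∈ F := ⟨hwT, Subgroup.mem_centralizer_singleton_iff.2 (by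
        have h : (r : G) * w * (r : G)⁻¹ = w :=
          congrArg (fun t : Wt => ((t : T) : G)) hfix
        exact (mul_inv_eq_iff_eq_mul.1 h).symm)⟩
      have hs : ({1, z, w} : Set G) ⊆ F := by
        rintro g (rfl | rfl | rfl)
        exacts [F.one_mem, hzF, hwF]
      have hww' : w * w = z := hww
      have h3 : ({1, z, w} : Set G).ncard = 3 := by
        rw [Set.ncard_insert_of_notMem _ (Set.toFinite _), Set.ncard_pair]
        · rintro rfl; exact hzne (hww'.symm.trans C.zz)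
        · simp only [Set.mem_insert_iff, Set.mem_singleton_iff, not_or]
          refine ⟨hzne.symm, ?_⟩
          rintro rfl
          exact hzne (by rw [← hww', one_mul])
      have := Set.ncard_le_ncard hs (Set.toFinite _)
      rwa [h3, ← Nat.card_coe_set_eq] at this
    have hj5' : j = 5 := by
      by_contra hne
      rw [hj] at hmodT hWF hWF2
      have hd : ℓ ∣ 32 - 2 ^ j := (Nat.modEq_iff_dvd' (by
        calc 2 ^ j ≤ 2 ^ 5 := Nat.pow_le_pow_right (by norm_num) hj5
          _ = 32 := by norm_num)).1 hmodT.symm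
      have hle : ℓ ≤ 30 := (Nat.le_of_dvd (by interval_cases j <;> omega) hd).trans (by
        interval_cases j <;> omega)
      have hℓ4 : 5 ≤ ℓ := by
        have := hℓ.two_le
        rcases Nat.lt_or_ge ℓ 5 with h | h
        · interval_cases ℓ
          · exact absurd rfl hℓ2
          · exact absurd rfl hℓ3
          · exact absurd hℓ (by norm_num)
        · exact h
      interval_cases j <;> interval_cases ℓ <;> simp only [Nat.ModEq] at hmodW <;>
        first | omega | (norm_num at hℓ) | (norm_num at hd)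
    have hFT : F = T := Subgroup.eq_of_le_of_card_ge inf_le_left (by rw [hT32, hj, hj5']; norm_num)
    have hrT : (r : G) ∈ T := C.cent r r.2 fun t ht => by
      have := (hFT.symm ▸ ht : t ∈ F).2
      exact (Subgroup.mem_centralizer_singleton_iff.1 this).symm
    obtain ⟨k, hk⟩ := C.two ⟨r, hrT⟩
    have h1 : ℓ ∣ 2 ^ k := hr ▸ orderOf_dvd_of_pow_eq_one (x := r) (Subtype.ext (by
      have := congrArg Subtype.val hk
      simpa using this))
    exact hℓ2 ((Nat.prime_dvd_prime_iff_eq hℓ Nat.prime_two).1 (hℓ.dvd_of_dvd_pow h1))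
  -- the normal subgroup
  have hAn : ∀ {g h : G}, An z g h false ↔ g * h = h * g := by simp [An, zp]
  let N : Subgroup G := T ⊓ Subgroup.centralizer {a₁, a₂}
  have hNmem : ∀ {n}, n ∈ N → An z a₁ n false ∧ An z a₂ n false := fun {n} hn =>
    ⟨hAn.2 (Subgroup.mem_centralizer_iff.1 hn.2 a₁ (Or.inl rfl)),
      hAn.2 (Subgroup.mem_centralizer_iff.1 hn.2 a₂ (Or.inr rfl))⟩
  have hNmk : ∀ {n}, n ∈ T → a₁ * n = n * a₁ → a₂ * n = n * a₂ → n ∈ N := fun {n} h0 h1 h2 =>
    ⟨h0, Subgroup.mem_centralizer_iff.2 (by rintro g (rfl | rfl) <;> assumption)⟩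
  have hzN : z ∈ N := hNmk C.zmem (C.zc a₁).symm (C.zc a₂).symm
  have hRN : R ≤ Subgroup.normalizer (N : Set G) := by
    have key : ∀ r ∈ R, ∀ n ∈ N, r * n * r⁻¹ ∈ N := by
      intro r hr n hn
      rcases C.com r (hRT hr) n hn.1 with e | e
      · rw [e, mul_inv_cancel_right]; exact hn
      · rw [e, mul_assoc (n * r), C.zc, ← mul_assoc, mul_inv_cancel_right]
        exact N.mul_mem hn hzN
    intro r hr
    rw [Subgroup.mem_normalizer_iff]
    intro n
    refine ⟨key r hr n, fun h => ?_⟩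
    have := key r⁻¹ (R.inv_mem hr) _ h
    rwa [inv_inv, show r⁻¹ * (r * n * r⁻¹) * r = n by group] at this
  have hbn : ∀ n ∈ N, b * n * b⁻¹ ∈ N := by
    intro n hn
    obtain ⟨n1, n2⟩ := hNmem hn
    have c1 : Commute a₁ n := hAn.1 n1
    have c2 : Commute a₂ n := hAn.1 n2
    have q2 : a₂ * (b * n * b⁻¹) = b * n * b⁻¹ * a₂ := by
      rw [← h4.conj₁, show b * a₁ * b⁻¹ * (b * n * b⁻¹) = b * (a₁ * n) * b⁻¹ by group, c1.eq]
      group
    have q1 : a₁ * (b * n * b⁻¹) = b * n * b⁻¹ * a₁ := by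
      rw [← h4.conj₃, show b * (a₁ * a₂) * b⁻¹ * (b * n * b⁻¹) = b * ((a₁ * a₂) * n) * b⁻¹ by group,
        (c1.mul_left c2).eq]
      group
    exact hNmk (C.bconj hn.1) q1 q2
  have hbN : b ∈ Subgroup.normalizer (N : Set G) := by
    rw [Subgroup.mem_normalizer_iff]
    intro n
    refine ⟨hbn n, fun h => ?_⟩
    have := hbn _ (hbn _ h)
    rwa [show b * (b * (b * n * b⁻¹) * b⁻¹) * b⁻¹ = b * b * b * n * (b * b * b)⁻¹ by group,
      show b * b * b = b ^ 3 by simp [pow_succ, mul_assoc], S.cubic.cube, one_mul, inv_one,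
      mul_one] at this
  have hNn : N.Normal := Subgroup.normalizer_eq_top_iff.1
    (eq_top_iff.2 fun g _ => S.top_le hRN hbN g)
  exact hns (shape_of_normal S hNn (fun n hn => C.le hn.1)
    (fun n hn => hNsq n (hNmem hn).1 (hNmem hn).2)
    ⟨a₁, hNmk ha₁ rfl h4.comm.symm, fun e => h4.moved (by rw [e, mul_inv_cancel_right])⟩)

end Core

/-- The main theorem on irreducible cubic pairs. -/
theorem shape [Group.IsSolvable G] (S : Setting ρ R b a₁ a₂) : Shape R := by
  by_contra hns
  obtain ⟨T, z, C⟩ := exists_core S hns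
  obtain ⟨a, a', ha, h4⟩ := C.exists_four
  exact Core.shape_contra (a₁ := a) (a₂ := a')
    { C with setting := { S with mem := C.le ha, four := h4 } } hns ha

end Cfsg.Agent.ASolv.CubicCore
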