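import Mathlib
import Cfsg.Prelude.Def_Transfer

/-!
Groups acting on a vector space over the field with three elements, an element `b` of order three
with one Jordan block of size three, and a four-group normalised by it.
-/

set_option autoImplicit false

namespace Cfsg.Agent.ASolv.CubicFour

variable {G : Type*} [Group G] {V : Type*} [AddCommGroup V] [Module (ZMod 3) V]
variable {ρ : Representation (ZMod 3) G V}

/-- The element `b` cubes to one, `ρ b - 1` has image of order at most nine and square non-zero. -/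
structure Cubic (ρ : Representation (ZMod 3) G V) (b : G) : Prop where
  cube : b ^ 3 = 1
  small : Nat.card (LinearMap.range (ρ b - 1)) ≤ 9
  deep : ∃ v, ρ b (ρ b v - v) - (ρ b v - v) ≠ 0

theorem mul_app (g h : G) (v : V) : ρ (g * h) v = ρ g (ρ h v) := by
  rw [map_mul]; rfl

theorem one_app (v : V) : ρ (1 : G) v = v := by
  rw [map_one]; rfl

theorem inv_app (g : G) (v : V) : ρ g⁻¹ (ρ g v) = v := by
  rw [← mul_app, inv_mul_cancel, one_app]

theorem app_inv (g : G) (v : V) : ρ g (ρ g⁻¹ v) = v := by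
  rw [← mul_app, mul_inv_cancel, one_app]

theorem inj_app (g : G) {v w : V} (h : ρ g v = ρ g w) : v = w := by
  have := congrArg (ρ g⁻¹) h
  rwa [inv_app, inv_app] at this

theorem eq_of_app (hinj : Function.Injective ρ) {g h : G} (e : ∀ v, ρ g v = ρ h v) : g = h :=
  hinj (LinearMap.ext e)

theorem eq_zero_of_add_self {x : V} (h : x + x = 0) : x = 0 := by
  have h3 : x + x + x = 0 := by
    have := ZModModule.char_nsmul_eq_zero 3 x
    rwa [succ_nsmul, two_nsmul] at this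
  rwa [h, zero_add] at h3

theorem eq_zero_of_eq_neg {x : V} (h : x = -x) : x = 0 :=
  eq_zero_of_add_self (by nth_rw 1 [h]; exact neg_add_cancel x)

theorem card_ge_three [Finite V] {U : Submodule (ZMod 3) V} {v : V} (hv : v ∈ U) (hv0 : v ≠ 0) :
    3 ≤ Nat.card U := by
  have h := Nat.card_le_card_of_injective (fun a : ZMod 3 => (⟨a • v, U.smul_mem a hv⟩ : U))
    (fun a c e => smul_left_injective (ZMod 3) hv0 (congrArg Subtype.val e))
  rwa [Nat.card_zmod] at h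

theorem cases_of_card_three [Finite V] {U : Submodule (ZMod 3) V} (hU : Nat.card U = 3) {v w : V}
    (hv : v ∈ U) (hv0 : v ≠ 0) (hw : w ∈ U) : w = 0 ∨ w = v ∨ w = -v := by
  have hinj : Function.Injective (fun a : ZMod 3 => (⟨a • v, U.smul_mem a hv⟩ : U)) :=
    fun a c e => smul_left_injective (ZMod 3) hv0 (congrArg Subtype.val e)
  obtain ⟨a, ha⟩ := (hinj.bijective_of_nat_card_le (by rw [hU, Nat.card_zmod])).2 ⟨w, hw⟩
  have ha' : a • v = w := congrArg Subtype.val ha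
  have hc : a = 0 ∨ a = 1 ∨ a = -1 :=
    (show ∀ a : ZMod 3, a = 0 ∨ a = 1 ∨ a = -1 by decide) a
  rcases hc with rfl | rfl | rfl
  · left; rw [← ha', zero_smul]
  · right; left; rw [← ha', one_smul]
  · right; right; rw [← ha', neg_one_smul]

theorem eq_of_card_three [Finite V] {U W : Submodule (ZMod 3) V} (hW : Nat.card W = 3)
    (h : U ≤ W) {v : V} (hv : v ∈ U) (hv0 : v ≠ 0) : U = W := by
  refine le_antisymm h fun w hw => ?_
  rcases cases_of_card_three hW (h hv) hv0 hw with rfl | rfl | rfl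
  · exact U.zero_mem
  · exact hv
  · exact U.neg_mem hv

theorem exists_ne_zero_of_card [Finite V] {U : Submodule (ZMod 3) V} (hU : 1 < Nat.card U) :
    ∃ v ∈ U, v ≠ 0 := by
  haveI := Finite.one_lt_card_iff_nontrivial.1 hU
  obtain ⟨⟨v, hv⟩, hne⟩ := exists_ne (0 : U)
  exact ⟨v, hv, fun e => hne (Subtype.ext e)⟩

/-! ### The map `ρ b - 1` -/

theorem D_mem (b : G) (v : V) : ρ b v - v ∈ LinearMap.range (ρ b - 1) := ⟨v, rfl⟩

theorem D_cube {b : G} (hb : b ^ 3 = 1) (v : V) :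
    ρ b (ρ b (ρ b v - v) - (ρ b v - v)) - (ρ b (ρ b v - v) - (ρ b v - v)) = 0 := by
  have h3 : ρ b (ρ b (ρ b v)) = v := by
    rw [← mul_app, ← mul_app, show b * b * b = b ^ 3 by simp [pow_succ, mul_assoc], hb, one_app]
  simp only [map_sub, h3]
  have e : ∀ x : V, x + x + x = 0 := fun x => by
    have := ZModModule.char_nsmul_eq_zero 3 x
    rwa [succ_nsmul, two_nsmul] at this
  have := e (ρ b v)
  have := e (ρ b (ρ b v))
  linear_combination (norm := abel) e (ρ b v) - e (ρ b (ρ b v))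

/-- An element commuting with `b` is `1` or `-1` on the line `(ρ b - 1)² V`. -/
theorem exists_eigen [Finite V] {b : G} (hb : Cubic ρ b) :
    ∃ v₀ : V, v₀ ≠ 0 ∧ ∀ c : G, c * b = b * c → ρ c v₀ = v₀ ∨ ρ c v₀ = -v₀ := by
  obtain ⟨v, hv⟩ := hb.deep
  let D : V →ₗ[ZMod 3] V := ρ b - 1
  let f : LinearMap.range D →ₗ[ZMod 3] V := D.comp (LinearMap.range D).subtype
  let L := LinearMap.range f
  have hmem : D (D v) ∈ L := ⟨⟨D v, v, rfl⟩, rfl⟩
  have hne : D (D v) ≠ 0 := hv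
  have hker : (⟨D (D v), D v, rfl⟩ : LinearMap.range D) ∈ LinearMap.ker f := D_cube hb.cube v
  have hcard : Nat.card (LinearMap.range D) = Nat.card (LinearMap.ker f) * Nat.card L := by
    rw [Submodule.card_eq_card_quotient_mul_card (LinearMap.ker f), mul_comm,
      Nat.card_congr (f.quotKerEquivRange).toEquiv, mul_comm]
  have hk : 3 ≤ Nat.card (LinearMap.ker f) := by
    have hz : (⟨D (D v), D v, rfl⟩ : LinearMap.range D) ≠ 0 := fun e => hne (congrArg Subtype.val e)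
    exact card_ge_three hker hz
  have hL3 : Nat.card L = 3 := by
    have hge := card_ge_three hmem hne
    have : Nat.card (LinearMap.range D) ≤ 9 := hb.small
    nlinarith [Nat.mul_le_mul hk (le_refl (Nat.card L))]
  refine ⟨D (D v), hne, fun c hc => ?_⟩
  have hcD : ∀ w, ρ c (D w) = D (ρ c w) := fun w => by
    show ρ c (ρ b w - w) = ρ b (ρ c w) - ρ c w
    rw [map_sub, ← mul_app, hc, mul_app]
  have hc' : ρ c (D (D v)) ∈ L := by
    rw [hcD, hcD]; exact ⟨⟨D (ρ c v), ρ c v, rfl⟩, rfl⟩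
  rcases cases_of_card_three hL3 hmem hne hc' with h | h | h
  · exact absurd (inj_app c (h.trans (map_zero _).symm)) hne
  · exact Or.inl h
  · exact Or.inr h

/-! ### A four-group permuted by `b` -/

/-- `a₁, a₂` generate a four-group whose involutions `b` permutes cyclically. -/
structure Four (b a₁ a₂ : G) : Prop where
  sq₁ : a₁ * a₁ = 1
  sq₂ : a₂ * a₂ = 1
  comm : a₁ * a₂ = a₂ * a₁
  ne : a₁ ≠ 1
  conj₁ : b * a₁ * b⁻¹ = a₂
  conj₂ : b * a₂ * b⁻¹ = a₁ * a₂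

/-- If `x = u⁻¹ b u b⁻¹` is an involution then it starts a four-group. -/
theorem four_of {b u : G} (hb : b ^ 3 = 1) {x : G} (hx : x = u⁻¹ * (b * u * b⁻¹))
    (hsq : x * x = 1) (hne : x ≠ 1) : Four b x (b * x * b⁻¹) := by
  set y := b * x * b⁻¹ with hy
  have hyy : y * y = 1 := by
    rw [hy, show b * x * b⁻¹ * (b * x * b⁻¹) = b * (x * x) * b⁻¹ by group, hsq, mul_one,
      mul_inv_cancel]
  have htel : x * y * (b * y * b⁻¹) = 1 := by
    rw [hy, hx]
    calc u⁻¹ * (b * u * b⁻¹) * (b * (u⁻¹ * (b * u * b⁻¹)) * b⁻¹) *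
          (b * (b * (u⁻¹ * (b * u * b⁻¹)) * b⁻¹) * b⁻¹)
        = u⁻¹ * ((b * b * b) * u * (b * b * b)⁻¹) := by group
      _ = 1 := by
          rw [show b * b * b = b ^ 3 by simp [pow_succ, mul_assoc], hb]; group
  have hz : (b * y * b⁻¹) = (x * y)⁻¹ := eq_inv_of_mul_eq_one_right htel
  have hzz : (x * y)⁻¹ * (x * y)⁻¹ = 1 := by
    rw [← hz, show b * y * b⁻¹ * (b * y * b⁻¹) = b * (y * y) * b⁻¹ by group, hyy, mul_one,
      mul_inv_cancel]
  have hinv : (x * y)⁻¹ = x * y := by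
    have := inv_eq_of_mul_eq_one_right hzz
    rw [inv_inv] at this
    exact this.symm
  refine ⟨hsq, hyy, ?_, hne, hy.symm, hz.trans hinv⟩
  rw [← hinv, mul_inv_rev, inv_eq_of_mul_eq_one_right hsq, inv_eq_of_mul_eq_one_right hyy]

namespace Four

variable {b a₁ a₂ : G} (h : Four b a₁ a₂)
include h

theorem conj₃ : b * (a₁ * a₂) * b⁻¹ = a₁ := by
  rw [show b * (a₁ * a₂) * b⁻¹ = b * a₁ * b⁻¹ * (b * a₂ * b⁻¹) by group, h.conj₁, h.conj₂,
    h.comm, ← mul_assoc, h.sq₂, one_mul]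

theorem ne₂ : a₂ ≠ 1 := fun e => h.ne (by
  have := h.conj₁; rw [e] at this
  have e2 : b⁻¹ * (b * a₁ * b⁻¹) * b = b⁻¹ * 1 * b := by rw [this]
  simpa [mul_assoc] using e2)

theorem ne_one₂ : a₁ ≠ a₂ := fun e => h.ne₂ (by
  have := h.conj₂; rw [← e, h.sq₁] at this
  rw [← e]
  have e2 : b⁻¹ * (b * a₁ * b⁻¹) * b = b⁻¹ * 1 * b := by rw [this]
  simpa [mul_assoc] using e2)

theorem ne₃ : a₁ * a₂ ≠ 1 := fun e => h.ne_one₂ (by
  have := eq_inv_of_mul_eq_one_left e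
  rwa [inv_eq_of_mul_eq_one_right h.sq₂] at this)

theorem moved : b * a₁ * b⁻¹ ≠ a₁ := by
  rw [h.conj₁]; exact fun e => h.ne_one₂ e.symm

theorem swap₁ : a₁ * (a₁ * a₂) = a₂ := by rw [← mul_assoc, h.sq₁, one_mul]

theorem swap₂ : a₂ * (a₁ * a₂) = a₁ := by rw [h.comm, ← mul_assoc, h.sq₂, one_mul]

theorem app₁₁ (ρ : Representation (ZMod 3) G V) (v : V) : ρ a₁ (ρ a₁ v) = v := by
  rw [← mul_app, h.sq₁, one_app]

theorem app₂₂ (ρ : Representation (ZMod 3) G V) (v : V) : ρ a₂ (ρ a₂ v) = v := by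
  rw [← mul_app, h.sq₂, one_app]

theorem app₂₁ (ρ : Representation (ZMod 3) G V) (v : V) : ρ a₂ (ρ a₁ v) = ρ a₁ (ρ a₂ v) := by
  rw [← mul_app, ← mul_app, h.comm]

end Four

/-- The space on which `a₁` is `s₁` and `a₂` is `s₂`. -/
def wt (ρ : Representation (ZMod 3) G V) (a₁ a₂ : G) (s₁ s₂ : ZMod 3) : Submodule (ZMod 3) V :=
  LinearMap.ker (ρ a₁ - s₁ • (1 : V →ₗ[ZMod 3] V)) ⊓ LinearMap.ker (ρ a₂ - s₂ • (1 : V →ₗ[ZMod 3] V))

theorem mem_wt {a₁ a₂ : G} {s₁ s₂ : ZMod 3} {v : V} :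
    v ∈ wt ρ a₁ a₂ s₁ s₂ ↔ ρ a₁ v = s₁ • v ∧ ρ a₂ v = s₂ • v := by
  simp [wt, sub_eq_zero]

section
variable {b a₁ a₂ : G} (h : Four b a₁ a₂)
include h

theorem decomp (v : V) : ∃ c ∈ wt ρ a₁ a₂ 1 1, ∃ x ∈ wt ρ a₁ a₂ 1 (-1),
    ∃ y ∈ wt ρ a₁ a₂ (-1) 1, ∃ z ∈ wt ρ a₁ a₂ (-1) (-1), v = c + x + y + z := by
  have h11 := h.app₁₁ ρ
  have h22 := h.app₂₂ ρ
  have h21 := h.app₂₁ ρ
  refine ⟨v + ρ a₁ v + ρ a₂ v + ρ a₁ (ρ a₂ v), mem_wt.2 ⟨?_, ?_⟩,
    v + ρ a₁ v - ρ a₂ v - ρ a₁ (ρ a₂ v), mem_wt.2 ⟨?_, ?_⟩,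
    v - ρ a₁ v + ρ a₂ v - ρ a₁ (ρ a₂ v), mem_wt.2 ⟨?_, ?_⟩,
    v - ρ a₁ v - ρ a₂ v + ρ a₁ (ρ a₂ v), mem_wt.2 ⟨?_, ?_⟩, ?_⟩
  iterate 8
    simp only [map_add, map_sub, h11, h22, h21, one_smul, neg_one_smul]
    abel
  have := ZModModule.char_nsmul_eq_zero 3 v
  rw [succ_nsmul, two_nsmul] at this
  linear_combination (norm := abel) -this

theorem b_wt {v : V} {s₁ s₂ : ZMod 3} (hv : v ∈ wt ρ a₁ a₂ s₁ s₂) :
    ρ b v ∈ wt ρ a₁ a₂ (s₁ * s₂) s₁ := by
  rw [mem_wt] at hv ⊢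
  constructor
  · calc ρ a₁ (ρ b v) = ρ b (ρ (a₁ * a₂) v) := by
          rw [← mul_app, ← mul_app,
            show a₁ * b = b * (a₁ * a₂) * b⁻¹ * b by rw [h.conj₃], inv_mul_cancel_right]
      _ = _ := by
          rw [mul_app, hv.2, map_smul, hv.1, map_smul, map_smul, smul_smul, mul_comm]
  · calc ρ a₂ (ρ b v) = ρ b (ρ a₁ v) := by
          rw [← mul_app, ← mul_app, show a₂ * b = b * a₁ * b⁻¹ * b by rw [h.conj₁],
            inv_mul_cancel_right]
      _ = _ := by rw [hv.1, map_smul]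

theorem b_wt_x {v : V} (hv : v ∈ wt ρ a₁ a₂ 1 (-1)) : ρ b v ∈ wt ρ a₁ a₂ (-1) 1 := by
  simpa using b_wt h hv

theorem b_wt_y {v : V} (hv : v ∈ wt ρ a₁ a₂ (-1) 1) : ρ b v ∈ wt ρ a₁ a₂ (-1) (-1) := by
  simpa using b_wt h hv

theorem b_wt_z {v : V} (hv : v ∈ wt ρ a₁ a₂ (-1) (-1)) : ρ b v ∈ wt ρ a₁ a₂ 1 (-1) := by
  simpa using b_wt h hv

theorem b_wt_c {v : V} (hv : v ∈ wt ρ a₁ a₂ 1 1) : ρ b v ∈ wt ρ a₁ a₂ 1 1 := by
  simpa using b_wt h hv

theorem indep {c x y z : V} (hc : c ∈ wt ρ a₁ a₂ 1 1) (hx : x ∈ wt ρ a₁ a₂ 1 (-1))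
    (hy : y ∈ wt ρ a₁ a₂ (-1) 1) (hz : z ∈ wt ρ a₁ a₂ (-1) (-1)) (e : c + x + y + z = 0) :
    c = 0 ∧ x = 0 ∧ y = 0 ∧ z = 0 := by
  rw [mem_wt] at hc hx hy hz
  simp only [one_smul, neg_one_smul] at hc hx hy hz
  have e1 : c + x - y - z = 0 := by
    have := congrArg (ρ a₁) e
    simp only [map_add, map_zero, hc.1, hx.1, hy.1, hz.1] at this
    rw [← this]; abel
  have e2 : c - x + y - z = 0 := by
    have := congrArg (ρ a₂) e
    simp only [map_add, map_zero, hc.2, hx.2, hy.2, hz.2] at this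
    rw [← this]; abel
  have e3 : c - x - y + z = 0 := by
    have := congrArg (fun v => ρ a₁ (ρ a₂ v)) e
    simp only [map_add, map_zero, map_neg, hc.1, hx.1, hy.1, hz.1, hc.2, hx.2, hy.2, hz.2] at this
    rw [← this]; abel
  have three : ∀ w : V, w + w + w = 0 := fun w => by
    have := ZModModule.char_nsmul_eq_zero 3 w
    rwa [succ_nsmul, two_nsmul] at this
  refine ⟨?_, ?_, ?_, ?_⟩
  · linear_combination (norm := abel) e + e1 + e2 + e3 - three c
  · linear_combination (norm := abel) e + e1 - e2 - e3 - three x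
  · linear_combination (norm := abel) e - e1 + e2 - e3 - three y
  · linear_combination (norm := abel) e - e1 - e2 + e3 - three z

variable [Finite V] (hinj : Function.Injective ρ) (hb : Cubic ρ b)
include hinj hb

/-- The three non-trivial weight spaces are lines and `b` is trivial on the fourth. -/
theorem weights :
    Nat.card (wt ρ a₁ a₂ 1 (-1)) = 3 ∧ Nat.card (wt ρ a₁ a₂ (-1) 1) = 3 ∧
      Nat.card (wt ρ a₁ a₂ (-1) (-1)) = 3 ∧ ∀ c ∈ wt ρ a₁ a₂ 1 1, ρ b c = c := by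
  classical
  set X := wt ρ a₁ a₂ 1 (-1)
  set Y := wt ρ a₁ a₂ (-1) 1
  set Z := wt ρ a₁ a₂ (-1) (-1)
  have hXY : Nat.card X ≤ Nat.card Y := Nat.card_le_card_of_injective
    (fun v : X => (⟨ρ b v, b_wt_x h v.2⟩ : Y))
    (fun v w e => Subtype.ext (inj_app b (congrArg Subtype.val e)))
  have hYZ : Nat.card Y ≤ Nat.card Z := Nat.card_le_card_of_injective
    (fun v : Y => (⟨ρ b v, b_wt_y h v.2⟩ : Z))
    (fun v w e => Subtype.ext (inj_app b (congrArg Subtype.val e)))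
  have hZX : Nat.card Z ≤ Nat.card X := Nat.card_le_card_of_injective
    (fun v : Z => (⟨ρ b v, b_wt_z h v.2⟩ : X))
    (fun v w e => Subtype.ext (inj_app b (congrArg Subtype.val e)))
  have hXone : 1 < Nat.card X := by
    by_contra hle
    have hsub : ∀ (U : Submodule (ZMod 3) V), Nat.card U ≤ 1 → ∀ v ∈ U, v = 0 := by
      intro U hU v hv
      haveI : Subsingleton U := Finite.card_le_one_iff_subsingleton.1 hU
      exact congrArg Subtype.val (Subsingleton.elim (⟨v, hv⟩ : U) 0)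
    refine h.ne (eq_of_app hinj fun v => ?_)
    obtain ⟨c, hc, x, hx, y, hy, z, hz, rfl⟩ := decomp (ρ := ρ) h v
    rw [hsub X (by omega) x hx, hsub Y (by omega) y hy, hsub Z (by omega) z hz, add_zero, add_zero,
      add_zero, one_app, (mem_wt.1 hc).1, one_smul]
  have hX3 : 3 ≤ Nat.card X := by
    obtain ⟨v, hv, hv0⟩ := exists_ne_zero_of_card hXone
    exact card_ge_three hv hv0
  let f : X × Y → LinearMap.range (ρ b - 1) := fun p =>
    ⟨ρ b (p.1 + p.2 : V) - (p.1 + p.2), D_mem b _⟩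
  have hf : Function.Injective f := by
    rintro ⟨⟨x, hx⟩, ⟨y, hy⟩⟩ ⟨⟨x', hx'⟩, ⟨y', hy'⟩⟩ e
    have e' : ρ b (x + y) - (x + y) = ρ b (x' + y') - (x' + y') := congrArg Subtype.val e
    have key := indep (ρ := ρ) h (Submodule.zero_mem _) (X.neg_mem (X.sub_mem hx hx'))
      (Y.sub_mem (b_wt_x h (X.sub_mem hx hx')) (Y.sub_mem hy hy'))
      (b_wt_y h (Y.sub_mem hy hy')) (by
        simp only [map_sub, map_add] at e' ⊢
        linear_combination (norm := abel) e')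
    obtain ⟨-, h1, h2, -⟩ := key
    have hxx : x = x' := sub_eq_zero.1 (neg_eq_zero.1 h1)
    subst hxx
    rw [sub_self, map_zero, zero_sub, neg_eq_zero, sub_eq_zero] at h2
    subst h2
    rfl
  have hle := (Nat.card_le_card_of_injective f hf).trans hb.small
  rw [Nat.card_prod] at hle
  have hX : Nat.card X = 3 := by nlinarith
  refine ⟨hX, by omega, by omega, fun c hc => ?_⟩
  have hsurj := hf.bijective_of_nat_card_le (by
    rw [Nat.card_prod, show Nat.card Y = 3 by omega, hX]; exact hb.small)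
  obtain ⟨⟨⟨x, hx⟩, ⟨y, hy⟩⟩, hp⟩ := hsurj.2 ⟨ρ b c - c, D_mem b c⟩
  have e' : ρ b (x + y) - (x + y) = ρ b c - c := congrArg Subtype.val hp
  have key := indep (ρ := ρ) h (Submodule.sub_mem _ (b_wt_c h hc) hc) hx
    (Y.sub_mem hy (b_wt_x h hx)) (Submodule.neg_mem _ (b_wt_y h hy)) (by
      simp only [map_add] at e'
      linear_combination (norm := abel) -e')
  exact sub_eq_zero.1 key.1

end

end Cfsg.Agent.ASolv.CubicFour
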