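import Cfsg.Agent.ASolv.CubicFour

/-!
An irreducible group `R⟨b⟩` with `b` a cubic element and a four-group in `R`: the centre is scalar
and `R` has no non-trivial normal elementary abelian `q`-subgroup for a prime `q ≥ 5`.
-/

set_option autoImplicit false

namespace Cfsg.Agent.ASolv.CubicIrr

open Cfsg.Agent.ASolv.CubicFour

variable {G : Type*} [Group G] {V : Type*} [AddCommGroup V] [Module (ZMod 3) V]
variable {ρ : Representation (ZMod 3) G V}

/-- The standing hypotheses. -/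
structure Setting (ρ : Representation (ZMod 3) G V) (R : Subgroup G) (b a₁ a₂ : G) : Prop where
  inj : Function.Injective ρ
  cubic : Cubic ρ b
  irr : ∀ U : Submodule (ZMod 3) V, (∀ g : G, ∀ v ∈ U, ρ g v ∈ U) → U = ⊥ ∨ U = ⊤
  normal : R.Normal
  gen : R ⊔ Subgroup.zpowers b = ⊤
  comm : R ≤ Subgroup.closure {x | ∃ r ∈ R, x = r * b * r⁻¹ * b⁻¹}
  cop : ¬ 3 ∣ Nat.card R
  mem : a₁ ∈ R
  four : Four b a₁ a₂

/-- The subgroup of elements preserving a submodule. -/
def stab (ρ : Representation (ZMod 3) G V) (U : Submodule (ZMod 3) V) : Subgroup G where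
  carrier := {g | ∀ v, ρ g v ∈ U ↔ v ∈ U}
  one_mem' := fun v => by rw [one_app]
  mul_mem' := fun {g h} hg hh v => by rw [mul_app, hg, hh]
  inv_mem' := fun {g} hg v => by rw [← hg, app_inv]

/-- The subgroup of elements fixing a submodule pointwise. -/
def fix (ρ : Representation (ZMod 3) G V) (U : Submodule (ZMod 3) V) : Subgroup G where
  carrier := {g | ∀ v ∈ U, ρ g v = v}
  one_mem' := fun v _ => one_app v
  mul_mem' := fun {g h} hg hh v hv => by rw [mul_app, hh v hv, hg v hv]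
  inv_mem' := fun {g} hg v hv => by
    conv_lhs => rw [← hg v hv]
    exact inv_app g v

theorem mem_stab [Finite V] {U : Submodule (ZMod 3) V} {g : G} (hg : ∀ v ∈ U, ρ g v ∈ U) :
    g ∈ stab ρ U := by
  intro v
  refine ⟨fun h => ?_, hg v⟩
  have hinj : Function.Injective (fun w : U => (⟨ρ g w, hg w w.2⟩ : U)) :=
    fun x y e => Subtype.ext (inj_app g (congrArg Subtype.val e))
  obtain ⟨⟨w, hw⟩, e⟩ := (Finite.injective_iff_surjective.1 hinj) ⟨ρ g v, h⟩
  exact inj_app g (congrArg Subtype.val e) ▸ hw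

namespace Setting

variable {R : Subgroup G} {b a₁ a₂ : G} (S : Setting ρ R b a₁ a₂)
include S

theorem le_of_conj {H : Subgroup G} (h : ∀ r ∈ R, r * b * r⁻¹ * b⁻¹ ∈ H) : R ≤ H :=
  S.comm.trans ((Subgroup.closure_le H).2 (by rintro x ⟨r, hr, rfl⟩; exact h r hr))

theorem top_le {H : Subgroup G} (hR : R ≤ H) (hb : b ∈ H) : ∀ g : G, g ∈ H := fun g =>
  (S.gen ▸ sup_le hR (Subgroup.zpowers_le.2 hb) : (⊤ : Subgroup G) ≤ H) (Subgroup.mem_top g)

theorem mem₂ : a₂ ∈ R := S.four.conj₁ ▸ S.normal.conj_mem _ S.mem b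

/-- A submodule preserved by all conjugates of `b` is trivial or everything. -/
theorem irr_of_conj [Finite V] {U : Submodule (ZMod 3) V}
    (h : ∀ r ∈ R, ∀ v ∈ U, ρ (r * b * r⁻¹) v ∈ U) : U = ⊥ ∨ U = ⊤ := by
  have hb : b ∈ stab ρ U := mem_stab (by simpa using h 1 R.one_mem)
  have hR : R ≤ stab ρ U :=
    S.le_of_conj fun r hr => mul_mem (mem_stab (h r hr)) (inv_mem hb)
  exact S.irr U fun g v hv => (S.top_le hR hb g v).2 hv

/-- An element centralising `R` and `b` acts as `1` or `-1`. -/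
theorem scalar [Finite V] {c : G} (hR : ∀ r ∈ R, c * r = r * c) (hb : c * b = b * c) :
    (∀ v, ρ c v = v) ∨ (∀ v, ρ c v = -v) := by
  obtain ⟨v₀, hv₀, h⟩ := exists_eigen S.cubic
  have hall : ∀ g : G, c * g = g * c := fun g => by
    have := S.top_le (H := Subgroup.centralizer {c})
      (fun r hr => Subgroup.mem_centralizer_singleton_iff.2 (hR r hr).symm)
      (Subgroup.mem_centralizer_singleton_iff.2 hb.symm) g
    exact (Subgroup.mem_centralizer_singleton_iff.1 this).symm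
  have key : ∀ s : ZMod 3, ρ c v₀ = s • v₀ → ∀ v, ρ c v = s • v := by
    intro s hs
    let U : Submodule (ZMod 3) V := LinearMap.ker (ρ c - s • (1 : V →ₗ[ZMod 3] V))
    have hU : ∀ v, v ∈ U ↔ ρ c v = s • v := fun v => by simp [U, sub_eq_zero]
    rcases S.irr U (fun g v hv => by
      rw [hU] at hv ⊢; rw [← mul_app, hall, mul_app, hv, map_smul]) with h' | h'
    · exact absurd (by have := (hU v₀).2 hs; rwa [h', Submodule.mem_bot] at this) hv₀
    · exact fun v => (hU v).1 (h' ▸ Submodule.mem_top)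
  rcases h c hb with e | e
  · exact Or.inl fun v => by simpa using key 1 (by simpa using e) v
  · exact Or.inr fun v => by simpa using key (-1) (by simpa using e) v

/-- A normal subgroup centralised by `b` is centralised by `R`. -/
theorem central_of_b {N : Subgroup G} [N.Normal] (hb : ∀ n ∈ N, b * n = n * b) :
    ∀ r ∈ R, ∀ n ∈ N, n * r = r * n := by
  have hb' : b ∈ Subgroup.centralizer (N : Set G) :=
    Subgroup.mem_centralizer_iff.2 fun n hn => (hb n hn).symm
  have hN : R ≤ Subgroup.centralizer (N : Set G) := S.le_of_conj fun r _ =>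
    mul_mem (Subgroup.Normal.conj_mem inferInstance b hb' r) (inv_mem hb')
  exact fun r hr n hn => Subgroup.mem_centralizer_iff.1 (hN hr) n hn

theorem scalar_of_b [Finite V] {N : Subgroup G} [N.Normal] (hb : ∀ n ∈ N, b * n = n * b)
    {n : G} (hn : n ∈ N) : (∀ v, ρ n v = v) ∨ (∀ v, ρ n v = -v) :=
  S.scalar (fun r hr => S.central_of_b hb r hr n hn) (hb n hn).symm

end Setting

/-! ### No normal elementary abelian `q`-subgroups, `q ≥ 5` -/

section Odd

variable [Finite V] {q : ℕ} [hq : Fact q.Prime]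

omit hq [Finite V] in
theorem pow_app_fixed {u : G} {w : V} (h : ρ u w = w) : ∀ k : ℕ, ρ (u ^ k) w = w := by
  intro k
  induction k with
  | zero => rw [pow_zero, one_app]
  | succ k ih => rw [pow_succ, mul_app, h, ih]

omit [Finite V] in
theorem fixed_inter {u : G} (hu : u ^ q = 1) (hq3 : q ≠ 3) {w : V}
    (hw : w ∈ LinearMap.range (ρ u - 1)) (hfix : ρ u w = w) : w = 0 := by
  obtain ⟨x, hx⟩ := hw
  have hx' : ρ u x - x = w := hx
  have h : ∀ k : ℕ, ρ (u ^ k) x = x + k • w := by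
    intro k
    induction k with
    | zero => rw [pow_zero, one_app, zero_smul, add_zero]
    | succ k ih =>
        rw [pow_succ', mul_app, ih, map_add, map_nsmul, hfix, succ_nsmul,
          show ρ u x = x + w by rw [← hx']; abel]
        abel
  have hq0 := h q
  rw [hu, one_app, left_eq_add] at hq0
  have hne : (q : ZMod 3) ≠ 0 := by
    rw [ne_eq, ZMod.natCast_eq_zero_iff]
    exact fun hd => hq3 ((Nat.prime_dvd_prime_iff_eq (by norm_num) hq.out).1 hd).symm
  rw [← Nat.cast_smul_eq_nsmul (ZMod 3), smul_eq_zero] at hq0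
  exact hq0.resolve_left hne

theorem card_submodule (U : Submodule (ZMod 3) V) : ∃ m, Nat.card U = 3 ^ m := by
  refine ⟨Module.finrank (ZMod 3) U, ?_⟩
  rw [Module.natCard_eq_pow_finrank (K := ZMod 3), Nat.card_zmod]

theorem app_mem_range {u v : G} (hc : v * u = u * v) {w : V} (hw : w ∈ LinearMap.range (ρ u - 1)) :
    ρ v w ∈ LinearMap.range (ρ u - 1) := by
  obtain ⟨x, rfl⟩ := hw
  refine ⟨ρ v x, ?_⟩
  show ρ u (ρ v x) - ρ v x = ρ v (ρ u x - x)
  rw [map_sub, ← mul_app, ← hc, mul_app]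

theorem q_dvd {u : G} (hu : u ^ q = 1) (hq3 : q ≠ 3) {M : Submodule (ZMod 3) V}
    (hM : M ≤ LinearMap.range (ρ u - 1)) (hinv : ∀ w ∈ M, ρ u w ∈ M) :
    Nat.card M ≡ 1 [MOD q] := by
  classical
  let e : M ≃ M :=
    Equiv.ofBijective (fun w : M => (⟨ρ u w, hinv _ w.2⟩ : M))
      (Finite.injective_iff_bijective.1 fun x y h => Subtype.ext (inj_app u (congrArg Subtype.val h)))
  have hpow : ∀ k : ℕ, ∀ w : M, (((e ^ k) w : M) : V) = ρ (u ^ k) w := by
    intro k
    induction k with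
    | zero => intro w; rw [pow_zero, pow_zero, one_app]; rfl
    | succ k ih => intro w; rw [pow_succ', pow_succ', mul_app, ← ih w]; rfl
  have heq : e ^ q ^ 1 = 1 := by
    rw [pow_one]
    exact Equiv.ext fun w => Subtype.ext (by rw [hpow, hu, one_app]; rfl)
  have hP : IsPGroup q (Subgroup.zpowers e) := by
    rintro ⟨g, hg⟩
    obtain ⟨i, rfl⟩ := Subgroup.mem_zpowers_iff.1 hg
    refine ⟨1, Subtype.ext ?_⟩
    show (e ^ i) ^ (q ^ 1) = 1
    rw [← zpow_natCast, ← zpow_mul, mul_comm, zpow_mul, zpow_natCast, heq, one_zpow]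
  haveI := Fintype.ofFinite M
  have hcard := hP.card_modEq_card_fixedPoints M
  have hfp : MulAction.fixedPoints (Subgroup.zpowers e) M = {(0 : M)} := by
    ext w
    refine ⟨fun h => ?_, fun h => ?_⟩
    · have := congrArg Subtype.val (h ⟨e, Subgroup.mem_zpowers e⟩)
      exact Subtype.ext (fixed_inter hu hq3 (hM w.2) this)
    · rw [Set.mem_singleton_iff] at h
      subst h
      rintro ⟨g, hg⟩
      obtain ⟨i, rfl⟩ := Subgroup.mem_zpowers_iff.1 hg
      have h0 : e 0 = 0 := Subtype.ext (map_zero (ρ u))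
      exact Equiv.Perm.zpow_apply_eq_self_of_apply_eq_self h0 i
  rw [hfp, Nat.card_coe_set_eq, Set.ncard_singleton] at hcard
  exact hcard

theorem q_cases {u : G} (hu : u ^ q = 1) (hq5 : 5 ≤ q) (hinj : Function.Injective ρ) (hu1 : u ≠ 1)
    (h81 : Nat.card (LinearMap.range (ρ u - 1)) ≤ 81) :
    (q = 5 ∧ Nat.card (LinearMap.range (ρ u - 1)) = 81) ∨
      (q = 13 ∧ Nat.card (LinearMap.range (ρ u - 1)) = 27) := by
  obtain ⟨m, hm⟩ := card_submodule (LinearMap.range (ρ u - 1))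
  have hmod := q_dvd (ρ := ρ) hu (by omega) le_rfl (fun w hw => app_mem_range rfl hw)
  have hm0 : m ≠ 0 := by
    rintro rfl
    rw [pow_zero] at hm
    haveI := Finite.card_le_one_iff_subsingleton.1 hm.le
    refine hu1 (eq_of_app hinj fun v => ?_)
    have := congrArg Subtype.val (Subsingleton.elim
      (⟨ρ u v - v, v, rfl⟩ : LinearMap.range (ρ u - 1)) 0)
    rw [one_app]; exact sub_eq_zero.1 this
  rw [hm] at hmod h81 ⊢
  have hm4 : m ≤ 4 := (Nat.pow_le_pow_iff_right (by norm_num : 1 < 3)).1 (by simpa using h81)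
  have hd : q ∣ 3 ^ m - 1 := (Nat.modEq_iff_dvd' (Nat.one_le_pow _ _ (by norm_num))).1 hmod.symm
  have hqle : q ≤ 80 := (Nat.le_of_dvd (by
    have : 3 ≤ 3 ^ m := Nat.le_self_pow hm0 3
    omega) hd).trans (by have := h81; omega)
  have hp := hq.out
  have hmem : q ∈ Nat.divisors (3 ^ m - 1) := Nat.mem_divisors.2 ⟨hd, by
    have : 3 ≤ 3 ^ m := Nat.le_self_pow hm0 3
    omega⟩
  interval_cases m
  · exact absurd rfl hm0
  all_goals
    rw [show Nat.divisors (3 ^ _ - 1) = _ from rfl] at hmem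
    fin_cases hmem <;> first | omega | (norm_num at hp) | norm_num

theorem range_pow_le (u : G) : ∀ k : ℕ,
    LinearMap.range (ρ (u ^ k) - 1) ≤ LinearMap.range (ρ u - 1) := by
  intro k
  induction k with
  | zero =>
      rintro w ⟨x, rfl⟩
      show ρ (u ^ 0) x - x ∈ LinearMap.range (ρ u - 1)
      rw [pow_zero, one_app, sub_self]; exact zero_mem _
  | succ k ih =>
      rintro w ⟨x, rfl⟩
      show ρ (u ^ (k + 1)) x - x ∈ LinearMap.range (ρ u - 1)
      rw [pow_succ', mul_app, show ρ u (ρ (u ^ k) x) - x =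
        ρ u (ρ (u ^ k) x - x) + (ρ u x - x) by rw [map_sub]; abel]
      exact add_mem (app_mem_range rfl (ih ⟨x, rfl⟩)) ⟨x, rfl⟩

omit hq in
/-- `card (A + B) ≤ card A * card B`. -/
theorem card_sup_le (A B : Submodule (ZMod 3) V) :
    Nat.card ↥(A ⊔ B) ≤ Nat.card A * Nat.card B := by
  rw [← Nat.card_prod]
  refine Nat.card_le_card_of_surjective
    (fun p : A × B => (⟨p.1 + p.2, Submodule.add_mem_sup p.1.2 p.2.2⟩ : ↥(A ⊔ B))) ?_
  rintro ⟨w, hw⟩
  obtain ⟨a, ha, c, hc, rfl⟩ := Submodule.mem_sup.1 hw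
  exact ⟨(⟨a, ha⟩, ⟨c, hc⟩), rfl⟩

/-- An element commuting with `u` is a power of `u` on a `u`-irreducible piece of `range (u - 1)`. -/
theorem eq_pow_on {u v : G} (hu : u ^ q = 1) (hv : v ^ q = 1) (huv : v * u = u * v)
    {M : Submodule (ZMod 3) V} (hirr : ∀ W ≤ M, (∀ w ∈ W, ρ u w ∈ W) → W = ⊥ ∨ W = M)
    (hMu : ∀ w ∈ M, ρ u w ∈ M) (hMv : ∀ w ∈ M, ρ v w ∈ M)
    (hne : ∃ w ∈ M, ρ u w ≠ w) : ∃ i : ℕ, ∀ w ∈ M, ρ v w = ρ (u ^ i) w := by
  classical
  set U : Module.End (ZMod 3) M := (ρ u).restrict hMu with hU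
  set W : Module.End (ZMod 3) M := (ρ v).restrict hMv with hW
  have hUW : W * U = U * W := LinearMap.ext fun x => Subtype.ext (by
    show ρ v (ρ u x) = ρ u (ρ v x); rw [← mul_app, huv, mul_app])
  let A : Subring (Module.End (ZMod 3) M) := Subring.closure {U, W}
  letI : CommRing A := Subring.closureCommRingOfComm (by
    rintro a (rfl | rfl) c (rfl | rfl) <;> first | rfl | exact hUW | exact hUW.symm)
  have hA : A ≤ Subring.centralizer {U} := by
    refine Subring.closure_le.2 ?_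
    rintro a (rfl | rfl) c (rfl : c = U) <;> first | rfl | exact hUW.symm
  haveI : NoZeroDivisors A := by
    refine ⟨fun {a c} hac => ?_⟩
    by_cases hc : c = 0
    · exact Or.inr hc
    left
    have hc' : (c : Module.End (ZMod 3) M) ≠ 0 := fun e => hc (Subtype.ext e)
    obtain ⟨m, hm⟩ : ∃ m, (c : Module.End (ZMod 3) M) m ≠ 0 := by
      by_contra h; push Not at h; exact hc' (LinearMap.ext h)
    have hac' : (a : Module.End (ZMod 3) M) ((c : Module.End (ZMod 3) M) m) = 0 := by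
      have := LinearMap.congr_fun (congrArg Subtype.val hac) m
      simpa using this
    let K : Submodule (ZMod 3) V := (LinearMap.ker (a : Module.End (ZMod 3) M)).map M.subtype
    have hKM : K ≤ M := by rintro w ⟨x, -, rfl⟩; exact x.2
    have hKu : ∀ w ∈ K, ρ u w ∈ K := by
      rintro w ⟨x, hx, rfl⟩
      refine ⟨U x, ?_, rfl⟩
      have := LinearMap.congr_fun (Subring.mem_centralizer_iff.1 (hA a.2) U rfl) x
      rw [SetLike.mem_coe, LinearMap.mem_ker] at hx ⊢
      rw [Module.End.mul_apply, Module.End.mul_apply, hx, map_zero] at this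
      exact this.symm
    rcases hirr K hKM hKu with h | h
    · refine absurd ?_ hm
      have : M.subtype ((c : Module.End (ZMod 3) M) m) ∈ K := ⟨_, hac', rfl⟩
      rw [h, Submodule.mem_bot] at this
      exact Subtype.ext this
    · refine Subtype.ext (LinearMap.ext fun x => ?_)
      obtain ⟨y, hy, e⟩ := show (x : V) ∈ K by rw [h]; exact x.2
      rw [show y = x from Subtype.ext e] at hy
      exact hy
  obtain ⟨w₀, hw₀, hw₀'⟩ := hne
  haveI : Nontrivial M := ⟨⟨⟨w₀, hw₀⟩, ⟨ρ u w₀, hMu _ hw₀⟩, fun e =>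
    hw₀' (congrArg Subtype.val e).symm⟩⟩
  haveI : Nontrivial A := ⟨⟨0, 1, fun e => zero_ne_one (α := Module.End (ZMod 3) M)
    (congrArg Subtype.val e)⟩⟩
  haveI : IsDomain A := NoZeroDivisors.to_isDomain A
  have hpow : ∀ (g : G) (hg : ∀ w ∈ M, ρ g w ∈ M) (k : ℕ) (x : M),
      ((((ρ g).restrict hg) ^ k) x : V) = ρ (g ^ k) x := by
    intro g hg k
    induction k with
    | zero => intro x; rw [pow_zero, pow_zero, one_app]; rfl
    | succ k ih => intro x; rw [pow_succ', pow_succ', mul_app, ← ih x]; rfl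
  let U' : A := ⟨U, Subring.subset_closure (Or.inl rfl)⟩
  let W' : A := ⟨W, Subring.subset_closure (Or.inr rfl)⟩
  have hUq : U' ^ q = 1 := Subtype.ext (LinearMap.ext fun x => Subtype.ext (by
    show ((U ^ q) x : V) = x
    rw [hU, hpow, hu, one_app]))
  have hWq : W' ^ q = 1 := Subtype.ext (LinearMap.ext fun x => Subtype.ext (by
    show ((W ^ q) x : V) = x
    rw [hW, hpow, hv, one_app]))
  have hU1 : U' ≠ 1 := fun e => hw₀' (congrArg Subtype.val
    (LinearMap.congr_fun (congrArg Subtype.val e) ⟨w₀, hw₀⟩))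
  have hprim : IsPrimitiveRoot U' q := by
    rw [IsPrimitiveRoot.iff_orderOf]; exact orderOf_eq_prime hUq hU1
  haveI : NeZero q := ⟨hq.out.ne_zero⟩
  obtain ⟨i, -, hi⟩ := hprim.eq_pow_of_pow_eq_one hWq
  refine ⟨i, fun w hw => ?_⟩
  have := congrArg Subtype.val (LinearMap.congr_fun (congrArg Subtype.val hi) ⟨w, hw⟩)
  refine Eq.trans ?_ (hpow u hMu i ⟨w, hw⟩)
  exact this.symm

theorem card_cases {u : G} (hu : u ^ q = 1) {c : ℕ} (hc : (q = 5 ∧ c = 81) ∨ (q = 13 ∧ c = 27))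
    (hcard : Nat.card (LinearMap.range (ρ u - 1)) = c) {W : Submodule (ZMod 3) V}
    (hW : W ≤ LinearMap.range (ρ u - 1)) (hinv : ∀ w ∈ W, ρ u w ∈ W) :
    W = ⊥ ∨ W = LinearMap.range (ρ u - 1) := by
  obtain ⟨m, hm⟩ := card_submodule W
  have hmod := q_dvd (ρ := ρ) hu (by omega) hW hinv
  have hle : Nat.card W ≤ c := hcard ▸ Nat.card_le_card_of_injective
    (Submodule.inclusion hW) (Submodule.inclusion_injective hW)
  rw [hm] at hmod hle
  have h81 : 3 ^ m ≤ 3 ^ 4 := hle.trans (by omega)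
  have hm4 : m ≤ 4 := (Nat.pow_le_pow_iff_right (by norm_num : 1 < 3)).1 h81
  have : m = 0 ∨ 3 ^ m = c := by
    rcases hc with ⟨rfl, rfl⟩ | ⟨rfl, rfl⟩ <;> interval_cases m <;>
      first | (left; rfl) | (right; norm_num; done) | (norm_num [Nat.ModEq] at hmod) | (norm_num at hle)
  rcases this with rfl | e
  · left
    rw [pow_zero] at hm
    haveI := Finite.card_le_one_iff_subsingleton.1 hm.le
    exact Submodule.eq_bot_of_subsingleton
  · right
    refine SetLike.coe_injective (Set.eq_of_subset_of_ncard_le hW ?_ (Set.toFinite _))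
    rw [← Nat.card_coe_set_eq, ← Nat.card_coe_set_eq]
    exact (hcard.trans (e.symm.trans hm.symm)).le

/-- `R` contains no non-trivial normal elementary abelian `q`-subgroup, `q ≥ 5`. -/
theorem no_odd {R : Subgroup G} {b a₁ a₂ : G} (S : Setting ρ R b a₁ a₂) (hq5 : 5 ≤ q)
    {N : Subgroup G} [hNn : N.Normal] (hNR : N ≤ R) (hexp : ∀ n ∈ N, n ^ q = 1)
    (hcom : ∀ x ∈ N, ∀ y ∈ N, x * y = y * x) : ∀ n ∈ N, n = 1 := by
  classical
  have hodd : q % 2 = 1 := (Nat.Prime.mod_two_eq_one_iff_ne_two hq.out).2 (by omega)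
  by_contra hN1
  push Not at hN1
  obtain ⟨n₁, hn₁, hn₁'⟩ := hN1
  have hmv : ∃ n₀ ∈ N, b * n₀ ≠ n₀ * b := by
    by_contra h
    push Not at h
    have h2 : n₁ ^ 2 = 1 := eq_of_app S.inj fun v => by
      rw [pow_two, mul_app, one_app]
      rcases S.scalar_of_b h hn₁ with e | e
      · rw [e, e]
      · rw [e, e, neg_neg]
    have hq1 := hexp n₁ hn₁
    rw [← Nat.div_add_mod q 2, hodd, pow_add, pow_mul, h2, one_pow, one_mul, pow_one] at hq1
    exact hn₁' hq1
  obtain ⟨n₀, hn₀, hn₀'⟩ := hmv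
  have hb3 : b * b * b = 1 := by
    rw [← S.cubic.cube]; simp [pow_succ, mul_assoc]
  have hbN : ∀ n ∈ N, b * n * b⁻¹ ∈ N := fun n hn => hNn.conj_mem n hn b
  let f : G → G := fun n => n⁻¹ * (b * n * b⁻¹)
  have hfN : ∀ n ∈ N, f n ∈ N := fun n hn => N.mul_mem (N.inv_mem hn) (hbN n hn)
  have hfmul : ∀ n ∈ N, ∀ m ∈ N, f (n * m) = f n * f m := by
    intro n hn m hm
    have h1 := hcom _ (hbN n hn) _ (N.inv_mem hm)
    have h2 := hcom _ (N.inv_mem hn) _ (N.inv_mem hm)
    calc (n * m)⁻¹ * (b * (n * m) * b⁻¹) = m⁻¹ * n⁻¹ * (b * n * b⁻¹) * (b * m * b⁻¹) := by group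
      _ = n⁻¹ * m⁻¹ * (b * n * b⁻¹) * (b * m * b⁻¹) := by rw [h2]
      _ = n⁻¹ * (m⁻¹ * (b * n * b⁻¹)) * (b * m * b⁻¹) := by group
      _ = n⁻¹ * ((b * n * b⁻¹) * m⁻¹) * (b * m * b⁻¹) := by rw [h1]
      _ = _ := by simp only [f]; group
  have hf1 : f 1 = 1 := by simp [f]
  have hfpow : ∀ n ∈ N, ∀ k : ℕ, f (n ^ k) = f n ^ k := by
    intro n hn k
    induction k with
    | zero => rw [pow_zero, pow_zero, hf1]
    | succ k ih => rw [pow_succ, pow_succ, hfmul _ (N.pow_mem hn k) _ hn, ih]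
  set D := LinearMap.range (ρ b - 1) with hD
  have hfsub : ∀ n v, ρ (f n) v - v ∈ D.map (ρ n⁻¹) ⊔ D := by
    intro n v
    set w := ρ b⁻¹ v with hw
    have hv : v = ρ b w := (app_inv b v).symm
    have he : ρ (f n) v - v =
        ρ n⁻¹ (ρ b (ρ n w) - ρ n w) + -(ρ b w - w) := by
      rw [show f n = n⁻¹ * (b * n * b⁻¹) from rfl, mul_app, mul_app, mul_app, ← hw, map_sub,
        inv_app, ← hv]
      abel
    rw [he]
    exact Submodule.add_mem_sup ⟨_, D_mem b _, rfl⟩ (neg_mem (D_mem b w))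
  have h81 : ∀ n, Nat.card (LinearMap.range (ρ (f n) - 1)) ≤ 81 := by
    intro n
    have hle : LinearMap.range (ρ (f n) - 1) ≤ D.map (ρ n⁻¹) ⊔ D := by
      rintro w ⟨v, rfl⟩; exact hfsub n v
    have h1 := Nat.card_le_card_of_injective (Submodule.inclusion hle)
      (Submodule.inclusion_injective hle)
    have h2 : Nat.card (D.map (ρ n⁻¹)) ≤ 9 := (Nat.card_le_card_of_surjective
      (fun x : D => (⟨ρ n⁻¹ x, _, x.2, rfl⟩ : D.map (ρ n⁻¹))) (by
        rintro ⟨w, x, hx, rfl⟩; exact ⟨⟨x, hx⟩, rfl⟩)).trans S.cubic.small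
    have h3 : Nat.card D ≤ 9 := S.cubic.small
    have h4 := card_sup_le (D.map (ρ n⁻¹)) D
    have := Nat.mul_le_mul h2 h3
    omega
  set u := f n₀ with hu
  have huN : u ∈ N := hfN _ hn₀
  have hu1 : u ≠ 1 := fun e => hn₀' (by
    have := mul_eq_one_iff_inv_eq.1 e
    rw [inv_inv] at this
    conv_rhs => rw [this]
    group)
  have hcases : ∀ n ∈ N, f n ≠ 1 → (q = 5 ∧ Nat.card (LinearMap.range (ρ (f n) - 1)) = 81) ∨
      (q = 13 ∧ Nat.card (LinearMap.range (ρ (f n) - 1)) = 27) :=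
    fun n hn h => q_cases (hexp _ (hfN n hn)) hq5 S.inj h (h81 n)
  set c := Nat.card (LinearMap.range (ρ u - 1)) with hc
  have hcc := hcases n₀ hn₀ hu1
  rw [← hu, ← hc] at hcc
  have huq : u ^ q = 1 := hexp _ huN
  have hq3 : q ≠ 3 := by omega
  set M := LinearMap.range (ρ u - 1) with hM
  have hMu : ∀ w ∈ M, ρ u w ∈ M := fun w hw => app_mem_range rfl hw
  have hMN : ∀ v ∈ N, ∀ w ∈ M, ρ v w ∈ M := fun v hv w hw => app_mem_range (hcom v hv u huN) hw
  have hMirr : ∀ W ≤ M, (∀ w ∈ W, ρ u w ∈ W) → W = ⊥ ∨ W = M :=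
    fun W hW hinv => card_cases huq hcc hc.symm hW hinv
  have hMne : ∃ w ∈ M, ρ u w ≠ w := by
    obtain ⟨w, hw, hw0⟩ := exists_ne_zero_of_card (U := M) (by omega)
    exact ⟨w, hw, fun e => hw0 (fixed_inter huq hq3 hw e)⟩
  -- all values of `f` are powers of `u`
  have huniq : ∀ n ∈ N, ∃ i : ℕ, f n = u ^ i := by
    intro n hn
    obtain ⟨i, hi⟩ := eq_pow_on huq (hexp _ (hfN n hn)) (hcom _ (hfN n hn) _ huN) hMirr hMu
      (hMN _ (hfN n hn)) hMne
    refine ⟨i, ?_⟩
    set j := i * (q - 1) with hj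
    have huinv : u ^ j * u ^ i = 1 := by
      rw [← pow_add, show j + i = q * i by
        rw [hj, show q = q - 1 + 1 by omega, Nat.add_sub_cancel]; ring, pow_mul, huq, one_pow]
    set m := n * n₀ ^ j with hm
    have hmN : m ∈ N := N.mul_mem hn (N.pow_mem hn₀ _)
    set w := f m with hw
    have hwdef : w = f n * u ^ j := by rw [hw, hm, hfmul _ hn _ (N.pow_mem hn₀ _), hfpow _ hn₀]
    by_cases hw1 : w = 1
    · rw [hwdef] at hw1
      rw [eq_inv_of_mul_eq_one_left hw1, inv_eq_of_mul_eq_one_right huinv]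
    exfalso
    have htriv : ∀ x ∈ M, ρ w x = x := fun x hx => by
      rw [hwdef, mul_app, hi _ (hMN _ (N.pow_mem huN _) x hx), ← mul_app,
        ← pow_add, add_comm, pow_add, huinv, one_app]
    set M' := LinearMap.range (ρ w - 1) with hM'
    have hwN : w ∈ N := hfN _ hmN
    have hfix : ∀ y ∈ M', ρ u y = y := by
      rintro y ⟨x, rfl⟩
      show ρ u (ρ w x - x) = ρ w x - x
      have := htriv (ρ u x - x) ⟨x, rfl⟩
      rw [map_sub, ← mul_app, hcom w hwN u huN, mul_app] at this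
      rw [map_sub]
      linear_combination (norm := abel) this
    have huwN : n * n₀ ^ j * n₀ ∈ N := N.mul_mem hmN hn₀
    have huw : f (n * n₀ ^ j * n₀) = w * u := by rw [hfmul _ hmN _ hn₀]
    have hbig := h81 (n * n₀ ^ j * n₀)
    rw [huw] at hbig
    have hcasesw := hcases m hmN hw1
    rw [← hw, ← hM'] at hcasesw
    let φ : M × M' → LinearMap.range (ρ (w * u) - 1) := fun p =>
      ⟨ρ (w * u) (p.1 + p.2 : V) - (p.1 + p.2), _, rfl⟩
    have hφ : Function.Injective φ := by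
      rintro ⟨⟨x, hx⟩, ⟨y, hy⟩⟩ ⟨⟨x', hx'⟩, ⟨y', hy'⟩⟩ e
      have e' : ρ (w * u) (x + y) - (x + y) = ρ (w * u) (x' + y') - (x' + y') :=
        congrArg Subtype.val e
      set dx := x - x'
      set dy := y - y'
      have hdx : dx ∈ M := M.sub_mem hx hx'
      have hdy : dy ∈ M' := M'.sub_mem hy hy'
      have h0 : (ρ u dx - dx) + (ρ w dy - dy) = 0 := by
        have h1 : ρ (w * u) dx = ρ u dx := by rw [mul_app, htriv _ (hMu _ hdx)]
        have h2 : ρ (w * u) dy = ρ w dy := by rw [mul_app, hfix _ hdy]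
        simp only [dx, dy, map_sub, map_add] at h1 h2 e' ⊢
        linear_combination (norm := abel) e' - h1 - h2
      have hin : ρ u dx - dx ∈ M := M.sub_mem (hMu _ hdx) hdx
      have hin' : ρ w dy - dy ∈ M' := M'.sub_mem (app_mem_range rfl hdy) hdy
      have hzero : ρ u dx - dx = 0 := by
        refine fixed_inter huq hq3 hin (hfix _ ?_)
        rw [eq_neg_of_add_eq_zero_left h0]
        exact M'.neg_mem hin'
      rw [hzero, zero_add] at h0
      have hx0 : dx = 0 := fixed_inter huq hq3 hdx (sub_eq_zero.1 hzero)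
      have hy0 : dy = 0 := fixed_inter (hexp _ hwN) hq3 hdy (sub_eq_zero.1 h0)
      have ex : x = x' := sub_eq_zero.1 hx0
      have ey : y = y' := sub_eq_zero.1 hy0
      subst ex; subst ey; rfl
    have hle := (Nat.card_le_card_of_injective φ hφ).trans hbig
    rw [Nat.card_prod, ← hc] at hle
    rcases hcc with ⟨-, h⟩ | ⟨-, h⟩ <;> rcases hcasesw with ⟨-, h'⟩ | ⟨-, h'⟩ <;>
      rw [h, h'] at hle <;> omega
  -- the action of `b` on `⟨u⟩`
  obtain ⟨k, hk⟩ := huniq _ (hbN _ hn₀)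
  have hbu : b * u * b⁻¹ = u ^ k := by
    rw [← hk, hu]; simp only [f]; group
  have hconjpow : ∀ a x : G, ∀ i : ℕ, (a * x * a⁻¹) ^ i = a * x ^ i * a⁻¹ := fun a x i => by
    rw [conj_pow]
  have hk3 : u ^ (k * k * k) = u := by
    have hk2 : (u ^ k) ^ k = b * (b * u * b⁻¹) * b⁻¹ := by
      conv_lhs => arg 1; rw [← hbu]
      rw [hconjpow, hbu]
    calc u ^ (k * k * k) = ((u ^ k) ^ k) ^ k := by rw [pow_mul, pow_mul]
      _ = b * (b * (b * u * b⁻¹) * b⁻¹) * b⁻¹ := by rw [hk2, hconjpow, hconjpow, ← hbu]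
      _ = (b * b * b) * u * (b * b * b)⁻¹ := by group
      _ = u := by rw [hb3]; group
  have hord : orderOf u = q := orderOf_eq_prime huq hu1
  have hkne : u ^ k ≠ u := by
    intro e
    have hb1 : b * u * b⁻¹ = u := hbu.trans e
    have h3 : u * u * u = 1 := by
      calc u * u * u = u * (b * u * b⁻¹) * (b * (b * u * b⁻¹) * b⁻¹) := by rw [hb1, hb1]
        _ = n₀⁻¹ * ((b * b * b) * n₀ * (b * b * b)⁻¹) := by rw [hu]; simp only [f]; group
        _ = 1 := by rw [hb3]; group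
    have hdvd : q ∣ 3 := hord ▸ orderOf_dvd_of_pow_eq_one (by
      rw [← h3]; simp [pow_succ, mul_assoc])
    exact absurd (Nat.le_of_dvd (by norm_num) hdvd) (by omega)
  have hq13 : q = 13 ∧ c = 27 := by
    rcases hcc with ⟨h5, -⟩ | h
    · exfalso
      have e1 : k * k * k ≡ 1 [MOD q] := hord ▸ pow_eq_pow_iff_modEq.1 (by rw [hk3, pow_one])
      refine hkne ?_
      conv_rhs => rw [← pow_one u]
      refine pow_eq_pow_iff_modEq.2 (hord.symm ▸ ?_)
      rw [h5] at e1 ⊢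
      rw [← ZMod.natCast_eq_natCast_iff] at e1 ⊢
      push_cast at e1 ⊢
      generalize (k : ZMod 5) = z at e1 ⊢
      revert z
      decide
    · exact h
  have hc27 : Nat.card M = 27 := hq13.2
  -- `b` normalises `M`
  have hbM : ∀ w ∈ M, ρ b w ∈ M := by
    rintro w ⟨x, rfl⟩
    refine range_pow_le u k ⟨ρ b x, ?_⟩
    show ρ (u ^ k) (ρ b x) - ρ b x = ρ b (ρ u x - x)
    rw [← hbu, ← mul_app, inv_mul_cancel_right, mul_app, map_sub]
  have hbinvM : ∀ w ∈ M, ρ b⁻¹ w ∈ M := fun w hw =>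
    (inv_mem (mem_stab hbM) : b⁻¹ ∈ stab ρ M) w |>.2 hw
  -- `range (ρ b - 1) ≤ M`
  set u2 := f u with hu2
  have hu2N : u2 ∈ N := hfN _ huN
  have hu21 : u2 ≠ 1 := fun e => hkne (by
    have := mul_eq_one_iff_inv_eq.1 e
    rw [inv_inv, hbu] at this
    exact this.symm)
  have hDM : D ≤ M := by
    obtain ⟨i, hi⟩ := huniq u huN
    have hcard2 : Nat.card (LinearMap.range (ρ u2 - 1)) = 27 := by
      rcases hcases u huN hu21 with ⟨h, -⟩ | ⟨-, h⟩
      · omega
      · exact h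
    have hle : LinearMap.range (ρ u2 - 1) ≤ M := by
      rw [hu2, hi]; exact range_pow_le u i
    have heq : LinearMap.range (ρ u2 - 1) = M := by
      refine SetLike.coe_injective (Set.eq_of_subset_of_ncard_le hle ?_ (Set.toFinite _))
      rw [← Nat.card_coe_set_eq, ← Nat.card_coe_set_eq]
      exact hc27.le.trans hcard2.ge
    set DM := M.map (ρ b - 1) with hDMdef
    have hDMle : DM ≤ M := by
      rintro w ⟨x, hx, rfl⟩; exact M.sub_mem (hbM x hx) hx
    let ψ : M → M := fun x => ⟨ρ u2 x - x, M.sub_mem (hMN _ hu2N _ x.2) x.2⟩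
    have hψ : Function.Injective ψ := by
      intro x y e
      have e' : ρ u2 x - x = ρ u2 y - y := congrArg Subtype.val e
      refine Subtype.ext (sub_eq_zero.1 (fixed_inter (ρ := ρ) (hexp _ hu2N) hq3 ?_ ?_))
      · rw [heq]; exact M.sub_mem x.2 y.2
      · rw [map_sub]; linear_combination (norm := abel) e'
    have hsub : M ≤ DM.map (ρ u⁻¹) ⊔ DM := by
      intro z hz
      obtain ⟨⟨x, hx⟩, hx'⟩ := (Finite.injective_iff_surjective.1 hψ) ⟨z, hz⟩
      have hz' : ρ u2 x - x = z := congrArg Subtype.val hx'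
      set w := ρ b⁻¹ x with hw
      have hwM : w ∈ M := hbinvM x hx
      have hv : x = ρ b w := (app_inv b x).symm
      have he : ρ u2 x - x = ρ u⁻¹ (ρ b (ρ u w) - ρ u w) + -(ρ b w - w) := by
        rw [hu2, show f u = u⁻¹ * (b * u * b⁻¹) from rfl, mul_app, mul_app, mul_app, ← hw, map_sub,
          inv_app, ← hv]
        abel
      rw [← hz', he]
      exact Submodule.add_mem_sup ⟨_, ⟨_, hMu _ hwM, rfl⟩, rfl⟩
        (neg_mem ⟨_, hwM, rfl⟩)
    have h1 := Nat.card_le_card_of_injective (Submodule.inclusion hsub)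
      (Submodule.inclusion_injective hsub)
    have h2 : Nat.card (DM.map (ρ u⁻¹)) ≤ Nat.card DM := Nat.card_le_card_of_surjective
      (fun x : DM => (⟨ρ u⁻¹ x, _, x.2, rfl⟩ : DM.map (ρ u⁻¹))) (by
        rintro ⟨w, x, hx, rfl⟩; exact ⟨⟨x, hx⟩, rfl⟩)
    have h4 := card_sup_le (DM.map (ρ u⁻¹)) DM
    have h5 : 9 ≤ Nat.card DM := by
      obtain ⟨m, hm⟩ := card_submodule DM
      rw [hm] at h2 h4 ⊢
      have h6 : 27 ≤ 3 ^ m * 3 ^ m := by
        have := Nat.mul_le_mul h2 (le_refl (3 ^ m))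
        omega
      rcases m with _ | _ | m
      · norm_num at h6
      · norm_num at h6
      · calc 9 ≤ 9 * 3 ^ m := Nat.le_mul_of_pos_right _ (by positivity)
          _ = _ := by ring
    have hDMD : DM = D := by
      have hsubD : DM ≤ D := LinearMap.map_le_range
      refine SetLike.coe_injective (Set.eq_of_subset_of_ncard_le hsubD ?_ (Set.toFinite _))
      rw [← Nat.card_coe_set_eq, ← Nat.card_coe_set_eq]
      exact S.cubic.small.trans h5
    exact hDMD ▸ hDMle
  have hker : ∀ x, ρ u x = x → ρ b x = x := by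
    intro x hx
    refine sub_eq_zero.1 (fixed_inter huq hq3 (hDM (D_mem b x)) ?_)
    have hbx : ρ u (ρ b x) = ρ b x := by
      have hb' : ρ (u ^ k) (ρ b x) = ρ b x := by
        rw [← hbu, ← mul_app, inv_mul_cancel_right, mul_app, hx]
      have := pow_app_fixed (u := u ^ k) (w := ρ b x) hb' (k * k)
      rwa [← pow_mul, ← mul_assoc, hk3] at this
    rw [map_sub, hbx, hx]
  -- `M` is everything
  have hMtop : M = ⊤ := by
    refine (S.irr_of_conj (U := M) ?_).resolve_left fun e => ?_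
    · intro r hr
      set u' := r * u * r⁻¹ with hu'
      have hu'N : u' ∈ N := hNn.conj_mem u huN r
      set M' := LinearMap.range (ρ u' - 1) with hM'
      have happ : ∀ x, ρ u' x = ρ r (ρ u (ρ r⁻¹ x)) := fun x => by
        rw [← mul_app r u, ← mul_app (r * u) r⁻¹]
      have hMr : ∀ x, x ∈ M' ↔ ρ r⁻¹ x ∈ M := by
        intro x
        constructor
        · rintro ⟨y, rfl⟩
          refine ⟨ρ r⁻¹ y, ?_⟩
          show ρ u (ρ r⁻¹ y) - ρ r⁻¹ y = ρ r⁻¹ (ρ u' y - y)
          rw [happ, map_sub, inv_app]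
        · rintro ⟨y, hy⟩
          refine ⟨ρ r y, ?_⟩
          show ρ u' (ρ r y) - ρ r y = x
          have hy' : ρ u y - y = ρ r⁻¹ x := hy
          rw [happ, inv_app, ← map_sub, hy', app_inv]
      let W : Submodule (ZMod 3) V := M.map (ρ u' - 1)
      have hWM : W ≤ M := by
        rintro w ⟨x, hx, rfl⟩; exact M.sub_mem (hMN _ hu'N x hx) hx
      have hWu : ∀ w ∈ W, ρ u w ∈ W := by
        rintro w ⟨x, hx, rfl⟩
        refine ⟨ρ u x, hMu x hx, ?_⟩
        show ρ u' (ρ u x) - ρ u x = ρ u (ρ u' x - x)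
        rw [map_sub, ← mul_app, hcom _ hu'N _ huN, mul_app]
      intro v hv
      rcases hMirr W hWM hWu with h | h
      · have hfixed : ∀ x ∈ M, ρ u' x = x := fun x hx => sub_eq_zero.1 (by
          have : ρ u' x - x ∈ W := ⟨x, hx, rfl⟩
          rwa [h, Submodule.mem_bot] at this)
        have h2 : ρ u (ρ r⁻¹ v) = ρ r⁻¹ v := by
          have := congrArg (ρ r⁻¹) (hfixed v hv)
          rwa [happ, inv_app] at this
        rw [mul_app, mul_app, hker _ h2, app_inv]
        exact hv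
      · have hle : M ≤ M' := by rw [← h]; exact LinearMap.map_le_range
        have hcard' : Nat.card M' ≤ Nat.card M := Nat.card_le_card_of_injective
          (fun x : M' => (⟨ρ r⁻¹ x, (hMr x).1 x.2⟩ : M))
          (fun x y e => Subtype.ext (inj_app _ (congrArg Subtype.val e)))
        have hMM : M = M' := SetLike.coe_injective (Set.eq_of_subset_of_ncard_le hle (by
          rwa [← Nat.card_coe_set_eq, ← Nat.card_coe_set_eq]) (Set.toFinite _))
        rw [hMM, hMr, mul_app, mul_app, inv_app]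
        exact hbM _ ((hMr v).1 (hMM ▸ hv))
    · rw [e, Nat.card_unique] at hc27; omega
  -- the four-group centralises `u`
  have hall : ∀ n ∈ N, ∃ i : ℕ, n = u ^ i := fun n hn => by
    obtain ⟨i, hi⟩ := eq_pow_on huq (hexp _ hn) (hcom _ hn _ huN) hMirr hMu (hMN _ hn) hMne
    exact ⟨i, eq_of_app S.inj fun v => hi v (by rw [hMtop]; trivial)⟩
  obtain ⟨j, hj⟩ := hall _ (hNn.conj_mem u huN a₁)
  obtain ⟨k', hk'⟩ := hall _ (hNn.conj_mem u huN b⁻¹)
  rw [inv_inv] at hk'
  have hj2 : a₂ * u * a₂⁻¹ = u ^ j := by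
    calc a₂ * u * a₂⁻¹ = b * (a₁ * (b⁻¹ * u * b) * a₁⁻¹) * b⁻¹ := by
          rw [← S.four.conj₁]; group
      _ = b * (a₁ * u * a₁⁻¹) ^ k' * b⁻¹ := by rw [hk', hconjpow]
      _ = (b * (b⁻¹ * u * b) * b⁻¹) ^ j := by
          rw [hj, hk', ← pow_mul, mul_comm, pow_mul, hconjpow]
      _ = u ^ j := by congr 1; group
  have hj3 : a₁ * a₂ * u * (a₁ * a₂)⁻¹ = u ^ j := by
    calc a₁ * a₂ * u * (a₁ * a₂)⁻¹ = b * (a₂ * (b⁻¹ * u * b) * a₂⁻¹) * b⁻¹ := by
          rw [← S.four.conj₂]; group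
      _ = b * (a₂ * u * a₂⁻¹) ^ k' * b⁻¹ := by rw [hk', hconjpow]
      _ = (b * (b⁻¹ * u * b) * b⁻¹) ^ j := by
          rw [hj2, hk', ← pow_mul, mul_comm, pow_mul, hconjpow]
      _ = u ^ j := by congr 1; group
  have hjj : u ^ (j * j) = u := by
    calc u ^ (j * j) = a₁ * (a₁ * u * a₁⁻¹) * a₁⁻¹ := by
          rw [pow_mul, ← hj, hconjpow, ← hj]
      _ = (a₁ * a₁) * u * (a₁ * a₁)⁻¹ := by group
      _ = u := by rw [S.four.sq₁]; group
  have hju : u ^ j = u := by
    calc u ^ j = a₁ * (a₂ * u * a₂⁻¹) * a₁⁻¹ := by rw [← hj3]; group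
      _ = u ^ (j * j) := by rw [hj2, ← hconjpow, hj, ← pow_mul]
      _ = u := hjj
  rw [hju] at hj hj2
  have hcom1 : a₁ * u = u * a₁ := mul_inv_eq_iff_eq_mul.1 hj
  have hcom2 : a₂ * u = u * a₂ := mul_inv_eq_iff_eq_mul.1 hj2
  obtain ⟨hL, -, -, -⟩ := weights S.four S.inj S.cubic
  obtain ⟨w, hw, hw0⟩ := exists_ne_zero_of_card (U := wt ρ a₁ a₂ 1 (-1)) (by omega)
  have huw : ρ u w ∈ wt ρ a₁ a₂ 1 (-1) := by
    rw [mem_wt] at hw ⊢
    constructor
    · rw [← mul_app, hcom1, mul_app, hw.1, map_smul]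
    · rw [← mul_app, hcom2, mul_app, hw.2, map_smul]
  have hfixw : ρ u w = w := by
    rcases cases_of_card_three hL hw hw0 huw with e | e | e
    · exact absurd (inj_app u (e.trans (map_zero (ρ u)).symm)) hw0
    · exact e
    · exfalso
      have h2 : ρ (u ^ 2) w = w := by rw [pow_two, mul_app, e, map_neg, e, neg_neg]
      have := pow_app_fixed h2 6
      rw [← pow_mul] at this
      have h13 : u ^ 13 = 1 := hq13.1 ▸ huq
      have h' : ρ (u ^ 13) w = -w := by rw [pow_succ', mul_app, this, e]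
      rw [h13, one_app] at h'
      exact hw0 (eq_zero_of_eq_neg h')
  exact hw0 (fixed_inter huq hq3 (show w ∈ M by rw [hMtop]; trivial) hfixw)

end Odd

end Cfsg.Agent.ASolv.CubicIrr
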