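import Cfsg.Agent.ASolv.CubicCore
import Cfsg.Agent.Lib.LargeExtra.Centralizer

/-!
Splitting the module of `R⟨b⟩` as fixed points plus a faithful irreducible summand.
-/

set_option autoImplicit false

namespace Cfsg.Agent.ASolv.CubicModule

open Cfsg.Agent.ASolv.CubicFour Cfsg.Agent.ASolv.CubicIrr Cfsg.Agent.ASolv.CubicMono
open scoped commutatorElement

universe u

variable {S : Type u} [Group S] [Finite S] {E : Type*} [AddCommGroup E] [Module (ZMod 3) E]
  [Finite E] {ρ : Representation (ZMod 3) S E} {R : Subgroup S} {b a₁ a₂ : S}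

/-- The hypotheses at the level of `S`. -/
structure Data (ρ : Representation (ZMod 3) S E) (R : Subgroup S) (b a₁ a₂ : S) : Prop where
  inj : Function.Injective ρ
  cubic : Cubic ρ b
  norm : ∀ r ∈ R, b * r * b⁻¹ ∈ R
  comm : R ≤ Subgroup.closure {x | ∃ r ∈ R, x = r * b * r⁻¹ * b⁻¹}
  cop : ¬ 3 ∣ Nat.card R
  mem : a₁ ∈ R
  four : Four b a₁ a₂

/-- The fixed points of `R`. -/
def fixR (ρ : Representation (ZMod 3) S E) (R : Subgroup S) : Submodule (ZMod 3) E where
  carrier := {v | ∀ r ∈ R, ρ r v = v}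
  zero_mem' := fun r _ => map_zero _
  add_mem' := fun {x y} hx hy r hr => by rw [map_add, hx r hr, hy r hr]
  smul_mem' := fun c x hx r hr => by rw [map_smul, hx r hr]

/-- The sum over `R`. -/
noncomputable def sumR (ρ : Representation (ZMod 3) S E) (R : Subgroup S) : E →ₗ[ZMod 3] E :=
  letI := Fintype.ofFinite R
  ∑ r : R, ρ (r : S)

theorem sumR_apply [Fintype R] (v : E) : sumR ρ R v = ∑ r : R, ρ (r : S) v := by
  unfold sumR
  rw [LinearMap.sum_apply]
  exact Finset.sum_congr (by ext; simp) fun _ _ => rfl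

theorem sumR_left {r : S} (hr : r ∈ R) (v : E) : ρ r (sumR ρ R v) = sumR ρ R v := by
  classical
  haveI := Fintype.ofFinite R
  rw [sumR_apply, map_sum]
  exact Fintype.sum_equiv (Equiv.mulLeft ⟨r, hr⟩) _ _ fun s => by
    rw [← mul_app]; rfl

theorem sumR_right {r : S} (hr : r ∈ R) (v : E) : sumR ρ R (ρ r v) = sumR ρ R v := by
  classical
  haveI := Fintype.ofFinite R
  rw [sumR_apply, sumR_apply]
  exact Fintype.sum_equiv (Equiv.mulRight ⟨r, hr⟩) _ _ fun s => by
    rw [← mul_app]; rfl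

theorem sumR_fixed {v : E} (hv : v ∈ fixR ρ R) :
    sumR ρ R v = (Nat.card R : ZMod 3) • v := by
  classical
  haveI := Fintype.ofFinite R
  rw [sumR_apply, Finset.sum_congr rfl (fun (r : R) _ => hv r r.2), Finset.sum_const,
    Finset.card_univ, Nat.card_eq_fintype_card, Nat.cast_smul_eq_nsmul]

namespace Data

variable (H : Data ρ R b a₁ a₂)
include H

theorem cast_ne : (Nat.card R : ZMod 3) ≠ 0 := by
  rw [ne_eq, ZMod.natCast_eq_zero_iff]; exact H.cop

theorem inf_eq : LinearMap.ker (sumR ρ R) ⊓ fixR ρ R = ⊥ := by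
  rw [eq_bot_iff]
  rintro v ⟨h0, h1⟩
  rw [SetLike.mem_coe, LinearMap.mem_ker, sumR_fixed h1, smul_eq_zero] at h0
  exact (Submodule.mem_bot _).2 (h0.resolve_left H.cast_ne)

theorem sup_eq : LinearMap.ker (sumR ρ R) ⊔ fixR ρ R = ⊤ := by
  rw [eq_top_iff]
  intro v _
  have hP : sumR ρ R v ∈ fixR ρ R := fun r hr => sumR_left hr v
  set w := (Nat.card R : ZMod 3)⁻¹ • sumR ρ R v
  have hw : w ∈ fixR ρ R := Submodule.smul_mem _ _ hP
  rw [← sub_add_cancel v w]
  refine Submodule.add_mem_sup ?_ hw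
  rw [LinearMap.mem_ker, map_sub, sumR_fixed hw]
  simp only [w, smul_smul, mul_inv_cancel₀ H.cast_ne, one_smul, sub_self]

theorem sumR_b (v : E) : sumR ρ R (ρ b v) = ρ b (sumR ρ R v) := by
  classical
  haveI := Fintype.ofFinite R
  rw [sumR_apply, sumR_apply, map_sum]
  refine (Fintype.sum_equiv (Equiv.ofBijective (fun r : R => (⟨b * r * b⁻¹, H.norm r r.2⟩ : R))
    (Finite.injective_iff_bijective.1 fun x y e => Subtype.ext (by
      simpa using congrArg Subtype.val e))) _ _ fun r => ?_).symm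
  show ρ b (ρ (r : S) v) = ρ (b * r * b⁻¹) (ρ b v)
  rw [← mul_app, ← mul_app, inv_mul_cancel_right]

theorem ker_inv {g : S} (hg : g ∈ R ⊔ Subgroup.zpowers b) {v : E}
    (hv : v ∈ LinearMap.ker (sumR ρ R)) : ρ g v ∈ LinearMap.ker (sumR ρ R) := by
  have hle : R ⊔ Subgroup.zpowers b ≤ stab ρ (LinearMap.ker (sumR ρ R)) := by
    refine sup_le (fun r hr => mem_stab fun w hw => ?_) (Subgroup.zpowers_le.2 (mem_stab fun w hw => ?_))
    · rw [LinearMap.mem_ker] at hw ⊢; rw [sumR_right hr, hw]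
    · rw [LinearMap.mem_ker] at hw ⊢; rw [H.sumR_b, hw, map_zero]
  exact (hle hg v).2 hv

theorem normalizes : Subgroup.zpowers b ≤ Subgroup.normalizer (R : Set S) := by
  rw [Subgroup.zpowers_le, Subgroup.mem_normalizer_iff]
  intro r
  refine ⟨H.norm r, fun h => ?_⟩
  have := H.norm _ (H.norm _ h)
  rwa [show b * (b * (b * r * b⁻¹) * b⁻¹) * b⁻¹ = b * b * b * r * (b * b * b)⁻¹ by group,
    show b * b * b = b ^ 3 by simp [pow_succ, mul_assoc], H.cubic.cube, one_mul, inv_one,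
    mul_one] at this

theorem mem₂ : a₂ ∈ R := H.four.conj₁ ▸ H.norm _ H.mem

/-- An element of `R` trivial on the kernel of `sumR` is trivial. -/
theorem eq_one_of_ker {r : S} (hr : r ∈ R)
    (h : ∀ v ∈ LinearMap.ker (sumR ρ R), ρ r v = v) : r = 1 := by
  refine eq_of_app H.inj fun v => ?_
  obtain ⟨x, hx, y, hy, rfl⟩ := Submodule.mem_sup.1
    (show v ∈ LinearMap.ker (sumR ρ R) ⊔ fixR ρ R by rw [H.sup_eq]; trivial)
  rw [map_add, h x hx, hy r hr, one_app]

theorem fix_b {v : E} (hv : v ∈ fixR ρ R) : ρ b v ∈ fixR ρ R := by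
  intro r hr
  have hr' : b⁻¹ * r * b ∈ R := by
    have := (Subgroup.mem_normalizer_iff.1 (inv_mem (H.normalizes (Subgroup.mem_zpowers b))) r).1 hr
    rwa [inv_inv] at this
  rw [← mul_app, show r * b = b * (b⁻¹ * r * b) by group, mul_app, hv _ hr']

theorem faithful {g : S} (hg : g ∈ R ⊔ Subgroup.zpowers b)
    (h : ∀ v ∈ LinearMap.ker (sumR ρ R), ρ g v = v) : g = 1 := by
  classical
  set F := LinearMap.ker (sumR ρ R)
  obtain ⟨r, hr, x, hx, rfl⟩ : ∃ r ∈ R, ∃ x ∈ Subgroup.zpowers b, r * x = g := by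
    have hg' : g ∈ ((R ⊔ Subgroup.zpowers b : Subgroup S) : Set S) := hg
    rw [Subgroup.coe_mul_of_right_le_normalizer_left R _ H.normalizes] at hg'
    exact Set.mem_mul.1 hg'
  obtain ⟨i, rfl⟩ := Subgroup.mem_zpowers_iff.1 hx
  have hcube := H.cubic.cube
  have hbi : b ^ i = 1 ∨ b ^ i = b ∨ b ^ i = b⁻¹ := by
    have h3 : (b : S) ^ (3 : ℤ) = 1 := by exact_mod_cast hcube
    obtain h | h | h : i % 3 = 0 ∨ i % 3 = 1 ∨ i % 3 = 2 := by omega
    · left
      rw [← Int.emod_add_mul_ediv i 3, h, zpow_add, zpow_mul, h3, one_zpow, zpow_zero, one_mul]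
    · right; left
      rw [← Int.emod_add_mul_ediv i 3, h, zpow_add, zpow_mul, h3, one_zpow, zpow_one, mul_one]
    · right; right
      rw [← Int.emod_add_mul_ediv i 3, h, zpow_add, zpow_mul, h3, one_zpow, mul_one]
      refine eq_inv_of_mul_eq_one_left ?_
      rw [← zpow_add_one]; exact_mod_cast hcube
  rcases hbi with e | hbi
  · rw [e, mul_one] at h ⊢
    exact H.eq_one_of_ker hr h
  exfalso
  set g := r * b ^ i with hgdef
  -- `g` centralises `R`
  have hgR : ∀ s ∈ R, g * s = s * g := by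
    intro s hs
    have hnorm : g ∈ Subgroup.normalizer (R : Set S) := mul_mem (Subgroup.le_normalizer hr)
      (zpow_mem (H.normalizes (Subgroup.mem_zpowers b)) i)
    have h1 : g * s * g⁻¹ * s⁻¹ ∈ R :=
      R.mul_mem ((Subgroup.mem_normalizer_iff.1 hnorm s).1 hs) (R.inv_mem hs)
    have h2 : g * s * g⁻¹ * s⁻¹ = 1 := by
      refine H.eq_one_of_ker h1 fun v hv => ?_
      have hs' : ∀ {w}, w ∈ F → ρ s w ∈ F := fun hw => H.ker_inv (Subgroup.mem_sup_left hs) hw
      have hsi : ρ s⁻¹ v ∈ F := H.ker_inv (Subgroup.mem_sup_left (R.inv_mem hs)) hv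
      have hgi : ∀ {w}, w ∈ F → ρ g⁻¹ w = w := fun {w} hw => by
        conv_lhs => rw [← h w hw]
        rw [inv_app]
      rw [mul_app, mul_app, mul_app, hgi hsi, app_inv, h v hv]
    rwa [mul_inv_eq_one, mul_inv_eq_iff_eq_mul] at h2
  have hbr : Commute (b ^ i) r := by
    have h1 := hgR r hr
    rw [hgdef, mul_assoc] at h1
    exact mul_left_cancel h1
  have hbi3 : (b ^ i) ^ 3 = 1 := by
    rw [← zpow_natCast, ← zpow_mul, mul_comm, zpow_mul, zpow_natCast, hcube, one_zpow]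
  have hg3 : g ^ 3 = r ^ 3 := by rw [hgdef, hbr.symm.mul_pow, hbi3, mul_one]
  have hr3 : r ^ 3 = 1 := H.eq_one_of_ker (R.pow_mem hr 3) fun v hv => by
    rw [← hg3, pow_succ, pow_succ, pow_one, mul_app, mul_app, h v hv, h v hv, h v hv]
  have hr1 : r = 1 := by
    by_contra hne
    have ho : orderOf (⟨r, hr⟩ : R) = 3 := orderOf_eq_prime (Subtype.ext hr3)
      (fun e => hne (congrArg Subtype.val e))
    exact H.cop (ho ▸ orderOf_dvd_natCard _)
  rw [hgdef, hr1, one_mul] at h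
  have hb : ∀ v ∈ F, ρ b v = v := by
    rcases hbi with e | e <;> rw [e] at h
    · exact h
    · intro v hv
      have hbv := H.ker_inv (Subgroup.mem_sup_right (Subgroup.mem_zpowers b)) hv
      conv_lhs => rw [← h _ hbv]
      rw [inv_app]
  have hbot : R ≤ ⊥ := by
    refine H.comm.trans ((Subgroup.closure_le _).2 ?_)
    rintro x ⟨s, hs, rfl⟩
    refine Subgroup.mem_bot.2 (H.eq_one_of_ker ?_ fun v hv => ?_)
    · rw [show s * b * s⁻¹ * b⁻¹ = s * (b * s⁻¹ * b⁻¹) by group]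
      exact R.mul_mem hs (H.norm _ (R.inv_mem hs))
    · have hbinv : ρ b⁻¹ v = v := by
        conv_lhs => rw [← hb v hv]
        rw [inv_app]
      rw [mul_app, mul_app, mul_app, hbinv, hb _ (H.ker_inv (Subgroup.mem_sup_left (R.inv_mem hs)) hv),
        app_inv]
  exact H.four.ne (Subgroup.mem_bot.1 (hbot H.mem))

theorem wt_le_ker {s₁ s₂ : ZMod 3} (hs : s₁ = -1 ∨ s₂ = -1) {v : E}
    (hv : v ∈ wt ρ a₁ a₂ s₁ s₂) : v ∈ LinearMap.ker (sumR ρ R) := by
  rw [mem_wt] at hv
  rw [LinearMap.mem_ker]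
  refine eq_zero_of_eq_neg ?_
  rcases hs with rfl | rfl
  · conv_lhs => rw [← sumR_right H.mem v, hv.1, neg_one_smul, map_neg]
  · conv_lhs => rw [← sumR_right H.mem₂ v, hv.2, neg_one_smul, map_neg]

theorem irreducible (U : Submodule (ZMod 3) E) (hU : U ≤ LinearMap.ker (sumR ρ R))
    (hinv : ∀ g ∈ R ⊔ Subgroup.zpowers b, ∀ v ∈ U, ρ g v ∈ U) :
    U = ⊥ ∨ U = LinearMap.ker (sumR ρ R) := by
  classical
  obtain ⟨hX, hY, hZ, hC⟩ := weights H.four H.inj H.cubic
  have hbM : b ∈ R ⊔ Subgroup.zpowers b := Subgroup.mem_sup_right (Subgroup.mem_zpowers b)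
  have hbinv : ∀ w ∈ U, ρ b w ∈ U := hinv b hbM
  by_cases hall : ∀ u ∈ U, ρ a₁ u = u ∧ ρ a₂ u = u
  · left
    rw [eq_bot_iff, ← H.inf_eq]
    refine fun u hu => ⟨hU hu, ?_⟩
    have hfixb : ∀ w ∈ U, ρ b w = w := fun w hw => hC w (mem_wt.2 (by simpa using hall w hw))
    have hR : R ≤ fix ρ U := by
      refine H.comm.trans ((Subgroup.closure_le _).2 ?_)
      rintro x ⟨s, hs, rfl⟩ w hw
      have hbi : ρ b⁻¹ w = w := by
        conv_lhs => rw [← hfixb w hw]
        rw [inv_app]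
      rw [mul_app, mul_app, mul_app, hbi,
        hfixb _ (hinv _ (Subgroup.mem_sup_left (R.inv_mem hs)) w hw), app_inv]
    exact fun r hr => hR hr u hu
  right
  push Not at hall
  obtain ⟨u, hu, hmove⟩ := hall
  obtain ⟨c, hc, x, hx, y, hy, w, hw, rfl⟩ := decomp (ρ := ρ) H.four u
  have hA₁ : ∀ v ∈ U, ρ a₁ v ∈ U := hinv _ (Subgroup.mem_sup_left H.mem)
  have hA₂ : ∀ v ∈ U, ρ a₂ v ∈ U := hinv _ (Subgroup.mem_sup_left H.mem₂)
  have three : ∀ v : E, v + v + v = 0 := fun v => by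
    have := ZModModule.char_nsmul_eq_zero 3 v
    rwa [succ_nsmul, two_nsmul] at this
  rw [mem_wt] at hc hx hy hw
  simp only [one_smul, neg_one_smul] at hc hx hy hw
  have hproj : x ∈ U ∧ y ∈ U ∧ w ∈ U := by
    set u := c + x + y + w with hudef
    have e1 : ρ a₁ u = c + x - y - w := by
      rw [hudef, map_add, map_add, map_add, hc.1, hx.1, hy.1, hw.1]; abel
    have e2 : ρ a₂ u = c - x + y - w := by
      rw [hudef, map_add, map_add, map_add, hc.2, hx.2, hy.2, hw.2]; abel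
    have e3 : ρ a₁ (ρ a₂ u) = c - x - y + w := by
      rw [e2, map_sub, map_add, map_sub, hc.1, hx.1, hy.1, hw.1]; abel
    have m1 := hA₁ u hu
    have m2 := hA₂ u hu
    have m3 := hA₁ _ m2
    refine ⟨?_, ?_, ?_⟩
    · have := U.sub_mem (U.add_mem hu m1) (U.add_mem m2 m3)
      rw [e3, e1, e2, hudef] at this
      convert this using 1
      linear_combination (norm := abel) -(three x)
    · have := U.sub_mem (U.add_mem hu m2) (U.add_mem m1 m3)
      rw [e3, e1, e2, hudef] at this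
      convert this using 1
      linear_combination (norm := abel) -(three y)
    · have := U.sub_mem (U.add_mem hu m3) (U.add_mem m1 m2)
      rw [e3, e1, e2, hudef] at this
      convert this using 1
      linear_combination (norm := abel) -(three w)
  have hxm : x ∈ wt ρ a₁ a₂ 1 (-1) := mem_wt.2 (by simpa using hx)
  have hym : y ∈ wt ρ a₁ a₂ (-1) 1 := mem_wt.2 (by simpa using hy)
  have hwm : w ∈ wt ρ a₁ a₂ (-1) (-1) := mem_wt.2 (by simpa using hw)
  have hX' : wt ρ a₁ a₂ 1 (-1) ≤ U := by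
    obtain ⟨v, hv, hv0, hvU⟩ : ∃ v, v ∈ wt ρ a₁ a₂ 1 (-1) ∧ v ≠ 0 ∧ v ∈ U := by
      by_cases hx0 : x = 0
      · by_cases hy0 : y = 0
        · by_cases hw0 : w = 0
          · exfalso
            subst hx0 hy0 hw0
            simp only [add_zero] at hmove
            exact hmove hc.1 hc.2
          · exact ⟨ρ b w, b_wt_z H.four hwm, fun e => hw0 (inj_app b (e.trans (map_zero _).symm)),
              hbinv _ hproj.2.2⟩
        · exact ⟨ρ b (ρ b y), b_wt_z H.four (b_wt_y H.four hym),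
            fun e => hy0 (inj_app b (inj_app b (by rw [e, map_zero, map_zero]))),
            hbinv _ (hbinv _ hproj.2.1)⟩
      · exact ⟨x, hxm, hx0, hproj.1⟩
    intro v' hv'
    rcases cases_of_card_three hX hv hv0 hv' with rfl | rfl | rfl
    exacts [U.zero_mem, hvU, U.neg_mem hvU]
  have hY' : wt ρ a₁ a₂ (-1) 1 ≤ U := by
    obtain ⟨v, hv, hv0⟩ := exists_ne_zero_of_card (U := wt ρ a₁ a₂ 1 (-1)) (by omega)
    intro v' hv'
    rcases cases_of_card_three hY (b_wt_x H.four hv)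
      (fun e => hv0 (inj_app b (e.trans (map_zero _).symm))) hv' with rfl | rfl | rfl
    exacts [U.zero_mem, hbinv _ (hX' hv), U.neg_mem (hbinv _ (hX' hv))]
  have hZ' : wt ρ a₁ a₂ (-1) (-1) ≤ U := by
    obtain ⟨v, hv, hv0⟩ := exists_ne_zero_of_card (U := wt ρ a₁ a₂ 1 (-1)) (by omega)
    intro v' hv'
    rcases cases_of_card_three hZ (b_wt_y H.four (b_wt_x H.four hv))
      (fun e => hv0 (inj_app b (inj_app b (by rw [e, map_zero, map_zero])))) hv' with rfl | rfl | rfl
    exacts [U.zero_mem, hbinv _ (hbinv _ (hX' hv)), U.neg_mem (hbinv _ (hbinv _ (hX' hv)))]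
  have hD : ∀ v, ρ b v - v ∈ U := by
    intro v
    obtain ⟨c', hc', x', hx', y', hy', w', hw', rfl⟩ := decomp (ρ := ρ) H.four v
    rw [show ρ b (c' + x' + y' + w') - (c' + x' + y' + w') =
      (ρ b x' - x') + (ρ b y' - y') + (ρ b w' - w') by simp only [map_add, hC c' hc']; abel]
    exact U.add_mem (U.add_mem (U.sub_mem (hY' (b_wt_x H.four hx')) (hX' hx'))
      (U.sub_mem (hZ' (b_wt_y H.four hy')) (hY' hy')))
      (U.sub_mem (hX' (b_wt_z H.four hw')) (hZ' hw'))
  refine le_antisymm hU fun v hv => ?_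
  have hUR : ∀ s ∈ R, ∀ v ∈ U, ρ s v ∈ U := fun s hs => hinv s (Subgroup.mem_sup_left hs)
  let K : Subgroup S :=
    { carrier := {g | g ∈ stab ρ U ∧ ∀ v, ρ g v - v ∈ U}
      one_mem' := ⟨one_mem _, fun v => by rw [one_app, sub_self]; exact U.zero_mem⟩
      mul_mem' := fun {g h} hg hh => ⟨mul_mem hg.1 hh.1, fun v => by
        rw [mul_app, show ρ g (ρ h v) - v = (ρ g (ρ h v) - ρ h v) + (ρ h v - v) by abel]
        exact U.add_mem (hg.2 _) (hh.2 v)⟩
      inv_mem' := fun {g} hg => ⟨inv_mem hg.1, fun v => by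
        have := U.neg_mem (hg.2 (ρ g⁻¹ v))
        rwa [app_inv, neg_sub] at this⟩ }
  have hRK : R ≤ K := by
    refine H.comm.trans ((Subgroup.closure_le _).2 ?_)
    rintro z ⟨s, hs, rfl⟩
    have hsst : s ∈ stab ρ U := mem_stab (hUR s hs)
    have hbst : b ∈ stab ρ U := mem_stab hbinv
    refine ⟨mul_mem (mul_mem (mul_mem hsst hbst) (inv_mem hsst)) (inv_mem hbst), fun v => ?_⟩
    set v' := ρ b⁻¹ v
    have hv' : v = ρ b v' := (app_inv b v).symm
    have he : ρ (s * b * s⁻¹ * b⁻¹) v - v =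
        ρ s (ρ b (ρ s⁻¹ v') - ρ s⁻¹ v') - (ρ b v' - v') := by
      rw [mul_app, mul_app, mul_app, map_sub, app_inv, ← hv']
      abel
    rw [he]
    exact U.sub_mem (hUR s hs _ (hD _)) (hD _)
  haveI := Fintype.ofFinite R
  have hv0 : sumR ρ R v = 0 := hv
  have hnv : (Nat.card R : ZMod 3) • v ∈ U := by
    have he : (Nat.card R : ZMod 3) • v = -(∑ r : R, (ρ (r : S) v - v)) := by
      rw [Finset.sum_sub_distrib, ← sumR_apply, hv0, Finset.sum_const, Finset.card_univ,
        Nat.card_eq_fintype_card, Nat.cast_smul_eq_nsmul]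
      abel
    rw [he]
    exact U.neg_mem (U.sum_mem fun r _ => (hRK r.2).2 v)
  have := U.smul_mem (Nat.card R : ZMod 3)⁻¹ hnv
  rwa [smul_smul, inv_mul_cancel₀ H.cast_ne, one_smul] at this

theorem shape [Group.IsSolvable S] : Shape R := by
  classical
  set M := R ⊔ Subgroup.zpowers b with hM
  set F := LinearMap.ker (sumR ρ R)
  have hRM : R ≤ M := le_sup_left
  have hbM : b ∈ M := Subgroup.mem_sup_right (Subgroup.mem_zpowers b)
  let σ : Representation (ZMod 3) M F :=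
    { toFun := fun g => (ρ (g : S)).restrict fun v hv => H.ker_inv g.2 hv
      map_one' := LinearMap.ext fun v => Subtype.ext (one_app (v : E))
      map_mul' := fun g h => LinearMap.ext fun v => Subtype.ext (mul_app (g : S) h (v : E)) }
  have hσ : ∀ (g : M) (v : F), ((σ g v : F) : E) = ρ (g : S) v := fun _ _ => rfl
  have hinj : Function.Injective σ := by
    intro g h e
    have hone := H.faithful ((h⁻¹ * g : M)).2 fun v hv => by
      have := congrArg Subtype.val (LinearMap.congr_fun e ⟨v, hv⟩)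
      rw [hσ, hσ] at this
      show ρ ((h : S)⁻¹ * g) v = v
      rw [mul_app, this, inv_app]
    exact (inv_mul_eq_one.1 (Subtype.ext hone)).symm
  have hcub : Cubic σ ⟨b, hbM⟩ := by
    refine ⟨Subtype.ext H.cubic.cube, ?_, ?_⟩
    · refine le_trans ?_ H.cubic.small
      refine Nat.card_le_card_of_injective
        (fun w => (⟨((w : F) : E), ?_⟩ : LinearMap.range (ρ b - 1)))
        (fun w w' e => Subtype.ext (Subtype.ext
          (congrArg (fun q : LinearMap.range (ρ b - 1) => (q : E)) e)))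
      obtain ⟨v, hv⟩ := w.2
      exact ⟨v, by rw [← hv]; rfl⟩
    · obtain ⟨hX, -, -, -⟩ := weights H.four H.inj H.cubic
      obtain ⟨v, hv, hv0⟩ := exists_ne_zero_of_card (U := wt ρ a₁ a₂ 1 (-1)) (by omega)
      refine ⟨⟨v, H.wt_le_ker (Or.inr rfl) hv⟩, fun e => hv0 ?_⟩
      have e' : ρ b (ρ b v - v) - (ρ b v - v) = 0 := congrArg Subtype.val e
      obtain ⟨-, h1, -, -⟩ := indep (ρ := ρ) H.four (Submodule.zero_mem _) hv
        (Submodule.add_mem _ (Submodule.neg_mem _ (b_wt_x H.four hv))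
          (Submodule.neg_mem _ (b_wt_x H.four hv)))
        (b_wt_y H.four (b_wt_x H.four hv)) (by
          rw [map_sub] at e'
          linear_combination (norm := abel) e')
      exact h1
  have hirr : ∀ U : Submodule (ZMod 3) F, (∀ g : M, ∀ v ∈ U, σ g v ∈ U) → U = ⊥ ∨ U = ⊤ := by
    intro U hU
    rcases H.irreducible (U.map F.subtype) (Submodule.map_subtype_le _ _) (fun g hg v hv => by
        obtain ⟨x, hx, rfl⟩ := hv
        exact ⟨σ ⟨g, hg⟩ x, hU _ x hx, rfl⟩) with e | e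
    · left
      rw [eq_bot_iff]
      intro x hx
      have : (x : E) ∈ U.map F.subtype := ⟨x, hx, rfl⟩
      rw [e, Submodule.mem_bot] at this
      exact (Submodule.mem_bot _).2 (Subtype.ext this)
    · right
      rw [eq_top_iff]
      intro x _
      obtain ⟨y, hy, hxy⟩ := show (x : E) ∈ U.map F.subtype by rw [e]; exact x.2
      rwa [← Subtype.ext hxy]
  have hnorm : M ≤ Subgroup.normalizer (R : Set S) := sup_le Subgroup.le_normalizer H.normalizes
  haveI hnormal : (R.subgroupOf M).Normal := ⟨fun x hx g =>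
    (Subgroup.mem_normalizer_iff.1 (hnorm g.2) _).1 hx⟩
  have e := Subgroup.subgroupOfEquivOfLe hRM
  have S' : Setting σ (R.subgroupOf M) (⟨b, hbM⟩ : M) ⟨a₁, hRM H.mem⟩ ⟨a₂, hRM H.mem₂⟩ := by
    refine ⟨hinj, hcub, hirr, hnormal, ?_, ?_, ?_, H.mem,
      ⟨Subtype.ext H.four.sq₁, Subtype.ext H.four.sq₂, Subtype.ext H.four.comm,
        fun e => H.four.ne (congrArg Subtype.val e), Subtype.ext H.four.conj₁,
        Subtype.ext H.four.conj₂⟩⟩
    · apply Subgroup.map_injective M.subtype_injective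
      rw [Subgroup.map_sup, Subgroup.map_subgroupOf_eq_of_le hRM, MonoidHom.map_zpowers,
        ← MonoidHom.range_eq_map, Subgroup.range_subtype]
      rfl
    · rw [← Subgroup.map_le_map_iff_of_injective M.subtype_injective,
        Subgroup.map_subgroupOf_eq_of_le hRM, MonoidHom.map_closure]
      refine H.comm.trans (Subgroup.closure_mono ?_)
      rintro x ⟨s, hs, rfl⟩
      exact ⟨⟨s, hRM hs⟩ * ⟨b, hbM⟩ * ⟨s, hRM hs⟩⁻¹ * ⟨b, hbM⟩⁻¹, ⟨⟨s, hRM hs⟩, hs, rfl⟩, rfl⟩
    · rw [Nat.card_congr e.toEquiv]; exact H.cop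
  rcases CubicCore.shape S' with ⟨hEA, hc⟩ | ⟨hX, hc, A, hAR, hA, hAc⟩
  · refine Or.inl ⟨isElementaryAbelian_of_sq fun a ha => ?_, by rwa [← Nat.card_congr e.toEquiv]⟩
    have := hEA.2 ⟨a, hRM ha⟩ ha
    rw [pow_two] at this
    exact congrArg Subtype.val this
  · refine Or.inr ⟨Cfsg.Agent.LargeExtra.isExtraspecial_of_equiv hX e,
      by rwa [← Nat.card_congr e.toEquiv], A.map M.subtype, ?_, isElementaryAbelian_of_sq ?_, ?_⟩
    · rintro x ⟨a, ha, rfl⟩; exact hAR ha
    · rintro x ⟨a, ha, rfl⟩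
      have := hA.2 a ha
      rw [pow_two] at this
      exact congrArg Subtype.val this
    · rw [Subgroup.card_map_of_injective M.subtype_injective, hAc]

end Data

end Cfsg.Agent.ASolv.CubicModule
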