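import Cfsg.Agent.ASolv.CubicIrr
import Cfsg.Agent.Lib.CharP.Basic
import Cfsg.Agent.Lib.Coprime.PGroup

/-!
An irreducible solvable group `R⟨b⟩` with a cubic element `b` whose normal elementary abelian
2-subgroup contains the four-group: it is monomial on three or four lines and `R` is a four-group
or extraspecial of order 32.
-/

set_option autoImplicit false

namespace Cfsg.Agent.ASolv.CubicMono

open Cfsg.Agent.ASolv.CubicFour Cfsg.Agent.ASolv.CubicIrr
open scoped commutatorElement Pointwise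

universe u

/-- The conclusion: a four-group or extraspecial of order 32 with an elementary abelian 8. -/
def Shape {G : Type u} [Group G] (R : Subgroup G) : Prop :=
  (Cfsg.IsElementaryAbelian 2 R ∧ Nat.card ↥R = 4) ∨
    (Cfsg.IsExtraspecial 2 ↥R ∧ Nat.card ↥R = 32 ∧
      ∃ A : Subgroup G, A ≤ R ∧ Cfsg.IsElementaryAbelian 2 A ∧ Nat.card ↥A = 8)

theorem isElementaryAbelian_of_sq {G : Type*} [Group G] {A : Subgroup G}
    (h : ∀ a ∈ A, a * a = 1) : Cfsg.IsElementaryAbelian 2 A := by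
  refine ⟨⟨⟨fun x y => Subtype.ext ?_⟩⟩, fun a ha => by rw [pow_two]; exact h a ha⟩
  show (x : G) * y = y * x
  have hx := inv_eq_of_mul_eq_one_right (h x x.2)
  have hy := inv_eq_of_mul_eq_one_right (h y y.2)
  have hxy := inv_eq_of_mul_eq_one_right (h _ (A.mul_mem x.2 y.2))
  rw [mul_inv_rev, hx, hy] at hxy
  exact hxy.symm

theorem isExtraspecial_of {G : Type*} [Group G] [Finite G] {R : Subgroup G} {z : G}
    (hcard : Nat.card ↥R = 32) (hz : z ∈ R) (hz1 : z ≠ 1) (hzc : ∀ r ∈ R, z * r = r * z)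
    (hcen : ∀ c ∈ R, (∀ r ∈ R, c * r = r * c) → c = 1 ∨ c = z)
    (hsq : ∀ r ∈ R, r * r = 1 ∨ r * r = z) : Cfsg.IsExtraspecial 2 ↥R := by
  haveI : Fact (Nat.Prime 2) := ⟨Nat.prime_two⟩
  set zz : ↥R := ⟨z, hz⟩
  have hC : ∀ c : ↥R, c ∈ Subgroup.center ↥R ↔ c = 1 ∨ c = zz := by
    intro c
    constructor
    · intro hc
      rcases hcen c c.2 (fun r hr => congrArg Subtype.val
        (Subgroup.mem_center_iff.1 hc ⟨r, hr⟩).symm) with h | h
      · exact Or.inl (Subtype.ext h)
      · exact Or.inr (Subtype.ext h)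
    · rintro (rfl | rfl)
      · exact one_mem _
      · exact Subgroup.mem_center_iff.2 fun r => Subtype.ext (hzc r r.2).symm
  have hne : (1 : ↥R) ≠ zz := fun e => hz1 (congrArg Subtype.val e).symm
  have hcard2 : Nat.card (Subgroup.center ↥R) = 2 := by
    have : ((Subgroup.center ↥R : Subgroup ↥R) : Set ↥R) = {1, zz} := Set.ext fun c => hC c
    rw [← SetLike.coe_sort_coe, Nat.card_coe_set_eq, this, Set.ncard_pair hne]
  have hP : IsPGroup 2 ↥R := IsPGroup.of_card (n := 5) (by rw [hcard]; norm_num)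
  haveI := hP.isNilpotent
  set f := QuotientGroup.mk' (Subgroup.center ↥R)
  have hf2 : ∀ x : ↥R, f x * f x = 1 := fun x => by
    rw [← map_mul]
    refine (QuotientGroup.eq_one_iff _).2 ((hC _).2 ?_)
    rcases hsq x x.2 with h | h
    · exact Or.inl (Subtype.ext h)
    · exact Or.inr (Subtype.ext h)
  have hfc : ∀ x y : ↥R, Commute (f x) (f y) := fun x y => by
    have hx := inv_eq_of_mul_eq_one_right (hf2 x)
    have hy := inv_eq_of_mul_eq_one_right (hf2 y)
    have hxy := inv_eq_of_mul_eq_one_right (hf2 (x * y))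
    rw [map_mul, mul_inv_rev, hx, hy] at hxy
    exact hxy.symm
  have hfr : frattini ↥R ≤ Subgroup.center ↥R := by
    have := Cfsg.Agent.CharP.frattini_le_ker (p := 2) f hfc (fun x => by rw [pow_two]; exact hf2 x)
    rwa [QuotientGroup.ker_mk'] at this
  have hcf := Cfsg.Agent.Coprime.commutator_le_frattini ↥R
  have hne' : commutator ↥R ≠ ⊥ := by
    intro h
    have hall : ∀ x : ↥R, x ∈ Subgroup.center ↥R := fun x => Subgroup.mem_center_iff.2 fun y => by
      have : ⁅y, x⁆ ∈ commutator ↥R := Subgroup.commutator_mem_commutator (Subgroup.mem_top _)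
        (Subgroup.mem_top _)
      rw [h, Subgroup.mem_bot] at this
      exact commutatorElement_eq_one_iff_mul_comm.1 this
    have := (Subgroup.eq_top_iff' _).2 hall
    rw [this, Subgroup.card_top, hcard] at hcard2
    omega
  have heq : commutator ↥R = Subgroup.center ↥R := by
    refine Subgroup.eq_of_le_of_card_ge (hcf.trans hfr) ?_
    rw [hcard2]
    exact (Subgroup.one_lt_card_iff_ne_bot _).2 hne'
  exact ⟨⟨hP, le_antisymm hfr (heq ▸ hcf), heq⟩, hcard2⟩

theorem perm_four : ∀ σ : Equiv.Perm (Fin 4), Equiv.Perm.sign σ = 1 →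
    σ * σ * (σ * σ) = 1 → σ * σ = 1 := by decide +kernel

variable {G : Type u} [Group G] {V : Type*} [AddCommGroup V] [Module (ZMod 3) V]

/-- The translates of the line `wt ρ a₁ a₂ 1 (-1)`. -/
abbrev Line (ρ : Representation (ZMod 3) G V) (a₁ a₂ : G) : Type _ :=
  {U : Submodule (ZMod 3) V // ∃ g : G, U = (wt ρ a₁ a₂ 1 (-1)).map (ρ g)}

variable {ρ : Representation (ZMod 3) G V}

theorem map_mul_sub (g h : G) (U : Submodule (ZMod 3) V) :
    U.map (ρ (g * h)) = (U.map (ρ h)).map (ρ g) := by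
  ext v
  simp only [Submodule.mem_map, mul_app]
  constructor
  · rintro ⟨w, hw, rfl⟩; exact ⟨_, ⟨w, hw, rfl⟩, rfl⟩
  · rintro ⟨_, ⟨w, hw, rfl⟩, rfl⟩; exact ⟨w, hw, rfl⟩

theorem map_one_sub (U : Submodule (ZMod 3) V) : U.map (ρ (1 : G)) = U := by
  ext v
  simp only [Submodule.mem_map, one_app, exists_eq_right]

/-- The action on the lines. -/
def perm (ρ : Representation (ZMod 3) G V) (a₁ a₂ : G) : G →* Equiv.Perm (Line ρ a₁ a₂) where
  toFun g :=
    { toFun := fun U => ⟨U.1.map (ρ g), by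
        obtain ⟨h, hh⟩ := U.2; exact ⟨g * h, by rw [hh, map_mul_sub]⟩⟩
      invFun := fun U => ⟨U.1.map (ρ g⁻¹), by
        obtain ⟨h, hh⟩ := U.2; exact ⟨g⁻¹ * h, by rw [hh, map_mul_sub]⟩⟩
      left_inv := fun U => Subtype.ext (by
        show (U.1.map (ρ g)).map (ρ g⁻¹) = U.1
        rw [← map_mul_sub, inv_mul_cancel, map_one_sub])
      right_inv := fun U => Subtype.ext (by
        show (U.1.map (ρ g⁻¹)).map (ρ g) = U.1
        rw [← map_mul_sub, mul_inv_cancel, map_one_sub]) }
  map_one' := Equiv.ext fun U => Subtype.ext (map_one_sub U.1)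
  map_mul' g h := Equiv.ext fun U => Subtype.ext (map_mul_sub g h U.1)

theorem perm_apply (a₁ a₂ g : G) (U : Line ρ a₁ a₂) :
    ((perm ρ a₁ a₂ g U : Line ρ a₁ a₂) : Submodule (ZMod 3) V) = U.1.map (ρ g) := rfl

theorem perm_inv_app {α : Type*} (f : Equiv.Perm α) (x : α) : f⁻¹ (f x) = x := f.symm_apply_apply x

theorem perm_app_inv {α : Type*} (f : Equiv.Perm α) (x : α) : f (f⁻¹ x) = x := f.apply_symm_apply x

theorem units_three : ∀ s : (ZMod 3)ˣ, s * s = 1 := by decide

theorem units_cases : ∀ s : (ZMod 3)ˣ, s = 1 ∨ s = -1 := by decide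

variable [Finite G] [Finite V] {R : Subgroup G} {b a₁ a₂ : G} {N : Subgroup G}

/-- The hypotheses of this file. -/
structure Mono (ρ : Representation (ZMod 3) G V) (R : Subgroup G) (b a₁ a₂ : G) (N : Subgroup G) :
    Prop where
  setting : Setting ρ R b a₁ a₂
  normal : N.Normal
  le : N ≤ R
  sq : ∀ n ∈ N, n * n = 1
  memN : a₁ ∈ N

namespace Mono

variable (M : Mono ρ R b a₁ a₂ N)
include M

theorem mem₂ : a₂ ∈ N := M.setting.four.conj₁ ▸ M.normal.conj_mem _ M.memN b

theorem comm {x y : G} (hx : x ∈ N) (hy : y ∈ N) : x * y = y * x := by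
  have hxi := inv_eq_of_mul_eq_one_right (M.sq x hx)
  have hyi := inv_eq_of_mul_eq_one_right (M.sq y hy)
  have hxy := inv_eq_of_mul_eq_one_right (M.sq _ (N.mul_mem hx hy))
  rw [mul_inv_rev, hxi, hyi] at hxy
  exact hxy.symm

theorem card_line (U : Line ρ a₁ a₂) : Nat.card U.1 = 3 := by
  obtain ⟨hL, -, -, -⟩ := weights M.setting.four M.setting.inj M.setting.cubic
  obtain ⟨U, g, rfl⟩ := U
  refine Eq.trans ?_ hL
  refine (Nat.card_eq_of_bijective (fun v : wt ρ a₁ a₂ 1 (-1) =>
    (⟨ρ g v, _, v.2, rfl⟩ : (wt ρ a₁ a₂ 1 (-1)).map (ρ g))) ⟨?_, ?_⟩).symm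
  · exact fun v w e => Subtype.ext (inj_app g (congrArg Subtype.val e))
  · rintro ⟨w, v, hv, rfl⟩; exact ⟨⟨v, hv⟩, rfl⟩

theorem exists_gen (U : Line ρ a₁ a₂) : ∃ v, v ∈ U.1 ∧ v ≠ 0 := by
  obtain ⟨v, hv, hv0⟩ := exists_ne_zero_of_card (U := U.1) (by rw [M.card_line]; norm_num)
  exact ⟨v, hv, hv0⟩

/-- A generator of each line. -/
noncomputable def gen (U : Line ρ a₁ a₂) : V := (M.exists_gen U).choose

theorem gen_mem (U : Line ρ a₁ a₂) : M.gen U ∈ U.1 := (M.exists_gen U).choose_spec.1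

theorem gen_ne (U : Line ρ a₁ a₂) : M.gen U ≠ 0 := (M.exists_gen U).choose_spec.2

theorem mem_line {U : Line ρ a₁ a₂} {v : V} (hv : v ∈ U.1) : ∃ k : ZMod 3, v = k • M.gen U := by
  rcases cases_of_card_three (M.card_line U) (M.gen_mem U) (M.gen_ne U) hv with rfl | rfl | rfl
  · exact ⟨0, (zero_smul _ _).symm⟩
  · exact ⟨1, (one_smul _ _).symm⟩
  · exact ⟨-1, (neg_one_smul _ _).symm⟩

theorem exists_coef (g : G) (U : Line ρ a₁ a₂) :
    ∃ s : (ZMod 3)ˣ, ρ g (M.gen U) = (s : ZMod 3) • M.gen (perm ρ a₁ a₂ g U) := by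
  rcases cases_of_card_three (M.card_line _) (M.gen_mem (perm ρ a₁ a₂ g U)) (M.gen_ne _)
    (show ρ g (M.gen U) ∈ (perm ρ a₁ a₂ g U).1 from ⟨_, M.gen_mem U, rfl⟩) with h | h | h
  · exact absurd (inj_app g (h.trans (map_zero (ρ g)).symm)) (M.gen_ne U)
  · exact ⟨1, by rw [h, Units.val_one, one_smul]⟩
  · exact ⟨-1, by rw [h, Units.val_neg, Units.val_one, neg_one_smul]⟩

/-- The monomial coefficient. -/
noncomputable def coef (g : G) (U : Line ρ a₁ a₂) : (ZMod 3)ˣ := (M.exists_coef g U).choose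

theorem coef_spec (g : G) (U : Line ρ a₁ a₂) :
    ρ g (M.gen U) = (M.coef g U : ZMod 3) • M.gen (perm ρ a₁ a₂ g U) :=
  (M.exists_coef g U).choose_spec

theorem coef_unique {g : G} {U : Line ρ a₁ a₂} {s : ZMod 3}
    (h : ρ g (M.gen U) = s • M.gen (perm ρ a₁ a₂ g U)) : (M.coef g U : ZMod 3) = s :=
  smul_left_injective (ZMod 3) (M.gen_ne _) ((M.coef_spec g U).symm.trans h)

theorem coef_mul (g h : G) (U : Line ρ a₁ a₂) :
    M.coef (g * h) U = M.coef g (perm ρ a₁ a₂ h U) * M.coef h U := by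
  refine Units.ext (M.coef_unique ?_)
  rw [mul_app, M.coef_spec, map_smul, M.coef_spec, smul_smul, Units.val_mul, mul_comm, map_mul,
    Equiv.Perm.mul_apply]

theorem coef_one (U : Line ρ a₁ a₂) : M.coef 1 U = 1 := by
  refine Units.ext (M.coef_unique ?_)
  rw [one_app, Units.val_one, one_smul, map_one, Equiv.Perm.one_apply]

theorem span_eq_top : ⨆ U : Line ρ a₁ a₂, U.1 = ⊤ := by
  let L : Line ρ a₁ a₂ := ⟨wt ρ a₁ a₂ 1 (-1), 1, (map_one_sub _).symm⟩
  refine (M.setting.irr _ fun g v hv => ?_).resolve_left fun h => ?_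
  · have hle : (⨆ U : Line ρ a₁ a₂, U.1).map (ρ g) ≤ ⨆ U : Line ρ a₁ a₂, U.1 := by
      rw [Submodule.map_iSup]
      exact iSup_le fun U => le_iSup_of_le (perm ρ a₁ a₂ g U) le_rfl
    exact hle ⟨v, hv, rfl⟩
  · have hv : M.gen L ∈ ⨆ U : Line ρ a₁ a₂, U.1 := le_iSup (fun U : Line ρ a₁ a₂ => U.1) L (M.gen_mem L)
    rw [h, Submodule.mem_bot] at hv
    exact M.gen_ne L hv

theorem ext_lines {g h : G} (hp : ∀ U, perm ρ a₁ a₂ g U = perm ρ a₁ a₂ h U)
    (hc : ∀ U, M.coef g U = M.coef h U) : g = h := by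
  refine eq_of_app M.setting.inj fun v => ?_
  have hle : (⨆ U : Line ρ a₁ a₂, U.1) ≤ LinearMap.ker (ρ g - ρ h) := iSup_le fun U w hw => by
    obtain ⟨k, rfl⟩ := M.mem_line hw
    rw [LinearMap.mem_ker, LinearMap.sub_apply, map_smul, map_smul, M.coef_spec, M.coef_spec,
      hp, hc, sub_self]
  rw [M.span_eq_top] at hle
  exact sub_eq_zero.1 (hle (Submodule.mem_top (x := v)))

theorem perm_N {n : G} (hn : n ∈ N) (U : Line ρ a₁ a₂) : perm ρ a₁ a₂ n U = U := by
  obtain ⟨g, hg⟩ := U.2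
  refine Subtype.ext ?_
  have hm : g⁻¹ * n * g ∈ N := by
    have := M.normal.conj_mem n hn g⁻¹
    rwa [inv_inv] at this
  obtain ⟨hL, -, -, -⟩ := weights M.setting.four M.setting.inj M.setting.cubic
  have hLn : (wt ρ a₁ a₂ 1 (-1)).map (ρ (g⁻¹ * n * g)) ≤ wt ρ a₁ a₂ 1 (-1) := by
    rintro w ⟨v, hv, rfl⟩
    rw [SetLike.mem_coe, mem_wt] at hv
    rw [mem_wt]
    constructor
    · rw [← mul_app, M.comm M.memN hm, mul_app, hv.1, map_smul]
    · rw [← mul_app, M.comm M.mem₂ hm, mul_app, hv.2, map_smul]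
  have hLn' : (wt ρ a₁ a₂ 1 (-1)).map (ρ (g⁻¹ * n * g)) = wt ρ a₁ a₂ 1 (-1) := by
    obtain ⟨v, hv, hv0⟩ := exists_ne_zero_of_card (U := wt ρ a₁ a₂ 1 (-1)) (by omega)
    exact eq_of_card_three hL hLn ⟨v, hv, rfl⟩ fun e =>
      hv0 (inj_app _ (e.trans (map_zero (ρ (g⁻¹ * n * g))).symm))
  rw [perm_apply, hg, ← map_mul_sub, show n * g = g * (g⁻¹ * n * g) by group, map_mul_sub, hLn']

theorem app_N {n : G} (hn : n ∈ N) {U : Line ρ a₁ a₂} {v : V} (hv : v ∈ U.1) :
    ρ n v = (M.coef n U : ZMod 3) • v := by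
  obtain ⟨k, rfl⟩ := M.mem_line hv
  rw [map_smul, M.coef_spec, M.perm_N hn, smul_comm]

theorem eq_of_coef {U W : Line ρ a₁ a₂} (h : ∀ n ∈ N, M.coef n U = M.coef n W) : U = W := by
  obtain ⟨g, hg⟩ := W.2
  have key : ∀ a ∈ N, ∀ s : ZMod 3, (∀ w ∈ wt ρ a₁ a₂ 1 (-1), ρ a w = s • w) → ∀ v ∈ U.1,
      ρ a (ρ g⁻¹ v) = s • ρ g⁻¹ v := by
    intro a ha s hs v hv
    have hn : g * a * g⁻¹ ∈ N := M.normal.conj_mem a ha g
    obtain ⟨w, hw, hw'⟩ := show M.gen W ∈ (wt ρ a₁ a₂ 1 (-1)).map (ρ g) by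
      rw [← hg]; exact M.gen_mem W
    have hW : (M.coef (g * a * g⁻¹) W : ZMod 3) = s := by
      refine M.coef_unique ?_
      rw [M.perm_N hn, ← hw', ← mul_app, show g * a * g⁻¹ * g = g * a by group, mul_app, hs w hw,
        map_smul]
    rw [← mul_app, show a * g⁻¹ = g⁻¹ * (g * a * g⁻¹) by group, mul_app, M.app_N hn hv, map_smul,
      h _ hn, hW]
  refine Subtype.ext (eq_of_card_three (M.card_line W) (fun v hv => ?_) (M.gen_mem U) (M.gen_ne U))
  have hw : ρ g⁻¹ v ∈ wt ρ a₁ a₂ 1 (-1) := mem_wt.2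
    ⟨key a₁ M.memN 1 (fun w hw => (mem_wt.1 hw).1) v hv,
      key a₂ M.mem₂ (-1) (fun w hw => (mem_wt.1 hw).2) v hv⟩
  rw [hg]
  exact ⟨_, hw, app_inv g v⟩

set_option maxHeartbeats 2000000 in
/-- The dichotomy: three lines and a four-group, or four lines and an extraspecial group. -/
theorem shape [Group.IsSolvable G] : Shape R := by
  classical
  haveI := M.setting.normal
  haveI := M.normal
  haveI := Fintype.ofFinite (Line ρ a₁ a₂)
  haveI : Fact (Nat.Prime 2) := ⟨Nat.prime_two⟩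
  have h4 := M.setting.four
  obtain ⟨hX, hY, hZ, hC⟩ := weights h4 M.setting.inj M.setting.cubic
  set π := perm ρ a₁ a₂ with hπ
  set L₁ : Line ρ a₁ a₂ := ⟨wt ρ a₁ a₂ 1 (-1), 1, (map_one_sub _).symm⟩ with hL₁
  set L₂ := π b L₁ with hL₂
  set L₃ := π b L₂ with hL₃
  have hmem1 : M.gen L₁ ∈ wt ρ a₁ a₂ 1 (-1) := M.gen_mem L₁
  have e2 : L₂.1 = wt ρ a₁ a₂ (-1) 1 := by
    refine eq_of_card_three hY ?_ ⟨_, hmem1, rfl⟩ fun e =>
      M.gen_ne L₁ (inj_app b (e.trans (map_zero (ρ b)).symm))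
    rintro w ⟨v, hv, rfl⟩; exact b_wt_x h4 hv
  have e3 : L₃.1 = wt ρ a₁ a₂ (-1) (-1) := by
    refine eq_of_card_three hZ ?_ ⟨_, M.gen_mem L₂, rfl⟩ fun e =>
      M.gen_ne L₂ (inj_app b (e.trans (map_zero (ρ b)).symm))
    rintro w ⟨v, hv, rfl⟩; exact b_wt_y h4 (e2 ▸ hv)
  have hπ3 : π b L₃ = L₁ := by
    rw [hL₃, hL₂, ← Equiv.Perm.mul_apply, ← Equiv.Perm.mul_apply, ← map_mul, ← map_mul,
      show b * b * b = b ^ 3 by simp [pow_succ, mul_assoc], M.setting.cubic.cube, map_one,
      Equiv.Perm.one_apply]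
  have hdist : ∀ {U W : Line ρ a₁ a₂} {s t s' t' : ZMod 3}, U.1 ≤ wt ρ a₁ a₂ s t →
      W.1 ≤ wt ρ a₁ a₂ s' t' → (s ≠ s' ∨ t ≠ t') → U ≠ W := by
    intro U W s t s' t' hU hW hne e
    subst e
    have h1 := mem_wt.1 (hU (M.gen_mem U))
    have h2 := mem_wt.1 (hW (M.gen_mem U))
    rcases hne with h | h
    · exact h (smul_left_injective (ZMod 3) (M.gen_ne U) (h1.1.symm.trans h2.1))
    · exact h (smul_left_injective (ZMod 3) (M.gen_ne U) (h1.2.symm.trans h2.2))
  have h12 : L₁ ≠ L₂ := hdist le_rfl e2.le (Or.inl (by decide))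
  have h13 : L₁ ≠ L₃ := hdist le_rfl e3.le (Or.inl (by decide))
  have h23 : L₂ ≠ L₃ := hdist e2.le e3.le (Or.inr (by decide))
  have hother : ∀ U, U ≠ L₁ → U ≠ L₂ → U ≠ L₃ → U.1 ≤ wt ρ a₁ a₂ 1 1 := by
    intro U n1 n2 n3 v hv
    have hv1 := M.app_N M.memN hv
    have hv2 := M.app_N M.mem₂ hv
    have hall : ∀ w ∈ U.1, w ∈ wt ρ a₁ a₂ (M.coef a₁ U : ZMod 3) (M.coef a₂ U : ZMod 3) :=
      fun w hw => mem_wt.2 ⟨M.app_N M.memN hw, M.app_N M.mem₂ hw⟩
    rcases units_cases (M.coef a₁ U) with c1 | c1 <;> rcases units_cases (M.coef a₂ U) with c2 | c2 <;>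
      simp only [c1, c2, Units.val_one, Units.val_neg] at hall hv1 hv2
    · exact mem_wt.2 ⟨hv1, hv2⟩
    · exact absurd (Subtype.ext (eq_of_card_three hX hall (M.gen_mem U) (M.gen_ne U))) n1
    · exact absurd (Subtype.ext ((eq_of_card_three hY hall (M.gen_mem U) (M.gen_ne U)).trans e2.symm)) n2
    · exact absurd (Subtype.ext ((eq_of_card_three hZ hall (M.gen_mem U) (M.gen_ne U)).trans e3.symm)) n3
  have hfixU : ∀ U, U ≠ L₁ → U ≠ L₂ → U ≠ L₃ → π b U = U := by
    intro U n1 n2 n3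
    refine Subtype.ext ?_
    rw [hπ, perm_apply]
    ext v
    constructor
    · rintro ⟨w, hw, rfl⟩; rwa [hC w (hother U n1 n2 n3 hw)]
    · exact fun hv => ⟨v, hv, hC v (hother U n1 n2 n3 hv)⟩
  have hsupp : (π b).support = {L₁, L₂, L₃} := by
    ext U
    rw [Equiv.Perm.mem_support, Finset.mem_insert, Finset.mem_insert, Finset.mem_singleton]
    constructor
    · intro h
      by_contra hn
      push Not at hn
      exact h (hfixU U hn.1 hn.2.1 hn.2.2)
    · rintro (rfl | rfl | rfl)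
      · exact fun e => h12 e.symm
      · exact fun e => h23 e.symm
      · rw [hπ3]; exact h13
  have hthree : (π b).IsThreeCycle := by
    rw [← card_support_eq_three_iff, hsupp, Finset.card_eq_three]
    exact ⟨L₁, L₂, L₃, h12, h13, h23, rfl⟩
  have htrans : ∀ U : Line ρ a₁ a₂, ∃ g, π g L₁ = U := fun U => by
    obtain ⟨g, hg⟩ := U.2
    exact ⟨g, Subtype.ext hg.symm⟩
  -- the determinant is trivial on `R`
  let Δ : G →* (ZMod 3)ˣ :=
    { toFun := fun g => ∏ U, M.coef g U
      map_one' := Finset.prod_eq_one fun U _ => M.coef_one U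
      map_mul' := fun g h => by
        simp only [M.coef_mul, Finset.prod_mul_distrib]
        rw [Equiv.prod_comp (π h) (fun U => M.coef g U)] }
  have hΔR : ∀ r ∈ R, Δ r = 1 := by
    intro r hr
    refine MonoidHom.mem_ker.1 (M.setting.le_of_conj (H := Δ.ker) (fun x _ => ?_) hr)
    rw [MonoidHom.mem_ker, map_mul, map_mul, map_mul, map_inv, map_inv]
    rw [mul_comm (Δ x) (Δ b), mul_inv_cancel_right, mul_inv_cancel]
  have hsgnR : ∀ r ∈ R, Equiv.Perm.sign (π r) = 1 := by
    intro r hr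
    refine MonoidHom.mem_ker.1 (M.setting.le_of_conj (H := (Equiv.Perm.sign.comp π).ker)
      (fun x _ => ?_) hr)
    rw [MonoidHom.mem_ker, map_mul, map_mul, map_mul, map_inv, map_inv]
    rw [mul_comm ((Equiv.Perm.sign.comp π) x), mul_inv_cancel_right, mul_inv_cancel]
  -- at most four lines
  set k := Nat.card (Line ρ a₁ a₂) with hk
  have hk3 : 3 ≤ k := by
    have := Finset.card_le_univ (π b).support
    rwa [hthree.card_support, ← Nat.card_eq_fintype_card] at this
  have hk4 : k ≤ 4 := by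
    by_contra hk5
    push Not at hk5
    let H := π.range
    haveI : MulAction.IsPretransitive H (Line ρ a₁ a₂) := ⟨fun U W => by
      obtain ⟨g, hg⟩ := htrans U
      obtain ⟨g', hg'⟩ := htrans W
      refine ⟨⟨π (g' * g⁻¹), _, rfl⟩, ?_⟩
      show π (g' * g⁻¹) U = W
      rw [map_mul, map_inv, Equiv.Perm.mul_apply, ← hg, perm_inv_app, hg']⟩
    have hprim : MulAction.IsPreprimitive H (Line ρ a₁ a₂) := by
      refine { isTrivialBlock_of_isBlock := fun {B} hB => ?_ }
      by_contra hnt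
      simp only [MulAction.IsTrivialBlock, not_or, Set.not_subsingleton_iff] at hnt
      obtain ⟨hnt1, hnt2⟩ := hnt
      refine hnt2 (Set.eq_univ_of_forall fun W => ?_)
      have hblock : ∀ g : G, π b '' (π g '' B) = π g '' B := by
        intro g
        have hmeet : (π b '' (π g '' B) ∩ π g '' B).Nonempty := by
          by_cases hout : ∃ U ∈ π g '' B, π b U = U
          · obtain ⟨U, hU, hUb⟩ := hout
            exact ⟨U, ⟨U, hU, hUb⟩, hU⟩
          · push Not at hout
            obtain ⟨p, hp, p', hp', hne⟩ := hnt1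
            have hin : ∀ U ∈ π g '' B, U = L₁ ∨ U = L₂ ∨ U = L₃ := by
              intro U hU
              by_contra hn
              push Not at hn
              exact hout U hU (hfixU U hn.1 hn.2.1 hn.2.2)
            have q1 : π g p ∈ π g '' B := ⟨p, hp, rfl⟩
            have q2 : π g p' ∈ π g '' B := ⟨p', hp', rfl⟩
            have hne' : π g p ≠ π g p' := fun e => hne ((π g).injective e)
            rcases hin _ q1 with e | e | e <;> rcases hin _ q2 with e' | e' | e' <;>
              rw [e] at hne' q1 <;> rw [e'] at hne' q2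
            · exact absurd rfl hne'
            · exact ⟨L₂, ⟨L₁, q1, rfl⟩, q2⟩
            · exact ⟨L₁, ⟨L₃, q2, hπ3⟩, q1⟩
            · exact ⟨L₂, ⟨L₁, q2, rfl⟩, q1⟩
            · exact absurd rfl hne'
            · exact ⟨L₃, ⟨L₂, q1, rfl⟩, q2⟩
            · exact ⟨L₁, ⟨L₃, q1, hπ3⟩, q2⟩
            · exact ⟨L₃, ⟨L₂, q2, rfl⟩, q1⟩
            · exact absurd rfl hne'
        have h1 : (⟨π (b * g), b * g, rfl⟩ : H) • B = π b '' (π g '' B) := by
          rw [← Set.image_comp, ← Equiv.Perm.coe_mul, ← map_mul]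
          rfl
        have h2 : (⟨π g, g, rfl⟩ : H) • B = π g '' B := rfl
        rw [← h1, ← h2] at hmeet ⊢
        exact MulAction.isBlock_iff_smul_eq_smul_of_nonempty.1 hB hmeet
      have himg : ∀ (g h : G) (C : Set (Line ρ a₁ a₂)), π (g * h) '' C = π g '' (π h '' C) :=
        fun g h C => by rw [map_mul, Equiv.Perm.coe_mul, Set.image_comp]
      let K : Subgroup G :=
        { carrier := {g | π g '' B = B}
          one_mem' := by simp
          mul_mem' := fun {g h} hg hh => by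
            simp only [Set.mem_setOf_eq] at hg hh ⊢
            rw [himg, hh, hg]
          inv_mem' := fun {g} hg => by
            simp only [Set.mem_setOf_eq] at hg ⊢
            conv_lhs => rw [← hg]
            rw [← himg, inv_mul_cancel, map_one]
            simp }
      have hbK : b ∈ K := by
        have := hblock 1
        simpa [K] using this
      have hRK : R ≤ K := M.setting.le_of_conj fun r _ => K.mul_mem (by
        show π (r * b * r⁻¹) '' B = B
        rw [himg, himg, hblock, ← himg, mul_inv_cancel, map_one]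
        simp) (K.inv_mem hbK)
      obtain ⟨p, hp, -⟩ := hnt1
      obtain ⟨g, hg⟩ := htrans W
      obtain ⟨g', hg'⟩ := htrans p
      have hKg : π (g * g'⁻¹) '' B = B := M.setting.top_le hRK hbK (g * g'⁻¹)
      rw [← hKg]
      refine ⟨p, hp, ?_⟩
      rw [map_mul, map_inv, Equiv.Perm.mul_apply, ← hg', perm_inv_app, hg]
    have hA := Equiv.Perm.alternatingGroup_le_of_isPreprimitive_of_isThreeCycle_mem hprim hthree
      ⟨b, rfl⟩
    haveI : Group.IsSolvable H := Group.isSolvable_of_surjective π.rangeRestrict_surjective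
    haveI : Group.IsSolvable (alternatingGroup (Line ρ a₁ a₂)) :=
      Group.isSolvable_of_isSolvable_injective (Subgroup.inclusion_injective hA)
    refine Equiv.Perm.not_solvable (Line ρ a₁ a₂) ?_ ?_
    · rw [← Nat.cast_ofNat, ← Nat.cast_card]
      exact Nat.cast_le.2 (by omega)
    · exact Group.isSolvable_of_ker_le_range (alternatingGroup (Line ρ a₁ a₂)).subtype
        (Equiv.Perm.sign) (by rw [Subgroup.range_subtype]; exact le_rfl)
  -- the kernel of the action
  set D₀ : Subgroup G := R ⊓ π.ker with hD₀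
  have hperm0 : ∀ {d : G}, d ∈ D₀ → ∀ U, π d U = U := fun {d} hd U => by
    rw [MonoidHom.mem_ker.1 hd.2, Equiv.Perm.one_apply]
  have hND : ∀ n ∈ N, n ∈ D₀ := fun n hn =>
    ⟨M.le hn, MonoidHom.mem_ker.2 (Equiv.ext fun U => by rw [hπ, M.perm_N hn]; rfl)⟩
  have hsq0 : ∀ d ∈ D₀, d * d = 1 := by
    intro d hd
    refine M.ext_lines (fun U => ?_) fun U => ?_
    · rw [← hπ, map_mul, MonoidHom.mem_ker.1 hd.2, one_mul, map_one]
    · rw [M.coef_mul, ← hπ, hperm0 hd, units_three, M.coef_one]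
  let U₀ := L₁
  let Ψ : D₀ →* ({U : Line ρ a₁ a₂ // U ≠ U₀} → (ZMod 3)ˣ) :=
    { toFun := fun d U => M.coef d U.1
      map_one' := funext fun U => M.coef_one U.1
      map_mul' := fun d e => funext fun U => by
        show M.coef ((d : G) * e) U.1 = _
        rw [M.coef_mul, ← hπ, hperm0 e.2]
        rfl }
  have hrest : ∀ d ∈ D₀, M.coef d U₀ = (∏ U ∈ Finset.univ.erase U₀, M.coef d U)⁻¹ := by
    intro d hd
    refine eq_inv_of_mul_eq_one_left ?_
    rw [Finset.mul_prod_erase _ _ (Finset.mem_univ U₀)]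
    exact hΔR d hd.1
  have hΨinj : Function.Injective Ψ := by
    intro d e h
    refine Subtype.ext (M.ext_lines (fun U => by rw [← hπ, hperm0 d.2, hperm0 e.2]) fun U => ?_)
    by_cases hU : U = U₀
    · subst hU
      rw [hrest d d.2, hrest e e.2]
      congr 1
      exact Finset.prod_congr rfl fun W hW => congr_fun h ⟨W, Finset.ne_of_mem_erase hW⟩
    · exact congr_fun h ⟨U, hU⟩
  have hΨcard : Nat.card ({U : Line ρ a₁ a₂ // U ≠ U₀} → (ZMod 3)ˣ) = 2 ^ (k - 1) := by
    have hu : Nat.card (ZMod 3)ˣ = 2 := by rw [Nat.card_eq_fintype_card]; decide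
    rw [Nat.card_fun, hu, Nat.card_eq_fintype_card (α := {U // U ≠ U₀}),
      Fintype.card_subtype_compl, Fintype.card_subtype_eq, ← Nat.card_eq_fintype_card]
  have hD0dvd : Nat.card D₀ ∣ 2 ^ (k - 1) := hΨcard ▸ Subgroup.card_dvd_of_injective Ψ hΨinj
  have hfour : ({1, a₁, a₂, a₁ * a₂} : Finset G).card = 4 := by
    rw [Finset.card_insert_of_notMem, Finset.card_insert_of_notMem, Finset.card_pair]
    · intro e
      exact h4.ne (mul_eq_right.1 e.symm)
    · simp only [Finset.mem_insert, Finset.mem_singleton, not_or]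
      exact ⟨h4.ne_one₂, fun e => h4.ne₂ (mul_eq_left.1 e.symm)⟩
    · simp only [Finset.mem_insert, Finset.mem_singleton, not_or]
      exact ⟨h4.ne.symm, h4.ne₂.symm, h4.ne₃.symm⟩
  have hfour' : ∀ x ∈ ({1, a₁, a₂, a₁ * a₂} : Finset G), x ∈ N := by
    intro x hx
    simp only [Finset.mem_insert, Finset.mem_singleton] at hx
    rcases hx with rfl | rfl | rfl | rfl
    exacts [N.one_mem, M.memN, M.mem₂, N.mul_mem M.memN M.mem₂]
  have hcount : ∀ s : Finset G, (∀ x ∈ s, x ∈ D₀) → s.card ≤ Nat.card D₀ := fun s hs => by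
    have h1 : (↑s : Set G).ncard ≤ ((D₀ : Subgroup G) : Set G).ncard :=
      Set.ncard_le_ncard hs (Set.toFinite _)
    rwa [Set.ncard_coe_finset, ← Nat.card_coe_set_eq] at h1
  have hD04 : 4 ≤ Nat.card D₀ := hfour ▸ hcount _ fun x hx => hND x (hfour' x hx)
  have hcardR : Nat.card R = Nat.card (Subgroup.map π R) * Nat.card D₀ := by
    rw [← Subgroup.card_mul_index (π.ker.subgroupOf R), ← Subgroup.relIndex_ker, mul_comm]
    congr 1
    rw [hD₀, ← Subgroup.inf_subgroupOf_left]
    exact Nat.card_congr (Subgroup.subgroupOfEquivOfLe inf_le_left).toEquiv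
  have hA_le : Subgroup.map π R ≤ alternatingGroup (Line ρ a₁ a₂) := by
    rintro _ ⟨r, hr, rfl⟩
    exact Equiv.Perm.mem_alternatingGroup.2 (hsgnR r hr)
  have hAdvd : Nat.card (Subgroup.map π R) ∣ Nat.card (alternatingGroup (Line ρ a₁ a₂)) :=
    Subgroup.card_dvd_of_le hA_le
  have hndvd : ¬ 3 ∣ Nat.card (Subgroup.map π R) := fun h =>
    M.setting.cop (h.trans (Subgroup.card_map_dvd R π))
  haveI : Nontrivial (Line ρ a₁ a₂) := ⟨⟨L₁, L₂, h12⟩⟩
  have hAcard : 2 * Nat.card (alternatingGroup (Line ρ a₁ a₂)) = k.factorial := by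
    rw [Nat.card_eq_fintype_card, two_mul_card_alternatingGroup, Fintype.card_perm,
      ← Nat.card_eq_fintype_card]
  have htwo : ∀ m, Nat.card D₀ ≤ m → Nat.card (Subgroup.map π R) = 1 → Nat.card R ≤ m :=
    fun m h1 h2 => by rw [hcardR, h2, one_mul]; exact h1
  obtain hk' | hk' : k = 3 ∨ k = 4 := by omega
  · -- three lines
    rw [hk'] at hAcard hD0dvd
    have hA3 : Nat.card (alternatingGroup (Line ρ a₁ a₂)) = 3 := by
      simp only [Nat.factorial] at hAcard
      omega
    rw [hA3] at hAdvd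
    have h1 : Nat.card (Subgroup.map π R) = 1 := by
      rcases (Nat.dvd_prime Nat.prime_three).1 hAdvd with h | h
      · exact h
      · exact absurd (dvd_of_eq h.symm) hndvd
    have hR4 : Nat.card R = 4 := by
      rw [hcardR, h1, one_mul]
      have := Nat.le_of_dvd (by norm_num) hD0dvd
      omega
    have hRD : D₀ = R := Subgroup.eq_of_le_of_card_ge inf_le_left (by rw [hcardR, h1, one_mul])
    exact Or.inl ⟨isElementaryAbelian_of_sq fun a ha => hsq0 a (hRD ▸ ha), hR4⟩
  · -- four lines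
    right
    rw [hk'] at hAcard hD0dvd
    have hA12 : Nat.card (alternatingGroup (Line ρ a₁ a₂)) = 12 := by
      simp only [Nat.factorial] at hAcard
      omega
    rw [hA12] at hAdvd
    obtain ⟨U₄, n1, n2, n3⟩ : ∃ U, U ≠ L₁ ∧ U ≠ L₂ ∧ U ≠ L₃ := by
      by_contra hn
      push Not at hn
      have huniv : (Finset.univ : Finset (Line ρ a₁ a₂)) ⊆ {L₁, L₂, L₃} := by
        intro U _
        simp only [Finset.mem_insert, Finset.mem_singleton]
        by_cases u1 : U = L₁
        · exact Or.inl u1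
        by_cases u2 : U = L₂
        · exact Or.inr (Or.inl u2)
        exact Or.inr (Or.inr (hn U u1 u2))
      have := Finset.card_le_card huniv
      rw [Finset.card_univ, ← Nat.card_eq_fintype_card, ← hk, hk'] at this
      exact absurd (this.trans Finset.card_le_three) (by norm_num)
    have hRtrans : ∀ U W : Line ρ a₁ a₂, ∃ r ∈ R, π r U = W := by
      have h0 : ∀ U : Line ρ a₁ a₂, ∃ r ∈ R, π r U₄ = U := by
        let O : Set (Line ρ a₁ a₂) := {U | ∃ r ∈ R, π r U₄ = U}
        have hst : ∀ g : G, ∀ U ∈ O, π g U ∈ O := by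
          let K : Subgroup G :=
            { carrier := {g | ∀ U, π g U ∈ O ↔ U ∈ O}
              one_mem' := fun U => by rw [map_one]; rfl
              mul_mem' := fun {g h} hg hh U => by rw [map_mul, Equiv.Perm.mul_apply, hg, hh]
              inv_mem' := fun {g} hg U => by rw [← hg, map_inv, perm_app_inv] }
          have hK : ∀ g : G, (∀ U ∈ O, π g U ∈ O) → g ∈ K := by
            intro g hg U
            refine ⟨fun h => ?_, hg U⟩
            obtain ⟨W, hW, e⟩ : π g U ∈ π g '' O := by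
              have : π g '' O = O := Set.eq_of_subset_of_ncard_le (Set.image_subset_iff.2 hg)
                (Set.ncard_image_of_injective O (π g).injective).ge (Set.toFinite _)
              rwa [this]
            exact (π g).injective e ▸ hW
          have hRK : R ≤ K := fun s hs => hK s fun U hU => by
            obtain ⟨r, hr, rfl⟩ := hU
            exact ⟨s * r, R.mul_mem hs hr, by rw [map_mul, Equiv.Perm.mul_apply]⟩
          have hbK : b ∈ K := hK b fun U hU => by
            obtain ⟨r, hr, rfl⟩ := hU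
            refine ⟨b * r * b⁻¹, M.setting.normal.conj_mem r hr b, ?_⟩
            rw [map_mul, map_mul, map_inv, Equiv.Perm.mul_apply, Equiv.Perm.mul_apply,
              show (π b)⁻¹ U₄ = U₄ from Equiv.Perm.inv_eq_iff_eq.2 (hfixU U₄ n1 n2 n3).symm]
          exact fun g U hU => (M.setting.top_le hRK hbK g U).2 hU
        intro U
        obtain ⟨g, hg⟩ := htrans U
        obtain ⟨g', hg'⟩ := htrans U₄
        have h := hst (g * g'⁻¹) U₄ ⟨1, R.one_mem, by rw [map_one]; rfl⟩
        rwa [map_mul, map_inv, Equiv.Perm.mul_apply, ← hg', perm_inv_app, hg] at h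
      intro U W
      obtain ⟨r, hr, e⟩ := h0 U
      obtain ⟨s, hs, e'⟩ := h0 W
      refine ⟨s * r⁻¹, R.mul_mem hs (R.inv_mem hr), ?_⟩
      rw [map_mul, map_inv, Equiv.Perm.mul_apply, ← e, perm_inv_app, e']
    let f : Subgroup.map π R → Line ρ a₁ a₂ := fun σ => σ.1 L₁
    have hfsurj : Function.Surjective f := fun U => by
      obtain ⟨r, hr, e⟩ := hRtrans L₁ U
      exact ⟨⟨π r, r, hr, rfl⟩, e⟩
    have hle4 := Nat.card_le_card_of_surjective f hfsurj
    rw [← hk, hk'] at hle4
    have hmap4 : Nat.card (Subgroup.map π R) = 4 := by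
      have h12le := Nat.le_of_dvd (by norm_num) hAdvd
      interval_cases h : Nat.card (Subgroup.map π R) <;> omega
    have hfbij : Function.Bijective f := hfsurj.bijective_of_nat_card_le (by rw [hmap4, ← hk, hk'])
    have hfree : ∀ r ∈ R, (∃ U, π r U = U) → π r = 1 := by
      intro r hr ⟨U, hU⟩
      obtain ⟨s, hs, e⟩ := hRtrans L₁ U
      have h1 : (⟨π (s⁻¹ * r * s), _, R.mul_mem (R.mul_mem (R.inv_mem hs) hr) hs, rfl⟩ :
          Subgroup.map π R) = 1 := hfbij.1 (by
        show π (s⁻¹ * r * s) L₁ = L₁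
        rw [map_mul, map_mul, map_inv, Equiv.Perm.mul_apply, Equiv.Perm.mul_apply, e, hU, ← e,
          perm_inv_app])
      have h1' : π (s⁻¹ * r * s) = 1 := congrArg Subtype.val h1
      rw [map_mul, map_mul, map_inv] at h1'
      calc π r = π s * ((π s)⁻¹ * π r * π s) * (π s)⁻¹ := by group
        _ = 1 := by rw [h1']; group
    -- `D₀` has order eight
    obtain ⟨r₄, hr₄, er₄⟩ := hRtrans L₁ U₄
    set a' := r₄ * a₂ * r₄⁻¹ with ha'
    have ha'N : a' ∈ N := M.normal.conj_mem _ M.mem₂ r₄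
    have ha'coef : ρ a' (ρ r₄ (M.gen L₁)) = -ρ r₄ (M.gen L₁) := by
      rw [ha', mul_app, mul_app, inv_app, (mem_wt.1 hmem1).2, neg_one_smul, map_neg]
    have hU4mem : ρ r₄ (M.gen L₁) ∈ U₄.1 := by
      rw [← er₄]; exact ⟨_, M.gen_mem L₁, rfl⟩
    have hwt4 := mem_wt.1 (hother U₄ n1 n2 n3 hU4mem)
    have ha'not : a' ∉ ({1, a₁, a₂, a₁ * a₂} : Finset G) := by
      intro hx
      simp only [Finset.mem_insert, Finset.mem_singleton] at hx
      refine M.gen_ne L₁ (inj_app (ρ := ρ) r₄ ?_)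
      rw [map_zero]
      refine eq_zero_of_eq_neg ?_
      conv_rhs => rw [← ha'coef]
      rcases hx with h | h | h | h <;> rw [h]
      · rw [one_app]
      · rw [hwt4.1, one_smul]
      · rw [hwt4.2, one_smul]
      · rw [mul_app, hwt4.2, one_smul, hwt4.1, one_smul]
    have hD08 : Nat.card D₀ = 8 := by
      have h5 : 5 ≤ Nat.card D₀ := by
        have := hcount (insert a' {1, a₁, a₂, a₁ * a₂}) (fun x hx => by
          rcases Finset.mem_insert.1 hx with rfl | hx
          · exact hND _ ha'N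
          · exact hND x (hfour' x hx))
        rwa [Finset.card_insert_of_notMem ha'not, hfour] at this
      have h8 := Nat.le_of_dvd (by norm_num) hD0dvd
      norm_num at hD0dvd h8
      interval_cases h : Nat.card D₀ <;> omega
    have hΨsurj : Function.Surjective Ψ :=
      (hΨinj.bijective_of_nat_card_le (by rw [hΨcard, hD08, hk']; norm_num)).2
    obtain ⟨⟨z, hzD⟩, hz⟩ := hΨsurj fun _ => -1
    have hzcoef : ∀ U, M.coef z U = -1 := by
      intro U
      by_cases hU : U = U₀
      · subst hU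
        rw [hrest z hzD, Finset.prod_congr rfl (fun W hW => show M.coef z W = -1 from
          congr_fun hz ⟨W, Finset.ne_of_mem_erase hW⟩), Finset.prod_const,
          Finset.card_erase_of_mem (Finset.mem_univ _), Finset.card_univ,
          ← Nat.card_eq_fintype_card, ← hk, hk']
        decide
      · exact congr_fun hz ⟨U, hU⟩
    have hscal : ∀ c : G, (∀ U, π c U = U) → ∀ s : (ZMod 3)ˣ, (∀ U, M.coef c U = s) →
        c = 1 ∨ c = z := by
      intro c hc s hs
      rcases units_cases s with e | e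
      · exact Or.inl (M.ext_lines (fun U => by rw [← hπ, hc, map_one]; rfl) fun U => by
          rw [hs, e, M.coef_one])
      · exact Or.inr (M.ext_lines (fun U => by rw [← hπ, hc, hperm0 hzD]) fun U => by
          rw [hs, e, hzcoef])
    have hzc : ∀ r ∈ R, z * r = r * z := by
      intro r _
      refine M.ext_lines (fun U => ?_) fun U => ?_
      · rw [← hπ, map_mul, map_mul, MonoidHom.mem_ker.1 hzD.2, one_mul, mul_one]
      · rw [M.coef_mul, M.coef_mul, ← hπ, hperm0 hzD, hzcoef, hzcoef, mul_comm]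
    have hz1 : z ≠ 1 := fun e => by
      have := hzcoef L₁
      rw [e, M.coef_one] at this
      exact absurd this (by decide)
    have hsq : ∀ r ∈ R, r * r = 1 ∨ r * r = z := by
      intro r hr
      by_cases h1 : π r = 1
      · exact Or.inl (hsq0 r ⟨hr, h1⟩)
      have h4' : π r * π r * (π r * π r) = 1 := by
        have hpow := pow_card_eq_one' (x := (⟨π r, r, hr, rfl⟩ : Subgroup.map π R))
        rw [hmap4] at hpow
        have := congrArg Subtype.val hpow
        simpa [pow_succ, mul_assoc] using this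
      let e : Line ρ a₁ a₂ ≃ Fin 4 := (Fintype.equivFinOfCardEq (by
        rw [← Nat.card_eq_fintype_card, ← hk, hk']))
      have hP : ∀ σ τ : Equiv.Perm (Line ρ a₁ a₂),
          e.permCongr σ * e.permCongr τ = e.permCongr (σ * τ) := fun σ τ => by
        ext x; simp [Equiv.permCongr_apply]
      have h22 := perm_four (e.permCongr (π r))
        (by rw [Equiv.Perm.sign_permCongr]; exact hsgnR r hr)
        (by rw [hP, hP, h4']; ext x; simp [Equiv.permCongr_apply])
      rw [hP] at h22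
      have hrr : π r * π r = 1 := e.permCongr.injective (h22.trans (by
        ext x; simp [Equiv.permCongr_apply]))
      have hfix : ∀ U, π (r * r) U = U := fun U => by rw [map_mul, hrr]; rfl
      have hmove : ∀ U, π r U ≠ U := fun U hU => h1 (hfree r hr ⟨U, hU⟩)
      have hinv2 : ∀ U, π r (π r U) = U := fun U => by
        rw [← Equiv.Perm.mul_apply, hrr, Equiv.Perm.one_apply]
      refine hscal _ hfix (M.coef (r * r) L₁) fun W => ?_
      set p := M.coef r L₁ * M.coef r (π r L₁) with hp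
      have hL : M.coef (r * r) L₁ = p := by rw [M.coef_mul, ← hπ, mul_comm]
      by_cases hW1 : W = L₁
      · rw [hW1]
      by_cases hW2 : W = π r L₁
      · rw [hW2, M.coef_mul, M.coef_mul, ← hπ, hinv2, mul_comm]
      rw [hL]
      have hd : ({L₁, π r L₁, W, π r W} : Finset (Line ρ a₁ a₂)).card = 4 := by
        rw [Finset.card_insert_of_notMem, Finset.card_insert_of_notMem, Finset.card_pair]
        · exact fun e => hmove W e.symm
        · simp only [Finset.mem_insert, Finset.mem_singleton, not_or]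
          exact ⟨Ne.symm hW2, fun e => hW1 ((π r).injective e).symm⟩
        · simp only [Finset.mem_insert, Finset.mem_singleton, not_or]
          refine ⟨fun e => hmove L₁ e.symm, Ne.symm hW1, fun e => hW2 ?_⟩
          rw [e, hinv2]
      have huniv : ({L₁, π r L₁, W, π r W} : Finset (Line ρ a₁ a₂)) = Finset.univ := by
        refine Finset.eq_univ_of_card _ ?_
        rw [hd, ← Nat.card_eq_fintype_card, ← hk, hk']
      have hprod : ∏ U, M.coef r U = 1 := hΔR r hr
      rw [← huniv, Finset.prod_insert, Finset.prod_insert, Finset.prod_pair] at hprod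
      · rw [← mul_assoc, ← hp] at hprod
        rw [M.coef_mul, ← hπ, mul_comm, eq_inv_of_mul_eq_one_left hprod,
          inv_eq_of_mul_eq_one_right (units_three _)]
      · exact fun e => hmove W e.symm
      · simp only [Finset.mem_insert, Finset.mem_singleton, not_or]
        exact ⟨Ne.symm hW2, fun e => hW1 ((π r).injective e).symm⟩
      · simp only [Finset.mem_insert, Finset.mem_singleton, not_or]
        refine ⟨fun e => hmove L₁ e.symm, Ne.symm hW1, fun e => hW2 ?_⟩
        rw [e, hinv2]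
    have hcen : ∀ c ∈ R, (∀ r ∈ R, c * r = r * c) → c = 1 ∨ c = z := by
      intro c hc hcc
      have hfix : ∀ U, π c U = U := by
        intro U
        refine M.eq_of_coef fun n hn => Units.ext (M.coef_unique ?_)
        rw [M.perm_N hn]
        have h1 := congrArg (fun g => ρ g (M.gen U)) (hcc n (M.le hn)).symm
        simp only [mul_app, M.coef_spec n U, M.perm_N hn, map_smul, M.coef_spec c U] at h1
        rw [smul_comm] at h1
        exact smul_right_injective V (Units.ne_zero (M.coef c U)) h1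
      refine hscal c hfix (M.coef c L₁) fun W => ?_
      obtain ⟨r, hr, e⟩ := hRtrans L₁ W
      have := M.coef_mul c r L₁
      rw [hcc r hr, M.coef_mul, ← hπ, hfix L₁, e, mul_comm] at this
      exact (mul_right_cancel this).symm
    have h32 : Nat.card R = 32 := by rw [hcardR, hmap4, hD08]
    exact ⟨isExtraspecial_of h32 hzD.1 hz1 hzc hcen hsq, h32, D₀, inf_le_left,
      isElementaryAbelian_of_sq hsq0, hD08⟩

end Mono

/-- A normal elementary abelian 2-subgroup of `R` not centralised by `b` decides the shape. -/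
theorem shape_of_normal [Group.IsSolvable G] (S : Setting ρ R b a₁ a₂) {N : Subgroup G}
    (hN : N.Normal) (hNR : N ≤ R) (hsq : ∀ n ∈ N, n * n = 1)
    (hb : ∃ n ∈ N, b * n ≠ n * b) : Shape R := by
  obtain ⟨n, hn, hne⟩ := hb
  have hx : n⁻¹ * (b * n * b⁻¹) ∈ N := N.mul_mem (N.inv_mem hn) (hN.conj_mem n hn b)
  have hx1 : n⁻¹ * (b * n * b⁻¹) ≠ 1 := fun e => hne (by
    have := mul_eq_one_iff_inv_eq.1 e
    rw [inv_inv] at this
    conv_rhs => rw [this]
    group)
  have h4 := four_of S.cubic.cube (u := n) rfl (hsq _ hx) hx1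
  exact Mono.shape (N := N) (a₁ := n⁻¹ * (b * n * b⁻¹))
    (a₂ := b * (n⁻¹ * (b * n * b⁻¹)) * b⁻¹)
    ⟨⟨S.inj, S.cubic, S.irr, S.normal, S.gen, S.comm, S.cop, hNR hx, h4⟩, hN, hNR, hsq, hx⟩

end Cfsg.Agent.ASolv.CubicMono
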