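import Mathlib
import Cfsg.Agent.S0205
import Cfsg.Agent.Lib.Coprime.Action
import Cfsg.Agent.Lib.Cores.Basic
import Cfsg.Agent.Lib.PLocal.PSolvable
import Cfsg.Agent.Lib.PLocal.SolvableSeparable
import Cfsg.Agent.Lib.Involutions.Basic
import Cfsg.Agent.Solvable.HallOrder

/-!
# A group with an abelian Sylow 2-subgroup and a subgroup of odd order and 2-power index is solvable

Elementary given the odd order theorem: in a simple counterexample the centraliser of an involution
is solvable with trivial odd core, hence 2-closed; so every involution lies in only one Sylow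
2-subgroup, no non-trivial element of odd order inverted by an involution normalises a Sylow
2-subgroup, and counting the involutions outside a Sylow 2-subgroup finishes the proof.
-/

set_option autoImplicit false
set_option maxHeartbeats 1000000

namespace Cfsg.Agent.ASolv.OddComplement

open scoped Pointwise

universe u

variable {G : Type u} [Group G]

/-- All `p`-subgroups of `G` are abelian. -/
def PAbelian (p : ℕ) (G : Type u) [Group G] : Prop :=
  ∀ U : Subgroup G, IsPGroup p U → ∀ a ∈ U, ∀ b ∈ U, a * b = b * a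

theorem pAbelian_of_sylow {p : ℕ} [Fact p.Prime] [Finite G]
    (h : ∀ P : Sylow p G, IsMulCommutative (P : Subgroup G)) : PAbelian p G := fun U hU a ha b hb => by
  obtain ⟨P, hP⟩ := hU.exists_le_sylow
  exact congrArg Subtype.val ((h P).is_comm.comm ⟨a, hP ha⟩ ⟨b, hP hb⟩)

theorem PAbelian.subgroup {p : ℕ} (h : PAbelian p G) (H : Subgroup G) : PAbelian p H :=
  fun U hU a ha b hb =>
    Subtype.ext (h (U.map H.subtype) (hU.map _) a ⟨a, ha, rfl⟩ b ⟨b, hb, rfl⟩)

theorem PAbelian.quotient {p : ℕ} [Fact p.Prime] [Finite G] (h : PAbelian p G) (N : Subgroup G)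
    [N.Normal] : PAbelian p (G ⧸ N) := fun U hU a ha b hb => by
  obtain ⟨P, hP⟩ := hU.exists_le_sylow
  obtain ⟨Q, rfl⟩ := Sylow.mapSurjective_surjective (QuotientGroup.mk'_surjective N) p P
  obtain ⟨a', ha', rfl⟩ := hP ha
  obtain ⟨b', hb', rfl⟩ := hP hb
  rw [← map_mul, ← map_mul, h Q Q.2 a' ha' b' hb']

theorem PAbelian.le_centralizer {p : ℕ} (h : PAbelian p G) {U V : Subgroup G}
    (hV : IsPGroup p V) (hUV : U ≤ V) : V ≤ Subgroup.centralizer (U : Set G) := fun v hv => by
  rw [Subgroup.mem_centralizer_iff]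
  exact fun u hu => h V hV u (hUV hu) v hv

theorem card_lt [Finite G] {C : Subgroup G} (h : C ≠ ⊤) : Nat.card C < Nat.card G :=
  lt_of_le_of_ne (Nat.le_of_dvd Nat.card_pos C.card_subgroup_dvd_card) fun e => h (C.eq_top_of_card_eq e)

/-- A finite commutative 2-group with at most one involution is cyclic. -/
theorem isCyclic_of_unique_involution {A : Type*} [CommGroup A] [Finite A] (h2 : IsPGroup 2 A)
    (h : ∀ a b : A, orderOf a = 2 → orderOf b = 2 → a = b) : IsCyclic A := by
  classical
  haveI := Fintype.ofFinite A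
  let K : ℕ → Finset A := fun j => Finset.univ.filter fun a => a ^ 2 ^ j = 1
  have hK1 : ∀ s : Finset A, (∀ a ∈ s, a * a = 1) → s.card ≤ 2 := fun s hs => by
    by_contra hc
    push Not at hc
    have h1 : 1 < (s.erase 1).card := by
      have := Finset.pred_card_le_card_erase (a := (1 : A)) (s := s)
      omega
    obtain ⟨a, ha, b, hb, hne⟩ := Finset.one_lt_card.1 h1
    rw [Finset.mem_erase] at ha hb
    exact hne (h a b (orderOf_eq_prime (by rw [pow_two]; exact hs a ha.2) ha.1)
      (orderOf_eq_prime (by rw [pow_two]; exact hs b hb.2) hb.1))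
  have hK : ∀ j, (K j).card ≤ 2 ^ j := by
    intro j
    induction j with
    | zero =>
      refine Finset.card_le_one.2 fun a ha b hb => ?_
      simp only [K, pow_zero, pow_one, Finset.mem_filter] at ha hb
      rw [ha.2, hb.2]
    | succ j ih =>
      have h1 := Finset.card_le_mul_card_image (f := fun a : A => a * a) (K (j + 1)) 2 ?_
      · refine h1.trans ?_
        rw [pow_succ']
        refine Nat.mul_le_mul_left 2 ((Finset.card_le_card ?_).trans ih)
        intro b hb
        obtain ⟨a, ha, rfl⟩ := Finset.mem_image.1 hb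
        simp only [K, Finset.mem_filter, Finset.mem_univ, true_and] at ha ⊢
        rw [← pow_two, ← pow_mul, ← pow_succ', ha]
      · intro b hb
        obtain ⟨a, ha, rfl⟩ := Finset.mem_image.1 hb
        refine le_trans (le_of_eq (Finset.card_image_of_injective _ (mul_left_injective a⁻¹)).symm)
          (hK1 _ ?_)
        intro c hc
        obtain ⟨d, hd, rfl⟩ := Finset.mem_image.1 hc
        have hd2 : d * d = a * a := (Finset.mem_filter.1 hd).2
        show d * a⁻¹ * (d * a⁻¹) = 1
        rw [mul_mul_mul_comm, hd2]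
        group
  refine isCyclic_of_card_pow_eq_one_le fun n hn => ?_
  obtain ⟨j, m, hm, hjm⟩ := Nat.exists_eq_two_pow_mul_odd hn.ne'
  refine le_trans (Finset.card_le_card ?_) ((hK j).trans (hjm ▸ Nat.le_mul_of_pos_right _ hm.pos))
  intro a ha
  simp only [K, Finset.mem_filter, Finset.mem_univ, true_and] at ha ⊢
  obtain ⟨k, hk⟩ := h2 a
  have h1 : orderOf a ∣ 2 ^ j * m := orderOf_dvd_of_pow_eq_one (hjm ▸ ha)
  have h3 : (orderOf a).Coprime m :=
    Nat.Coprime.coprime_dvd_left (orderOf_dvd_of_pow_eq_one hk)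
      ((Nat.coprime_two_left.2 hm).pow_left k)
  exact orderOf_dvd_iff_pow_eq_one.1 (h3.dvd_of_dvd_mul_right h1)

/-- A 2-element normalising a Sylow 2-subgroup lies in it. -/
theorem mem_sylow_of_mem_normalizer [Finite G] (S : Sylow 2 G) {t : G}
    (ht : t ∈ Subgroup.normalizer ((S : Subgroup G) : Set G)) {k : ℕ} (hk : t ^ 2 ^ k = 1) :
    t ∈ (S : Subgroup G) := by
  have h1 : IsPGroup 2 (Subgroup.zpowers t) := fun ⟨a, ha⟩ => ⟨k, Subtype.ext (by
    obtain ⟨i, rfl⟩ := Subgroup.mem_zpowers_iff.1 ha
    show (t ^ i) ^ 2 ^ k = 1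
    rw [← zpow_natCast (t ^ i), ← zpow_mul, mul_comm, zpow_mul, zpow_natCast, hk, one_zpow])⟩
  have h2 : IsPGroup 2 ↥(Subgroup.zpowers t ⊔ (S : Subgroup G)) :=
    h1.to_sup_of_normal_right' S.2 (Subgroup.zpowers_le.2 ht)
  exact (S.is_maximal' h2 le_sup_right) ▸ Subgroup.mem_sup_left (Subgroup.mem_zpowers t)

theorem exists_involution_of_even {H : Type*} [Group H] [Finite H] (h : ¬ Odd (Nat.card H)) :
    ∃ t : H, orderOf t = 2 := by
  haveI : Fact (Nat.Prime 2) := ⟨Nat.prime_two⟩
  exact exists_prime_orderOf_dvd_card' 2 (even_iff_two_dvd.1 (Nat.not_odd_iff_even.1 h))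

/-- The main counting argument: a simple group cannot have the property. -/
theorem simple_case [Finite G] [IsSimpleGroup G] (hnsol : ¬ Group.IsSolvable G)
    (hab : PAbelian 2 G) (H : Subgroup G) (hH : Odd (Nat.card H)) (hidx : ∃ k, H.index = 2 ^ k)
    (ih : ∀ (C : Subgroup G), C ≠ ⊤ → (∃ k, H.relIndex C = 2 ^ k) → Group.IsSolvable C) :
    False := by
  haveI : Fact (Nat.Prime 2) := ⟨Nat.prime_two⟩
  obtain ⟨k, hk⟩ := hidx
  have hnorm : ∀ N : Subgroup G, N.Normal → Group.IsSolvable N → N = ⊥ := fun N hN hs =>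
    (IsSimpleGroup.eq_bot_or_eq_top_of_normal N hN).resolve_right fun e => hnsol (by
      subst e
      exact solvable_of_surjective (f := (Subgroup.topEquiv : (⊤ : Subgroup G) ≃* G).toMonoidHom)
        Subgroup.topEquiv.surjective)
  have hHne : H ≠ ⊤ := by
    rintro rfl
    exact hnsol (Cfsg.Agent.S0205.result (by rwa [Subgroup.card_top] at hH))
  have hHcore : H.normalCore = ⊥ :=
    (IsSimpleGroup.eq_bot_or_eq_top_of_normal _ H.normalCore_normal).resolve_right fun e =>
      hHne (top_le_iff.1 (e ▸ H.normalCore_le))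
  -- Sylow 2-subgroups complement `H`
  have hcardS : ∀ S : Sylow 2 G, Nat.card (S : Subgroup G) = 2 ^ k := by
    intro S
    have h1 := H.card_mul_index
    rw [hk] at h1
    rw [S.card_eq_multiplicity, ← h1, Nat.factorization_mul Nat.card_pos.ne' (by positivity)]
    simp [Nat.prime_two.factorization_pow,
      Nat.factorization_eq_zero_of_not_dvd fun h => Nat.not_even_iff_odd.2 hH (even_iff_two_dvd.2 h)]
  have hmul : ∀ S : Sylow 2 G, Subgroup.IsComplement' H (S : Subgroup G) := by
    intro S
    have h1 := H.card_mul_index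
    rw [hk] at h1
    have hS := hcardS S
    refine Subgroup.isComplement'_of_coprime (by rw [hS, h1]) ?_
    rw [hS]
    exact Nat.Coprime.pow_right _ (Nat.coprime_two_right.2 hH)
  -- centralisers of involutions normalise Sylow subgroups
  have hC : ∀ (t : G), orderOf t = 2 → ∀ S : Sylow 2 G, t ∈ (S : Subgroup G) →
      Subgroup.centralizer ({t} : Set G) ≤ Subgroup.normalizer ((S : Subgroup G) : Set G) := by
    intro t ht S htS
    set C := Subgroup.centralizer ({t} : Set G) with hCdef
    have hSC : (S : Subgroup G) ≤ C := fun s hs =>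
      Subgroup.mem_centralizer_singleton_iff.2 (hab S S.2 s hs t htS)
    have hCtop : C ≠ ⊤ := by
      intro e
      have hz : t ∈ Subgroup.center G := Subgroup.mem_center_iff.2 fun g =>
        Subgroup.mem_centralizer_singleton_iff.1 (e ▸ Subgroup.mem_top g : g ∈ C)
      have := hnorm (Subgroup.center G) inferInstance (Coprime.isSolvable_of_isMulCommutative _)
      rw [this, Subgroup.mem_bot] at hz
      exact Involutions.Basic.ne_one ht hz
    have hdec : ∀ g : G, ∃ h ∈ H, ∃ c ∈ C, h * c = g := by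
      intro g
      obtain ⟨⟨⟨h, hh⟩, ⟨s, hs⟩⟩, e⟩ := (hmul S).2 g
      exact ⟨h, hh, s, hSC hs, e⟩
    have hrel : H.relIndex C = 2 ^ k := by
      refine le_antisymm ?_ ?_
      · have := Subgroup.relIndex_le_of_le_right (H := H) (le_top : C ≤ ⊤)
          (by rw [Subgroup.relIndex_top_right, hk]; positivity)
        rwa [Subgroup.relIndex_top_right, hk] at this
      · have h1 : (2 ^ k) ∣ Nat.card C := hcardS S ▸ Subgroup.card_dvd_of_le hSC
        have h2 : Nat.card ↥(H ⊓ C) * H.relIndex C = Nat.card C := by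
          rw [← Subgroup.relIndex_bot_left, ← Subgroup.relIndex_bot_left,
            ← Subgroup.inf_relIndex_right H C,
            Subgroup.relIndex_mul_relIndex ⊥ (H ⊓ C) C bot_le inf_le_right]
        rw [← h2] at h1
        refine Nat.le_of_dvd (Nat.pos_of_ne_zero fun e => ?_)
          (Nat.Coprime.dvd_of_dvd_mul_left (Nat.Coprime.pow_left k (Nat.coprime_two_left.2
            (hH.of_dvd_nat (Subgroup.card_dvd_of_le (inf_le_left : H ⊓ C ≤ H))))) h1)
        rw [e, mul_zero] at h2
        exact Nat.card_pos.ne h2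
    haveI := ih C hCtop ⟨k, hrel⟩
    -- the odd core of `C` is trivial
    have hO : Cfsg.pPrimeCore 2 C = ⊥ := by
      set O := Cfsg.pPrimeCore 2 C with hOdef
      haveI : O.Normal := Cores.pPrimeCore_normal 2
      set O' := O.map C.subtype with hO'
      have hOodd : Odd (Nat.card O') := by
        rw [hO', Subgroup.card_map_of_injective C.subtype_injective]
        exact Nat.coprime_two_right.1 (Cores.pPrimeCore_card_coprime 2)
      have hCnorm : C ≤ Subgroup.normalizer (O' : Set G) := by
        rw [Subgroup.le_normalizer_iff]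
        rintro c hc _ ⟨o, ho, rfl⟩
        exact ⟨⟨c, hc⟩ * o * (⟨c, hc⟩ : C)⁻¹, ‹O.Normal›.conj_mem o ho _, rfl⟩
      -- `O ⊔ (H ⊓ C)` is odd, so equals `H ⊓ C`
      have hle : O' ≤ H := by
        set A := H.subgroupOf C with hA
        have hAodd : Odd (Nat.card A) :=
          hH.of_dvd_nat (Subgroup.card_comap_dvd_of_injective H C.subtype C.subtype_injective)
        have hOo : Odd (Nat.card O) := Nat.coprime_two_right.1 (Cores.pPrimeCore_card_coprime 2)
        have hDodd : Odd (Nat.card ↥(A ⊔ O)) :=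
          (hAodd.mul hOo).of_dvd_nat (Cores.card_sup_dvd_mul A O)
        have hdvd : Nat.card ↥(A ⊔ O) ∣ Nat.card A := by
          have h1 := Subgroup.card_subgroup_dvd_card (A ⊔ O)
          rw [← A.card_mul_index, show A.index = 2 ^ k from hrel] at h1
          exact ((Nat.coprime_two_right.2 hDodd).pow_right k).dvd_of_dvd_mul_right h1
        have he := Subgroup.eq_of_le_of_card_ge (le_sup_left : A ≤ A ⊔ O)
          (Nat.le_of_dvd Nat.card_pos hdvd)
        rintro _ ⟨o, ho, rfl⟩
        exact Subgroup.mem_subgroupOf.1 (he.symm ▸ Subgroup.mem_sup_right ho : o ∈ A)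
      have hcore : O' ≤ H.normalCore := by
        intro o ho g
        obtain ⟨h, hh, c, hc, rfl⟩ := hdec g
        rw [show h * c * o * (h * c)⁻¹ = h * (c * o * c⁻¹) * h⁻¹ by group]
        exact mul_mem (mul_mem hh (hle ((Subgroup.mem_normalizer_iff.1 (hCnorm hc) o).1 ho)))
          (inv_mem hh)
      rw [hHcore, hO', le_bot_iff, Subgroup.map_eq_bot_iff_of_injective _ C.subtype_injective]
        at hcore
      exact hcore
    set W := Cfsg.pCore 2 C with hW
    haveI : W.Normal := Cores.pCore_normal 2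
    have hself := PLocal.PSolvable.centralizer_pCore_le (p := 2) hO
      (PLocal.SolvableSeparable.isPSolvable_of_isSolvable 2 _)
    have hS2 : IsPGroup 2 ↥((S : Subgroup G).subgroupOf C) := S.2.comap_subtype
    have hWS : W ≤ (S : Subgroup G).subgroupOf C := by
      have h1 := Cores.pCore_le_sylow (S.subtype hSC)
      rwa [Sylow.coe_subtype] at h1
    have hSW : (S : Subgroup G).subgroupOf C = W :=
      le_antisymm (((hab.subgroup C).le_centralizer hS2 hWS).trans hself) hWS
    intro c hc
    rw [Subgroup.mem_normalizer_iff]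
    intro s
    have hin : ∀ c' ∈ C, ∀ s' ∈ (S : Subgroup G), c' * s' * c'⁻¹ ∈ (S : Subgroup G) := by
      intro c' hc' s' hs'
      have h1 : (⟨s', hSC hs'⟩ : C) ∈ W := hSW ▸ Subgroup.mem_subgroupOf.2 hs'
      have h2 := ‹W.Normal›.conj_mem _ h1 ⟨c', hc'⟩
      rw [← hSW] at h2
      exact h2
    constructor
    · exact fun hs => hin c hc s hs
    · intro hs
      have h1 := hin c⁻¹ (inv_mem hc) _ hs
      simpa [mul_assoc] using h1
  -- involutions lie in a unique Sylow subgroup
  have huniq : ∀ (t : G), orderOf t = 2 → ∀ S S' : Sylow 2 G, t ∈ (S : Subgroup G) →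
      t ∈ (S' : Subgroup G) → S = S' := by
    intro t ht S S' h1 h2
    have hle : (S' : Subgroup G) ≤ (S : Subgroup G) := by
      intro s hs
      obtain ⟨j, hj⟩ := S'.2 ⟨s, hs⟩
      exact mem_sylow_of_mem_normalizer S
        (hC t ht S h1 (Subgroup.mem_centralizer_singleton_iff.2 (hab S' S'.2 s hs t h2)))
        (k := j) (congrArg Subtype.val hj)
    exact Sylow.ext (S'.3 S.2 hle)
  -- an inverted element of odd order normalises no Sylow subgroup
  have hreal : ∀ (t y : G), orderOf t = 2 → Odd (orderOf y) → t * y * t⁻¹ = y⁻¹ →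
      ∀ S : Sylow 2 G, y ∈ Subgroup.normalizer ((S : Subgroup G) : Set G) → y = 1 := by
    intro t y ht hy hty S hyS
    by_contra hy1
    have hnoinv : ∀ u : G, orderOf u = 2 → Commute u y → False := by
      intro u₀ hu₀ hu₀y
      set Cy := Subgroup.centralizer ({y} : Set G) with hCy
      have htn : Subgroup.zpowers t ≤ Subgroup.normalizer (Cy : Set G) := by
        rw [Subgroup.zpowers_le, Subgroup.mem_normalizer_iff]
        intro c
        simp only [hCy, Subgroup.mem_centralizer_singleton_iff]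
        have e : t * y⁻¹ * t⁻¹ = y := by
          rw [← inv_inv (t * y⁻¹ * t⁻¹)]
          rw [show (t * y⁻¹ * t⁻¹)⁻¹ = t * y * t⁻¹ by group, hty, inv_inv]
        constructor
        · intro hc
          have hc' : c * y⁻¹ = y⁻¹ * c := (Commute.inv_right hc).eq
          calc t * c * t⁻¹ * y = t * (c * y⁻¹) * t⁻¹ := by
                conv_lhs => rw [← e]
                group
            _ = t * (y⁻¹ * c) * t⁻¹ := by rw [hc']
            _ = y * (t * c * t⁻¹) := by
                conv_rhs => rw [← e]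
                group
        · intro hc
          have h1 : t⁻¹ * y * t = y⁻¹ := by
            conv_lhs => rw [← e]
            group
          have h2 : Commute (t * c * t⁻¹) y := hc
          have h3 : c * y⁻¹ = y⁻¹ * c := by
            rw [← h1]
            calc c * (t⁻¹ * y * t) = t⁻¹ * ((t * c * t⁻¹) * y) * t := by group
              _ = t⁻¹ * (y * (t * c * t⁻¹)) * t := by rw [h2.eq]
              _ = t⁻¹ * y * t * c := by group
          simpa using (Commute.inv_right (show Commute c y⁻¹ from h3)).eq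
      -- a `t`-invariant Sylow subgroup of `C(y)`
      have hne : Nat.card (Subgroup.zpowers t) = 2 := by rw [Nat.card_zpowers, ht]
      set K := Cy ⊔ Subgroup.zpowers t with hK
      have hz2 : IsPGroup 2 (Subgroup.zpowers t) := IsPGroup.of_card (n := 1) (by rw [hne, pow_one])
      obtain ⟨P, hP⟩ := (IsPGroup.comap_subtype hz2 (K := K)).exists_le_sylow
      haveI hCyn : (Cy.subgroupOf K).Normal :=
        (Subgroup.normal_subgroupOf_iff_le_normalizer le_sup_left).2 (sup_le Subgroup.le_normalizer htn)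
      set P' := (P : Subgroup K).map K.subtype with hP'
      have hP'2 : IsPGroup 2 P' := P.2.map _
      have htP : t ∈ P' := ⟨⟨t, Subgroup.mem_sup_right (Subgroup.mem_zpowers t)⟩,
        hP (Subgroup.mem_subgroupOf.2 (Subgroup.mem_zpowers t)), rfl⟩
      -- `P ⊓ C(y)` is a Sylow subgroup of `C(y)`
      set u₁ : Cy.subgroupOf K := ⟨⟨u₀, Subgroup.mem_sup_left
        (Subgroup.mem_centralizer_singleton_iff.2 hu₀y.eq)⟩,
        Subgroup.mem_subgroupOf.2 (Subgroup.mem_centralizer_singleton_iff.2 hu₀y.eq)⟩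
      have hdvd : 2 ∣ Nat.card (Cy.subgroupOf K) := by
        have h1 : orderOf u₁ = 2 := by
          rw [← hu₀, ← Subgroup.orderOf_coe, ← Subgroup.orderOf_coe]
        exact h1 ▸ orderOf_dvd_natCard u₁
      obtain ⟨Q⟩ := (inferInstance : Nonempty (Sylow 2 (Cy.subgroupOf K)))
      have hQne := Q.ne_bot_of_dvd_card hdvd
      obtain ⟨g, hg⟩ : ∃ g : K, (Q : Subgroup (Cy.subgroupOf K)).map (Cy.subgroupOf K).subtype ≤
          ((g • P : Sylow 2 K) : Subgroup K) := by
        obtain ⟨P₂, hP₂⟩ := (Q.2.map (Cy.subgroupOf K).subtype).exists_le_sylow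
        obtain ⟨g, rfl⟩ := MulAction.exists_smul_eq K P P₂
        exact ⟨g, hP₂⟩
      obtain ⟨⟨q, hq⟩, hq1⟩ := Subgroup.ne_bot_iff_exists_ne_one.1 hQne
      have hq' : ((q : Cy.subgroupOf K) : K) ∈ ((g • P : Sylow 2 K) : Subgroup K) := hg ⟨q, hq, rfl⟩
      rw [Sylow.coe_subgroup_smul, Subgroup.mem_pointwise_smul_iff_inv_smul_mem] at hq'
      set w : K := (MulAut.conj g)⁻¹ • ((q : Cy.subgroupOf K) : K) with hw
      have hwC : w ∈ Cy.subgroupOf K := by
        have := hCyn.conj_mem _ (q : Cy.subgroupOf K).2 g⁻¹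
        simpa [hw, MulAut.smul_def] using this
      have hw1 : w ≠ 1 := by
        intro e
        refine hq1 (Subtype.ext (Subtype.ext ?_))
        have := congrArg (fun a => MulAut.conj g • a) e
        simpa [hw, mul_assoc] using this
      obtain ⟨j, hj⟩ := IsPGroup.iff_orderOf.1 P.2 ⟨w, hq'⟩
      rw [Subgroup.orderOf_mk] at hj
      have hj0 : j ≠ 0 := by
        rintro rfl
        rw [pow_zero, orderOf_eq_one_iff] at hj
        exact hw1 hj
      set u : G := (w : G) ^ 2 ^ (j - 1) with hu
      have hu2 : orderOf u = 2 := by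
        rw [hu, orderOf_pow' _ (by positivity), Subgroup.orderOf_coe, hj]
        obtain ⟨i, rfl⟩ := Nat.exists_eq_succ_of_ne_zero hj0
        simp only [Nat.succ_sub_one]
        rw [Nat.gcd_eq_right (pow_dvd_pow 2 (Nat.le_succ i)), pow_succ,
          Nat.mul_div_cancel_left _ (by positivity)]
      have huP : u ∈ P' := pow_mem (show (w : G) ∈ P' from ⟨w, hq', rfl⟩) _
      have huy : u ∈ Cy := pow_mem (Subgroup.mem_subgroupOf.1 hwC) _
      obtain ⟨S₁, hS₁⟩ := hP'2.exists_le_sylow
      have hle := hC u hu2 S₁ (hS₁ huP)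
      have hyS₁ : y ∈ Subgroup.normalizer ((S₁ : Subgroup G) : Set G) :=
        hle (Subgroup.mem_centralizer_singleton_iff.2
          (Subgroup.mem_centralizer_singleton_iff.1 huy).symm)
      have h1 : y * t * y⁻¹ ∈ (S₁ : Subgroup G) :=
        (Subgroup.mem_normalizer_iff.1 hyS₁ t).1 (hS₁ htP)
      have h2 : y ^ 2 ∈ (S₁ : Subgroup G) := by
        have h3 := mul_mem h1 (inv_mem (hS₁ htP))
        rwa [show y * t * y⁻¹ * t⁻¹ = y * (t * y⁻¹ * t⁻¹) by group,
          show t * y⁻¹ * t⁻¹ = y by
            rw [show t * y⁻¹ * t⁻¹ = (t * y * t⁻¹)⁻¹ by group, hty, inv_inv], ← pow_two] at h3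
      obtain ⟨i, hi⟩ := IsPGroup.iff_orderOf.1 S₁.2 ⟨_, h2⟩
      rw [Subgroup.orderOf_mk, (Nat.coprime_two_right.2 hy).orderOf_pow] at hi
      rcases Nat.eq_zero_or_pos i with hi0 | hi0
      · rw [hi0, pow_zero, orderOf_eq_one_iff] at hi; exact hy1 hi
      · rw [hi] at hy
        exact (Nat.not_odd_iff_even.2 ((Nat.even_pow).2 ⟨even_two, hi0.ne'⟩)) hy
    -- `y` has a unique fixed point among the cosets of `H`
    have hyn : Subgroup.zpowers y ≤ Subgroup.normalizer ((S : Subgroup G) : Set G) :=
      Subgroup.zpowers_le.2 hyS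
    obtain ⟨j, hj⟩ := S.2.exists_card_eq
    have hcop : (Nat.card (Subgroup.zpowers y)).Coprime (Nat.card (S : Subgroup G)) := by
      rw [Nat.card_zpowers, hj]
      exact Nat.Coprime.pow_right _ (Nat.coprime_two_right.2 hy)
    have hsolv : Group.IsSolvable (Subgroup.zpowers y) ∨ Group.IsSolvable (S : Subgroup G) :=
      Or.inl inferInstance
    have htrans : ∀ a b : G ⧸ H, ∃ s ∈ (S : Subgroup G), s • a = b := by
      intro a b
      induction a using QuotientGroup.induction_on with
      | _ a =>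
      induction b using QuotientGroup.induction_on with
      | _ b =>
      obtain ⟨⟨⟨h1, hh1⟩, ⟨s1, hs1⟩⟩, e1⟩ := (hmul S).2 a⁻¹
      obtain ⟨⟨⟨h2, hh2⟩, ⟨s2, hs2⟩⟩, e2⟩ := (hmul S).2 b⁻¹
      simp only at e1 e2
      refine ⟨s2⁻¹ * s1, mul_mem (inv_mem hs2) hs1, ?_⟩
      show ((s2⁻¹ * s1 * a : G) : G ⧸ H) = (b : G ⧸ H)
      rw [QuotientGroup.eq, ← inv_inv a, ← inv_inv b, ← e1, ← e2]
      simpa [mul_assoc] using mul_mem hh1 (inv_mem hh2)
    obtain ⟨p₀, hp₀⟩ := Coprime.exists_fixedPoint (X := G ⧸ H) hyn hcop hsolv htrans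
    have hfix : ∀ a ∈ Subgroup.zpowers y, a • (t • p₀) = t • p₀ := by
      intro a ha
      obtain ⟨i, rfl⟩ := Subgroup.mem_zpowers_iff.1 ha
      have e : t⁻¹ * y ^ i * t = y ^ (-i) := by
        have h1 : t⁻¹ * y * t = y⁻¹ := by
          rw [Involutions.Basic.inv_eq ht]
          rwa [Involutions.Basic.inv_eq ht] at hty
        calc t⁻¹ * y ^ i * t = (MulAut.conj t⁻¹) (y ^ i) := by simp [mul_assoc]
          _ = ((MulAut.conj t⁻¹) y) ^ i := map_zpow _ _ _
          _ = _ := by rw [show (MulAut.conj t⁻¹) y = y⁻¹ by simpa [mul_assoc] using h1, inv_zpow']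
      calc y ^ i • t • p₀ = t • (t⁻¹ * y ^ i * t) • p₀ := by simp [← mul_smul, mul_assoc]
        _ = t • p₀ := by rw [hp₀ _ (by rw [e]; exact Subgroup.zpow_mem_zpowers _ _)]
    obtain ⟨s, hs, hsp⟩ := htrans p₀ (t • p₀)
    obtain ⟨c, hc, hcp⟩ := Coprime.exists_centralizer_smul_eq hyn hcop hsolv hp₀ hfix hs hsp
    have hc1 : c = 1 := by
      by_contra hc1
      obtain ⟨i, hi⟩ := IsPGroup.iff_orderOf.1 S.2 ⟨c, hc.1⟩
      rw [Subgroup.orderOf_mk] at hi
      have hi0 : i ≠ 0 := by
        rintro rfl
        rw [pow_zero, orderOf_eq_one_iff] at hi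
        exact hc1 hi
      refine hnoinv (c ^ 2 ^ (i - 1)) ?_ ?_
      · obtain ⟨m, rfl⟩ := Nat.exists_eq_succ_of_ne_zero hi0
        rw [orderOf_pow' _ (by positivity), hi, Nat.succ_sub_one,
          Nat.gcd_eq_right (pow_dvd_pow 2 (Nat.le_succ m)), pow_succ,
          Nat.mul_div_cancel_left _ (by positivity)]
      · exact (show Commute c y from
          (Subgroup.mem_centralizer_iff.1 hc.2 y (Subgroup.mem_zpowers y)).symm).pow_left _
    rw [hc1, one_smul] at hcp
    -- an involution fixes a coset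
    induction p₀ using QuotientGroup.induction_on with
    | _ g =>
    have h1 : g⁻¹ * t * g ∈ H := by
      have h2 : ((g : G) : G ⧸ H) = ((t * g : G) : G ⧸ H) := hcp
      rw [QuotientGroup.eq] at h2
      simpa [mul_assoc] using h2
    have h3 : orderOf (⟨_, h1⟩ : H) = 2 := by
      rw [Subgroup.orderOf_mk, ← ht]
      simpa using Involutions.Basic.orderOf_conj g⁻¹ t
    exact Nat.not_even_iff_odd.2 hH (even_iff_two_dvd.2 (h3 ▸ orderOf_dvd_natCard _))
  -- count
  obtain ⟨S⟩ := (inferInstance : Nonempty (Sylow 2 G))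
  have hstab : ∀ g : G, g • S = S → g ∈ Subgroup.normalizer ((S : Subgroup G) : Set G) :=
    fun g hg => Sylow.smul_eq_iff_mem_normalizer.1 hg
  have hinj : ∀ t t' : G, orderOf t = 2 → orderOf t' = 2 → t ∉ (S : Subgroup G) →
      t • S = t' • S → t = t' := by
    intro t t' ht ht' htS he
    set d := t * t' with hd
    have hdS : d • S = S := by
      rw [hd, mul_smul, ← he, ← mul_smul, Involutions.Basic.inv_sq_one ht, one_smul]
    have htd : t * d * t⁻¹ = d⁻¹ := Involutions.Basic.conj_prod_left ht ht'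
    rcases Nat.even_or_odd (orderOf d) with hev | hodd
    · exfalso
      obtain ⟨m, hm⟩ := hev
      have hm' : orderOf d = 2 * m := by omega
      have hu : orderOf (d ^ m) = 2 := by
        have := orderOf_pos d
        rw [orderOf_pow' _ (by omega), hm', Nat.gcd_eq_right (Dvd.intro_left 2 rfl),
          Nat.mul_div_cancel _ (by omega)]
      have huS : d ^ m ∈ (S : Subgroup G) :=
        mem_sylow_of_mem_normalizer S (pow_mem (hstab d hdS) m) (k := 1)
          (by rw [pow_one, ← hu, pow_orderOf_eq_one])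
      have hut : t * d ^ m * t⁻¹ = d ^ m := by
        rw [← conj_pow, htd, inv_pow, Involutions.Basic.inv_eq hu]
      have h1 : d ^ m ∈ ((t • S : Sylow 2 G) : Subgroup G) := by
        rw [Sylow.coe_subgroup_smul, Subgroup.mem_pointwise_smul_iff_inv_smul_mem, MulAut.smul_def]
        have h2 : (MulAut.conj t)⁻¹ (d ^ m) = d ^ m := by
          rw [MulAut.inv_def, MulEquiv.symm_apply_eq]
          exact hut.symm
        rw [h2]
        exact huS
      exact htS (mem_sylow_of_mem_normalizer S (hstab t (huniq _ hu S _ huS h1).symm) (k := 1)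
        (by rw [pow_one, ← ht, pow_orderOf_eq_one]))
    · have := hreal t d ht hodd htd S (hstab d hdS)
      rw [hd, mul_eq_one_iff_eq_inv, Involutions.Basic.inv_eq ht'] at this
      exact this
  have heven : ¬ Odd (Nat.card G) := fun h => hnsol (Cfsg.Agent.S0205.result h)
  obtain ⟨t₀, ht₀⟩ := exists_involution_of_even heven
  have hS1 : (S : Subgroup G) ≠ ⊥ :=
    S.ne_bot_of_dvd_card (ht₀ ▸ orderOf_dvd_natCard t₀)
  by_cases hone : ∀ a b : (S : Subgroup G), orderOf a = 2 → orderOf b = 2 → a = b
  · letI : CommGroup (S : Subgroup G) :=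
      { mul_comm := fun a b => Subtype.ext (hab S S.2 a a.2 b b.2) }
    have hcyc : IsCyclic (S : Subgroup G) := isCyclic_of_unique_involution S.2 hone
    have hmin : (Nat.card G).minFac = 2 :=
      (Nat.minFac_eq_two_iff _).mpr (even_iff_two_dvd.1 (Nat.not_odd_iff_even.1 heven))
    have hcompl := IsCyclic.isComplement' hmin hcyc
    rcases IsSimpleGroup.eq_bot_or_eq_top_of_normal
      (MonoidHom.transferSylow S (hcyc.normalizer_le_centralizer hmin)).ker inferInstance
      with h | h
    · rw [h] at hcompl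
      have := Subgroup.isComplement'_bot_left.1 hcompl
      refine hnsol ?_
      exact Coprime.isSolvable_of_isPGroup
        ((this ▸ S.2 : IsPGroup 2 (⊤ : Subgroup G)).of_equiv Subgroup.topEquiv)
    · rw [h] at hcompl
      exact hS1 (Subgroup.isComplement'_top_left.1 hcompl)
  · push Not at hone
    obtain ⟨⟨u, huS⟩, ⟨v, hvS⟩, hu, hv, huv⟩ := hone
    rw [Subgroup.orderOf_mk] at hu hv
    have huv' : u ≠ v := fun e => huv (Subtype.ext e)
    haveI : Finite (Sylow 2 G) := inferInstance
    let Others := {S' : Sylow 2 G // S' ≠ S}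
    let g : Others → G := fun S' => (MulAction.exists_smul_eq G S S'.1).choose
    have hg : ∀ S' : Others, g S' • S = S'.1 :=
      fun S' => (MulAction.exists_smul_eq G S S'.1).choose_spec
    have hmem : ∀ (S' : Others) (a : G), a ∈ (S : Subgroup G) →
        g S' * a * (g S')⁻¹ ∈ (S'.1 : Subgroup G) := by
      intro S' a ha
      rw [← hg S', Sylow.coe_subgroup_smul]
      exact Coprime.conj_mem_conj_smul ha
    let inv : Others × Bool → G := fun p => g p.1 * (cond p.2 u v) * (g p.1)⁻¹
    have hbinv : ∀ b : Bool, orderOf (cond b u v) = 2 := fun b => by cases b <;> assumption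
    have hbS : ∀ b : Bool, cond b u v ∈ (S : Subgroup G) := fun b => by cases b <;> assumption
    have hord : ∀ p, orderOf (inv p) = 2 := fun p => by
      rw [Involutions.Basic.orderOf_conj]; exact hbinv _
    have hout : ∀ p, inv p ∉ (S : Subgroup G) := fun p h =>
      p.1.2 (huniq _ (hord p) S p.1.1 h (hmem p.1 _ (hbS _))).symm
    have hinvinj : Function.Injective inv := by
      rintro ⟨S₁, b₁⟩ ⟨S₂, b₂⟩ e
      have hS : S₁ = S₂ := Subtype.ext (huniq _ (hord (S₁, b₁)) _ _ (hmem S₁ _ (hbS _))
        (by rw [e]; exact hmem S₂ _ (hbS _)))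
      subst hS
      have : cond b₁ u v = cond b₂ u v := mul_left_cancel (mul_right_cancel e)
      cases b₁ <;> cases b₂ <;> simp_all
    let f : Others × Bool → Others := fun p => ⟨inv p • S, fun e => hout p
      (mem_sylow_of_mem_normalizer S (hstab _ e) (k := 1)
        (by rw [pow_one, ← hord p, pow_orderOf_eq_one]))⟩
    have hf : Function.Injective f := fun p q e => hinvinj
      (hinj _ _ (hord p) (hord q) (hout p) (congrArg Subtype.val e))
    have hcard := Nat.card_le_card_of_injective f hf
    have h2 : Nat.card Bool = 2 := by simp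
    rw [Nat.card_prod, h2] at hcard
    have hzero : Nat.card Others = 0 := by omega
    haveI : Subsingleton (Sylow 2 G) := ⟨fun A B => by
      have hA : ∀ A : Sylow 2 G, A = S := fun A => by
        by_contra hne
        haveI : Nonempty Others := ⟨⟨A, hne⟩⟩
        exact (Nat.card_pos (α := Others)).ne' hzero
      rw [hA A, hA B]⟩
    have hSn : (S : Subgroup G).Normal := Sylow.normal_of_subsingleton S
    haveI : Group.IsSolvable (S : Subgroup G) := Coprime.isSolvable_of_isPGroup S.2
    exact hS1 (hnorm _ hSn inferInstance)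

theorem aux : ∀ (n : ℕ) (G : Type u) [Group G] [Finite G], Nat.card G < n → PAbelian 2 G →
    ∀ H : Subgroup G, Odd (Nat.card H) → (∃ k, H.index = 2 ^ k) → Group.IsSolvable G := by
  intro n
  induction n with
  | zero => intro G _ _ h; omega
  | succ n ih =>
    intro G _ _ hn hab H hH hidx
    haveI : Fact (Nat.Prime 2) := ⟨Nat.prime_two⟩
    by_contra hnsol
    haveI : Nontrivial G := not_subsingleton_iff_nontrivial.1 fun h => hnsol inferInstance
    obtain ⟨k, hk⟩ := hidx
    have hsub : ∀ C : Subgroup G, C ≠ ⊤ → (∃ i, H.relIndex C = 2 ^ i) → Group.IsSolvable C := by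
      intro C hC hi
      refine ih C ?_ (hab.subgroup C) (H.subgroupOf C) ?_ hi
      · have := Cfsg.Agent.ASolv.OddComplement.card_lt hC
        omega
      · exact hH.of_dvd_nat (Subgroup.card_comap_dvd_of_injective H C.subtype C.subtype_injective)
    by_cases hs : IsSimpleGroup G
    · exact simple_case hnsol hab H hH ⟨k, hk⟩ hsub
    obtain ⟨N, hN, hN0, hN1⟩ : ∃ N : Subgroup G, N.Normal ∧ N ≠ ⊥ ∧ N ≠ ⊤ := by
      by_contra hc
      push Not at hc
      exact hs ⟨fun H' hH' => or_iff_not_imp_left.mpr (hc H' hH')⟩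
    haveI := hN
    obtain ⟨i, -, hi⟩ := (Nat.dvd_prime_pow Nat.prime_two).mp
      (hk ▸ Cfsg.Agent.Cores.relIndex_dvd_index_right_normal H N)
    have h1 := hsub N hN1 ⟨i, hi⟩
    refine hnsol (Cfsg.Agent.Solvable.HallOrder.isSolvable_of_quotient h1
      (ih (G ⧸ N) ?_ (hab.quotient N) (H.map (QuotientGroup.mk' N))
        (hH.of_dvd_nat (Subgroup.card_map_dvd (f := QuotientGroup.mk' N) H)) ?_))
    · rw [← Subgroup.index_eq_card]
      have := N.card_mul_index
      have := (Subgroup.one_lt_card_iff_ne_bot N).2 hN0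
      have : 0 < N.index := Nat.pos_of_ne_zero Subgroup.index_ne_zero_of_finite
      nlinarith
    · obtain ⟨j, -, hj⟩ := (Nat.dvd_prime_pow Nat.prime_two).mp
        (hk ▸ H.index_map_dvd (QuotientGroup.mk'_surjective N))
      exact ⟨j, hj⟩

/-- A finite group with abelian Sylow 2-subgroups and a subgroup of odd order and 2-power index is
solvable. -/
theorem isSolvable_of_odd_two_power_index [Finite G] (hab : PAbelian 2 G) (H : Subgroup G)
    (hH : Odd (Nat.card H)) (hidx : ∃ k, H.index = 2 ^ k) : Group.IsSolvable G :=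
  aux _ G (Nat.lt_succ_self _) hab H hH hidx

end Cfsg.Agent.ASolv.OddComplement
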