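import Mathlib
import Cfsg.Agent.ASolv.OddComplement
import Cfsg.Agent.SimpleFacts.SLTwoMultiplier
import Cfsg.Agent.SolvStruct.Kazarin
import Cfsg.Agent.Lib.Involutions.BaerSuzuki
import Cfsg.Agent.Lib.Coprime.Commutator
import Cfsg.Agent.Lib.Fusion.Elementwise

/-!
# A-groups: if `x` has a class of 2-power size and `C(x)` is not solvable, some element has a class
with larger 2-part

`x` an `r`-element, `J ≤ C(x)` perfect mapping onto a simple group `T` with a real element of order
`r`.  Modulo `M = O_{r'}(⟨x^G⟩)` the element `x` lies in `Q = O_r`, and for `z ∈ J` a suitable real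
lift, `Q` meets the derived group of its centraliser trivially, so `C(x z) = C(x) ∩ C(z)` there.
-/

set_option autoImplicit false
set_option maxHeartbeats 1000000

namespace Cfsg.Agent.ASolv.MaxTwoPart

open Cfsg.Agent.ASolv.OddComplement
open scoped commutatorElement

universe u v

variable {G : Type u} [Group G]

/-- The 2-part exponent. -/
noncomputable def v2 (H : Subgroup G) : ℕ := (Nat.card H).factorization 2

theorem isPGroup_zpowers {p k : ℕ} {g : G} (hk : g ^ p ^ k = 1) : IsPGroup p (Subgroup.zpowers g) :=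
  fun ⟨a, ha⟩ => ⟨k, Subtype.ext (by
    obtain ⟨i, rfl⟩ := Subgroup.mem_zpowers_iff.1 ha
    show (g ^ i) ^ p ^ k = 1
    rw [← zpow_natCast (g ^ i), ← zpow_mul, mul_comm, zpow_mul, zpow_natCast, hk, one_zpow])⟩

/-- In a group with abelian `p`-subgroups a `p`-element centralises every normal `p`-subgroup. -/
theorem mem_centralizer_normal {p k : ℕ} (hab : PAbelian p G) {W : Subgroup G} [W.Normal]
    (hW : IsPGroup p W) {g : G} (hk : g ^ p ^ k = 1) : g ∈ Subgroup.centralizer (W : Set G) := by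
  rw [Subgroup.mem_centralizer_iff]
  exact fun w hw => hab _ ((isPGroup_zpowers hk).to_sup_of_normal_right hW) w
    (Subgroup.mem_sup_right hw) g (Subgroup.mem_sup_left (Subgroup.mem_zpowers g))

/-- In a soluble group with trivial `O_{p'}` and abelian `p`-subgroups, `O_p` contains all `p`-elements. -/
theorem mem_pCore [Finite G] {p k : ℕ} [Fact p.Prime] [Group.IsSolvable G] (hab : PAbelian p G)
    (hO : Cfsg.pPrimeCore p G = ⊥) {g : G} (hk : g ^ p ^ k = 1) : g ∈ Cfsg.pCore p G := by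
  haveI : (Cfsg.pCore p G).Normal := Cores.pCore_normal p
  exact PLocal.PSolvable.centralizer_pCore_le hO
    (PLocal.SolvableSeparable.isPSolvable_of_isSolvable p _)
    (mem_centralizer_normal hab (Cores.pCore_isPGroup p) hk)

/-- The `p'`-core of a normal subgroup, as a subgroup of the whole group. -/
def relCore (p : ℕ) (N : Subgroup G) : Subgroup G := (Cfsg.pPrimeCore p N).map N.subtype

theorem relCore_normal (p : ℕ) (N : Subgroup G) [N.Normal] : (relCore p N).Normal :=
  Cores.normal_map_subtype N _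

theorem relCore_le (p : ℕ) (N : Subgroup G) : relCore p N ≤ N := Subgroup.map_subtype_le _

theorem relCore_coprime [Finite G] (p : ℕ) (N : Subgroup G) : (Nat.card (relCore p N)).Coprime p := by
  rw [relCore, Subgroup.card_map_of_injective N.subtype_injective]
  exact Cores.pPrimeCore_card_coprime p

/-- The image of `N` modulo `O_{p'}(N)` has trivial `p'`-core. -/
theorem core_image_eq_bot [Finite G] (p : ℕ) (N : Subgroup G) [N.Normal] [(relCore p N).Normal] :
    Cfsg.pPrimeCore p ↥(N.map (QuotientGroup.mk' (relCore p N))) = ⊥ := by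
  set q := QuotientGroup.mk' (relCore p N) with hq
  haveI : (N.map q).Normal := ‹N.Normal›.map q (QuotientGroup.mk'_surjective _)
  set B := relCore p (N.map q) with hB
  haveI : B.Normal := relCore_normal p _
  set T := B.comap q with hT
  haveI : T.Normal := inferInstance
  have hTN : T ≤ N := by
    intro g hg
    obtain ⟨n, hn, he⟩ := relCore_le p (N.map q) hg
    have h1 : n⁻¹ * g ∈ relCore p N := by
      rw [← QuotientGroup.ker_mk' (relCore p N), MonoidHom.mem_ker, map_mul, map_inv, ← hq, he,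
        inv_mul_cancel]
    simpa using mul_mem hn (relCore_le p N h1)
  haveI : (T.subgroupOf N).Normal := ‹T.Normal›.subgroupOf N
  have h2 : T.subgroupOf N ≤ Cfsg.pPrimeCore p N := by
    refine Cores.le_pPrimeCore ?_
    rw [Nat.card_congr (Subgroup.subgroupOfEquivOfLe hTN).toEquiv, hT, Cores.card_comap_mk']
    exact (relCore_coprime p N).mul_left (relCore_coprime p _)
  have hB1 : B = ⊥ := by
    rw [eq_bot_iff]
    intro b hb
    obtain ⟨g, rfl⟩ := QuotientGroup.mk'_surjective (relCore p N) b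
    rw [Subgroup.mem_bot, ← MonoidHom.mem_ker, QuotientGroup.ker_mk']
    exact ⟨⟨g, hTN hb⟩, h2 (Subgroup.mem_subgroupOf.2 hb), rfl⟩
  change (Cfsg.pPrimeCore p ↥(N.map q)).map (N.map q).subtype = ⊥ at hB1
  rwa [Subgroup.map_eq_bot_iff_of_injective _ (N.map q).subtype_injective] at hB1

/-- Fixed points modulo a normal subgroup of coprime order. -/
theorem map_centralizer [Finite G] (N : Subgroup G) [N.Normal] {g : G}
    (hcop : (orderOf g).Coprime (Nat.card N)) :
    (Subgroup.centralizer ({g} : Set G)).map (QuotientGroup.mk' N) =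
      Subgroup.centralizer ({QuotientGroup.mk' N g} : Set (G ⧸ N)) := by
  refine le_antisymm ?_ ?_
  · rintro _ ⟨c, hc, rfl⟩
    rw [Subgroup.mem_centralizer_singleton_iff, ← map_mul, ← map_mul,
      Subgroup.mem_centralizer_singleton_iff.1 hc]
  · intro b hb
    obtain ⟨k, rfl⟩ := QuotientGroup.mk'_surjective N b
    have hcomm : Commute (QuotientGroup.mk' N k) (QuotientGroup.mk' N g) :=
      Subgroup.mem_centralizer_singleton_iff.1 hb
    obtain ⟨n, hn, hc⟩ := Coprime.exists_fixed_in_coset (A := Subgroup.zpowers g) (N := N)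
      Subgroup.le_normalizer_of_normal (by rwa [Nat.card_zpowers]) (Or.inl inferInstance) (k := k)
      (fun a ha => by
        obtain ⟨i, rfl⟩ := Subgroup.mem_zpowers_iff.1 ha
        rw [← QuotientGroup.ker_mk' N, MonoidHom.mem_ker]
        simp only [map_mul, map_inv, map_zpow]
        rw [← (hcomm.zpow_right i).eq]
        group)
    refine ⟨k * n, Subgroup.mem_centralizer_singleton_iff.2
      ((Subgroup.mem_centralizer_iff.1 hc g (Subgroup.mem_zpowers g)).symm), ?_⟩
    rw [map_mul, show QuotientGroup.mk' N n = 1 from (QuotientGroup.eq_one_iff n).2 hn, mul_one]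

theorem v2_map [Finite G] (N : Subgroup G) [N.Normal] (H : Subgroup G) :
    v2 H = v2 (H.map (QuotientGroup.mk' N)) + v2 (H ⊓ N) := by
  set q := QuotientGroup.mk' N
  have hc : (H.map q).comap q = H ⊔ N := by
    rw [Subgroup.comap_map_eq, QuotientGroup.ker_mk']
  have h1 := Cores.card_comap_mk' N (H.map q)
  rw [hc] at h1
  have h2 := Cores.card_sup_mul_card_inf H N
  rw [h1] at h2
  have h3 : Nat.card (H.map q) * Nat.card ↥(H ⊓ N) = Nat.card H := by
    refine Nat.eq_of_mul_eq_mul_left (Nat.card_pos : 0 < Nat.card N) ?_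
    rw [← mul_assoc, h2, mul_comm]
  simp only [v2]
  rw [← h3, Nat.factorization_mul Nat.card_pos.ne' Nat.card_pos.ne', Finsupp.add_apply]

/-- A central element of a derived group, of `r`-power order with abelian `r`-subgroups, is trivial. -/
theorem eq_one_of_center_commutator [Finite G] {r k : ℕ} [Fact r.Prime] (hab : PAbelian r G) {z : G}
    (hc : z ∈ Subgroup.center G) (hd : z ∈ commutator G) (hk : z ^ r ^ k = 1) : z = 1 := by
  obtain ⟨P, hP⟩ := (isPGroup_zpowers hk).exists_le_sylow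
  have h := SimpleFacts.SLTwoMultiplier.mem_commutator_sylow P hc hd (hP (Subgroup.mem_zpowers z))
  have hbot : commutator (P : Subgroup G) = ⊥ := by
    rw [commutator_def, Subgroup.commutator_eq_bot_iff_le_centralizer]
    intro a _
    rw [Subgroup.mem_centralizer_iff]
    intro b _
    exact Subtype.ext (hab _ P.2 b.1 b.2 a.1 a.2)
  rw [hbot, Subgroup.mem_bot] at h
  exact congrArg Subtype.val h

/-- A perfect subgroup centralises the normal 2-subgroups. -/
theorem perfect_le_centralizer [Finite G] (hab : PAbelian 2 G) (W : Subgroup G) [W.Normal]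
    (hW : IsPGroup 2 W) (J : Subgroup G) (hJ : ⁅J, J⁆ = J) :
    J ≤ Subgroup.centralizer (W : Set G) := by
  haveI : Fact (Nat.Prime 2) := ⟨Nat.prime_two⟩
  set ψ : G →* MulAut W := MulAut.conjNormal with hψ
  haveI : Finite (MulAut W) := Finite.of_injective (fun e : MulAut W => (e : W → W)) DFunLike.coe_injective
  have hodd : Odd (Nat.card (J.map ψ)) := by
    rw [← Nat.not_even_iff_odd]
    intro hev
    obtain ⟨⟨e, j, hj, he⟩, he2⟩ := exists_prime_orderOf_dvd_card' 2 (even_iff_two_dvd.1 hev)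
    rw [← Subgroup.orderOf_coe] at he2
    change orderOf e = 2 at he2
    obtain ⟨a, m, hm, ham⟩ := Nat.exists_eq_two_pow_mul_odd (orderOf_pos j).ne'
    have hg : (j ^ m) ^ 2 ^ a = 1 := by
      rw [← pow_mul, mul_comm, ← ham, pow_orderOf_eq_one]
    have h1 : ψ (j ^ m) = 1 := by
      ext w
      have h2 := Subgroup.mem_centralizer_iff.1 (mem_centralizer_normal hab hW hg) w w.2
      simp only [hψ, MulAut.conjNormal_apply, MulAut.one_apply]
      rw [← h2, mul_inv_cancel_right]
    rw [map_pow, he] at h1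
    have h3 := orderOf_dvd_of_pow_eq_one h1
    rw [he2] at h3
    exact Nat.not_even_iff_odd.2 hm (even_iff_two_dvd.2 h3)
  haveI := Cfsg.Agent.S0205.result hodd
  have hperf : ⁅J.map ψ, J.map ψ⁆ = J.map ψ := by rw [← Subgroup.map_commutator, hJ]
  have hbot : J.map ψ = ⊥ := by
    by_contra hne
    exact (Coprime.commutator_lt_of_isSolvable (‹Group.IsSolvable (J.map ψ)›) hne).ne hperf
  intro j hj
  have h1 : ψ j = 1 := by
    rw [← Subgroup.mem_bot, ← hbot]
    exact ⟨j, hj, rfl⟩
  rw [Subgroup.mem_centralizer_iff]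
  intro w hw
  have h2 : (ψ j ⟨w, hw⟩ : G) = w := by rw [h1]; rfl
  rw [hψ, MulAut.conjNormal_apply] at h2
  calc w * j = j * w * j⁻¹ * j := by rw [h2]
    _ = j * w := by group

/-- An element inverted by an element of the centraliser: the centraliser of both has smaller 2-part. -/
theorem v2_inter_lt [Finite G] {x z t : G} (ht : t * x = x * t) (hz : t * z * t⁻¹ = z⁻¹)
    (hne : z⁻¹ ≠ z) :
    v2 (Subgroup.centralizer ({x} : Set G) ⊓ Subgroup.centralizer ({z} : Set G)) <
      v2 (Subgroup.centralizer ({x} : Set G)) := by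
  set C := Subgroup.centralizer ({x} : Set G) with hC
  set D := C ⊓ Subgroup.centralizer ({z} : Set G) with hD
  let F : Subgroup G :=
    { carrier := {c | c ∈ C ∧ (c * z * c⁻¹ = z ∨ c * z * c⁻¹ = z⁻¹)}
      one_mem' := ⟨one_mem _, Or.inl (by simp)⟩
      mul_mem' := by
        rintro a b ⟨ha, ha'⟩ ⟨hb, hb'⟩
        refine ⟨mul_mem ha hb, ?_⟩
        have e : a * b * z * (a * b)⁻¹ = a * (b * z * b⁻¹) * a⁻¹ := by group
        rw [e]
        rcases hb' with h | h <;> rw [h]
        · exact ha'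
        · rw [← conj_inv]
          rcases ha' with h' | h' <;> rw [h'] <;> simp
      inv_mem' := by
        rintro a ⟨ha, ha'⟩
        refine ⟨inv_mem ha, ?_⟩
        rcases ha' with h | h
        · left
          conv_lhs => rw [← h]
          group
        · right
          have h2 : a * z⁻¹ * a⁻¹ = z := by rw [← conj_inv, h, inv_inv]
          calc a⁻¹ * z * a⁻¹⁻¹ = a⁻¹ * (a * z⁻¹ * a⁻¹) * a := by rw [h2, inv_inv]
            _ = z⁻¹ := by group }
  have hmemD : ∀ b, b ∈ D ↔ b ∈ C ∧ b * z * b⁻¹ = z := fun b => by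
    rw [hD, Subgroup.mem_inf, mul_inv_eq_iff_eq_mul, ← Subgroup.mem_centralizer_singleton_iff]
  have hDF : D ≤ F := fun b hb => ⟨((hmemD b).1 hb).1, Or.inl ((hmemD b).1 hb).2⟩
  have htC : t ∈ C := Subgroup.mem_centralizer_singleton_iff.2 ht
  have htF : t ∈ F := ⟨htC, Or.inr hz⟩
  have hrel : D.relIndex F = 2 := by
    rw [Subgroup.relIndex_eq_two_iff_exists_notMem_and]
    refine ⟨t, htF, fun h => hne (hz ▸ ((hmemD t).1 h).2), ?_⟩
    rintro b ⟨hb, hb'⟩
    rcases hb' with h | h
    · exact Or.inr ((hmemD b).2 ⟨hb, h⟩)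
    · refine Or.inl ((hmemD _).2 ⟨mul_mem hb htC, ?_⟩)
      rw [show b * t * z * (b * t)⁻¹ = b * (t * z * t⁻¹) * b⁻¹ by group, hz, ← conj_inv, h, inv_inv]
  have hcard : Nat.card D * 2 = Nat.card F := by
    rw [← hrel, ← Subgroup.relIndex_bot_left, ← Subgroup.relIndex_bot_left,
      Subgroup.relIndex_mul_relIndex ⊥ D F bot_le hDF]
  have hdvd : Nat.card D * 2 ∣ Nat.card C := hcard ▸ Subgroup.card_dvd_of_le fun b hb => hb.1
  have h1 := (Nat.factorization_le_iff_dvd (mul_ne_zero Nat.card_pos.ne' two_ne_zero)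
    Nat.card_pos.ne').2 hdvd 2
  rw [Nat.factorization_mul Nat.card_pos.ne' two_ne_zero, Finsupp.add_apply,
    Nat.prime_two.factorization_self] at h1
  simp only [v2]
  omega

/-- The lifted real element. -/
theorem exists_real_lift {J : Type u} [Group J] [Finite J] {T : Type v} [Group T] [Finite T]
    {r : ℕ} [Fact r.Prime] (hr2 : r ≠ 2) (hab : PAbelian r J) (g : J →* T)
    (hg : Function.Surjective g) {y s : T} (hy : orderOf y = r) (hs : s * y * s⁻¹ = y⁻¹) :
    ∃ p t : J, ⁅p, t⁆ ≠ 1 ∧ g ⁅p, t⁆ ≠ 1 ∧ (∃ k, ⁅p, t⁆ ^ r ^ k = 1) ∧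
      t * ⁅p, t⁆ * t⁻¹ = ⁅p, t⁆⁻¹ := by
  have hr : r.Prime := Fact.out
  set Y := Subgroup.zpowers y with hY
  set D := Y.comap g with hD
  set E := (Subgroup.normalizer (Y : Set T)).comap g with hE
  have hDE : D ≤ E := Subgroup.comap_mono Subgroup.le_normalizer
  haveI : (D.subgroupOf E).Normal := by
    rw [Subgroup.normal_subgroupOf_iff_le_normalizer hDE]
    exact Subgroup.le_normalizer_comap g
  obtain ⟨P₀⟩ := (inferInstance : Nonempty (Sylow r ↥(D.subgroupOf E)))
  set P : Subgroup E := (P₀ : Subgroup ↥(D.subgroupOf E)).map (D.subgroupOf E).subtype with hP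
  have hPr : IsPGroup r P := P₀.2.map _
  have hsE : s ∈ Subgroup.normalizer (Y : Set T) := by
    rw [Subgroup.mem_normalizer_iff]
    intro b
    rw [hY, Subgroup.mem_zpowers_iff, Subgroup.mem_zpowers_iff]
    constructor
    · rintro ⟨i, rfl⟩
      exact ⟨-i, by rw [← conj_zpow, hs, inv_zpow']⟩
    · rintro ⟨i, hi⟩
      refine ⟨-i, ?_⟩
      have h1 : (s * y ^ (-i) * s⁻¹) = s * b * s⁻¹ := by
        rw [← conj_zpow, hs, inv_zpow', neg_neg, hi]
      exact mul_left_cancel (mul_right_cancel h1)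
  obtain ⟨s₀, rfl⟩ := hg s
  -- Frattini argument
  have hfr := Sylow.normalizer_sup_eq_top P₀
  obtain ⟨a, ha, d, hd, had⟩ := Subgroup.mem_sup_of_normal_right.1
    (hfr ▸ Subgroup.mem_top (⟨s₀, hsE⟩ : E) :
      (⟨s₀, hsE⟩ : E) ∈ Subgroup.normalizer (P : Set E) ⊔ D.subgroupOf E)
  have hga : g (a : J) * y * (g (a : J))⁻¹ = y⁻¹ := by
    obtain ⟨i, hi⟩ := Subgroup.mem_zpowers_iff.1
      (show g ((d : E) : J) ∈ Subgroup.zpowers y from hd)
    have h1 : g s₀ = g (a : J) * y ^ i := by
      rw [hi, ← map_mul]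
      exact congrArg (fun w : E => g (w : J)) had.symm
    rw [h1] at hs
    calc g (a : J) * y * (g (a : J))⁻¹ = g (a : J) * y ^ i * y * (g (a : J) * y ^ i)⁻¹ := by group
      _ = y⁻¹ := hs
  obtain ⟨n, m, hm, hnm⟩ := Nat.exists_eq_two_pow_mul_odd (orderOf_pos (a : J)).ne'
  set t : J := (a : J) ^ m with ht
  have ht2 : t ^ 2 ^ n = 1 := by rw [ht, ← pow_mul, mul_comm, ← hnm, pow_orderOf_eq_one]
  have hga2 : Commute ((g (a : J)) ^ 2) y := by
    show g (a : J) ^ 2 * y = y * g (a : J) ^ 2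
    have h1 : g (a : J) * y⁻¹ * (g (a : J))⁻¹ = y := by rw [← conj_inv, hga, inv_inv]
    calc g (a : J) ^ 2 * y
        = g (a : J) * (g (a : J) * y * (g (a : J))⁻¹) * g (a : J) := by rw [pow_two]; group
      _ = (g (a : J) * y⁻¹ * (g (a : J))⁻¹) * g (a : J) ^ 2 := by rw [hga, pow_two]; group
      _ = y * g (a : J) ^ 2 := by rw [h1]
  have hgt : g t * y * (g t)⁻¹ = y⁻¹ := by
    obtain ⟨i, hi⟩ := hm
    rw [ht, map_pow, hi, pow_succ', pow_mul]
    calc g (a : J) * (g (a : J) ^ 2) ^ i * y * (g (a : J) * (g (a : J) ^ 2) ^ i)⁻¹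
        = g (a : J) * ((g (a : J) ^ 2) ^ i * y) * ((g (a : J) ^ 2) ^ i)⁻¹ * (g (a : J))⁻¹ := by
          group
      _ = g (a : J) * y * (g (a : J))⁻¹ := by rw [(hga2.pow_left i).eq]; group
      _ = y⁻¹ := hga
  -- an element of `P` over `y`
  obtain ⟨j₀, hj₀⟩ := hg y
  obtain ⟨b, c, A, B, hc, hbc, hjd⟩ := Fusion.Elementwise.exists_bezout (p := r) j₀
  set j := (j₀ ^ c) ^ B with hj
  have hjr : j ^ r ^ b = 1 := by
    rw [hj, ← zpow_natCast _ (r ^ b), ← zpow_mul, mul_comm, zpow_mul, zpow_natCast, ← pow_mul,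
      mul_comm, ← hbc, pow_orderOf_eq_one, one_zpow]
  have hjy : g j = y := by
    have h1 : g ((j₀ ^ r ^ b) ^ A) = 1 := by
      have h2 : r ∣ r ^ b := by
        rcases Nat.eq_zero_or_pos b with rfl | hb
        · exfalso
          rw [pow_zero, one_mul] at hbc
          have h3 := orderOf_map_dvd g j₀
          rw [hj₀, hy, hbc] at h3
          exact hc h3
        · exact dvd_pow_self r hb.ne'
      rw [map_zpow, map_pow, hj₀, orderOf_dvd_iff_pow_eq_one.1 (hy ▸ h2), one_zpow]
    conv_rhs => rw [← hj₀, hjd, map_mul, h1, one_mul]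
  have hjD : j ∈ D := show g j ∈ Y by rw [hjy]; exact Subgroup.mem_zpowers y
  obtain ⟨P₁, hP₁⟩ := (isPGroup_zpowers (p := r) (k := b)
    (g := (⟨⟨j, hDE hjD⟩, Subgroup.mem_subgroupOf.2 hjD⟩ : D.subgroupOf E))
    (Subtype.ext (Subtype.ext (by simpa using hjr)))).exists_le_sylow
  obtain ⟨e, he⟩ := MulAction.exists_smul_eq ↥(D.subgroupOf E) P₁ P₀
  set p₁ : J := ((e : E) : J) * j * (((e : E) : J))⁻¹ with hp₁
  have hp₁P : (⟨p₁, mul_mem (mul_mem (e : E).2 (hDE hjD)) (inv_mem (e : E).2)⟩ : E) ∈ P := by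
    refine ⟨e * ⟨⟨j, hDE hjD⟩, Subgroup.mem_subgroupOf.2 hjD⟩ * e⁻¹, ?_, rfl⟩
    rw [← he, Sylow.coe_subgroup_smul]
    exact Coprime.conj_mem_conj_smul (hP₁ (Subgroup.mem_zpowers _))
  have hgp₁ : g p₁ = y := by
    obtain ⟨i, hi⟩ := Subgroup.mem_zpowers_iff.1 (show g ((e : E) : J) ∈ Subgroup.zpowers y from e.2)
    rw [hp₁, map_mul, map_mul, map_inv, ← hi, hjy]
    group
  -- work inside `J`
  set PJ := P.map E.subtype with hPJ
  have hPJr : IsPGroup r PJ := hPr.map _
  have hp₁J : p₁ ∈ PJ := ⟨_, hp₁P, rfl⟩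
  have htE : t ∈ E := pow_mem a.2 m
  have htP : t ∈ Subgroup.normalizer (PJ : Set J) := by
    have h1 : (⟨t, htE⟩ : E) ∈ Subgroup.normalizer (P : Set E) := by
      have : (⟨t, htE⟩ : E) = a ^ m := Subtype.ext (by simp [ht])
      rw [this]; exact pow_mem ha m
    exact Subgroup.le_normalizer_map E.subtype ⟨_, h1, rfl⟩
  set A₂ := Subgroup.zpowers (t ^ 2) with hA₂
  have hA₂N : A₂ ≤ Subgroup.normalizer ((PJ ⊓ g.ker : Subgroup J) : Set J) :=
    le_trans (le_inf (Subgroup.zpowers_le.2 (pow_mem htP 2)) Subgroup.le_normalizer_of_normal)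
      Subgroup.inf_normalizer_le_normalizer_inf
  have hcop : (Nat.card A₂).Coprime (Nat.card ↥(PJ ⊓ g.ker)) := by
    obtain ⟨i, hi⟩ := IsPGroup.iff_card.1 (hPJr.to_le inf_le_left : IsPGroup r ↥(PJ ⊓ g.ker))
    rw [hi, Nat.card_zpowers]
    exact (Nat.Coprime.coprime_dvd_left (orderOf_pow_dvd 2)
      (Nat.Coprime.coprime_dvd_left (orderOf_dvd_of_pow_eq_one ht2)
        (((Nat.coprime_primes Nat.prime_two hr).2 hr2.symm).pow n i)))
  have hgt2 : Commute (g t ^ 2) y := by
    show g t ^ 2 * y = y * g t ^ 2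
    have h1 : g t * y⁻¹ * (g t)⁻¹ = y := by rw [← conj_inv, hgt, inv_inv]
    calc g t ^ 2 * y = g t * (g t * y * (g t)⁻¹) * g t := by rw [pow_two]; group
      _ = (g t * y⁻¹ * (g t)⁻¹) * g t ^ 2 := by rw [hgt, pow_two]; group
      _ = y * g t ^ 2 := by rw [h1]
  obtain ⟨k, hk, hkc⟩ := Coprime.exists_fixed_in_coset (A := A₂) (N := PJ ⊓ g.ker) hA₂N hcop
    (Or.inl inferInstance) (k := p₁) (fun w hw => by
      refine Subgroup.mem_inf.2 ⟨mul_mem (inv_mem hp₁J) ((Subgroup.le_normalizer_iff.mp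
        (Subgroup.zpowers_le.2 (pow_mem htP 2))) w hw _ hp₁J), ?_⟩
      obtain ⟨i, rfl⟩ := Subgroup.mem_zpowers_iff.1 hw
      rw [MonoidHom.mem_ker]
      simp only [map_mul, map_inv, map_zpow, map_pow, hgp₁]
      rw [((hgt2.zpow_left i)).eq]
      group)
  set p := (p₁ * k)⁻¹ with hp
  have hpJ : p ∈ PJ := inv_mem (mul_mem hp₁J hk.1)
  have hgp : g p = y⁻¹ := by rw [hp, map_inv, map_mul, hgp₁, hk.2, mul_one]
  have hq : t * p⁻¹ * t⁻¹ ∈ PJ := (Subgroup.mem_normalizer_iff.1 htP _).1 (inv_mem hpJ)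
  have hzP : ⁅p, t⁆ ∈ PJ := by
    rw [commutatorElement_def, show p * t * p⁻¹ * t⁻¹ = p * (t * p⁻¹ * t⁻¹) by group]
    exact mul_mem hpJ hq
  have hgz : g ⁅p, t⁆ = y⁻¹ * y⁻¹ := by
    rw [commutatorElement_def]
    simp only [map_mul, map_inv, hgp, inv_inv]
    calc y⁻¹ * g t * y * (g t)⁻¹ = y⁻¹ * (g t * y * (g t)⁻¹) := by group
      _ = _ := by rw [hgt]
  have hne : g ⁅p, t⁆ ≠ 1 := by
    rw [hgz]
    intro h
    have h2 : y ^ 2 = 1 := by rw [pow_two, ← inv_eq_one, mul_inv_rev, h]
    have h3 := orderOf_dvd_of_pow_eq_one h2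
    rw [hy] at h3
    exact hr2 ((Nat.prime_dvd_prime_iff_eq hr Nat.prime_two).1 h3)
  refine ⟨p, t, fun h => hne (by rw [h, map_one]), hne, ?_, ?_⟩
  · obtain ⟨i, hi⟩ := hPJr ⟨_, hzP⟩
    exact ⟨i, congrArg Subtype.val hi⟩
  · have hfix : t ^ 2 * p⁻¹ = p⁻¹ * t ^ 2 := by
      have := Subgroup.mem_centralizer_iff.1 hkc (t ^ 2) (Subgroup.mem_zpowers _)
      rwa [hp, inv_inv]
    have h1 : t * (t * p⁻¹ * t⁻¹) * t⁻¹ = p⁻¹ :=
      calc t * (t * p⁻¹ * t⁻¹) * t⁻¹ = t ^ 2 * p⁻¹ * (t ^ 2)⁻¹ := by rw [pow_two]; group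
        _ = p⁻¹ := by rw [hfix]; group
    calc t * ⁅p, t⁆ * t⁻¹ = (t * p * t⁻¹) * (t * (t * p⁻¹ * t⁻¹) * t⁻¹) := by
          rw [commutatorElement_def]; group
      _ = (t * p * t⁻¹) * p⁻¹ := by rw [h1]
      _ = ⁅p, t⁆⁻¹ := by rw [commutatorElement_inv, commutatorElement_def]

theorem core_step [Finite G] (hab : ∀ q : ℕ, [Fact q.Prime] → PAbelian q G) {r : ℕ} [Fact r.Prime]
    (hr2 : r ≠ 2) {x : G} {b c : ℕ} (hxr : x ^ r ^ b = 1)
    (hxc : (Subgroup.centralizer ({x} : Set G)).index = 2 ^ c)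
    (J : Subgroup G) (hJC : J ≤ Subgroup.centralizer ({x} : Set G)) (hJ : ⁅J, J⁆ = J)
    {T : Type v} [Group T] [Finite T] [IsSimpleGroup T] (f : J →* T) (hf : Function.Surjective f)
    {y s : T} (hy : orderOf y = r) (hs : s * y * s⁻¹ = y⁻¹) :
    ∃ z : G, Commute x z ∧ (∃ i, z ^ r ^ i = 1) ∧
      v2 (Subgroup.centralizer ({x * z} : Set G)) < v2 (Subgroup.centralizer ({x} : Set G)) := by
  have hr : r.Prime := Fact.out
  haveI : Fact (Nat.Prime 2) := ⟨Nat.prime_two⟩
  set N₀ := Subgroup.normalClosure ({x} : Set G) with hN₀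
  haveI : N₀.Normal := Subgroup.normalClosure_normal
  haveI : Group.IsSolvable N₀ := SolvStruct.Kazarin.isSolvable_normalClosure Nat.prime_two hxc
  set M := relCore r N₀ with hM
  haveI hMn : M.Normal := relCore_normal r N₀
  haveI : Group.IsSolvable M := Coprime.isSolvable_of_le (relCore_le r N₀) inferInstance
  have hMr : (Nat.card M).Coprime r := relCore_coprime r N₀
  set q := QuotientGroup.mk' M with hq
  have hqs : Function.Surjective q := QuotientGroup.mk'_surjective M
  have habq : PAbelian r (G ⧸ M) := (hab r).quotient M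
  set N₁ := N₀.map q with hN₁
  haveI : N₁.Normal := ‹N₀.Normal›.map q hqs
  haveI : Group.IsSolvable N₁ := Coprime.isSolvable_map q inferInstance
  set Q := Cfsg.pCore r (G ⧸ M) with hQ
  haveI : Q.Normal := Cores.pCore_normal r
  have hxN : x ∈ N₀ := Subgroup.subset_normalClosure rfl
  have hxQ : q x ∈ Q := by
    refine Cores.map_pCore_subtype_le r N₁ ⟨⟨q x, x, hxN, rfl⟩, ?_, rfl⟩
    refine mem_pCore (habq.subgroup N₁) (core_image_eq_bot r N₀) (k := b) (Subtype.ext ?_)
    simp [← map_pow, hxr]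
  set K := Subgroup.centralizer (Q : Set (G ⧸ M)) with hK
  haveI : K.Normal := inferInstance
  have hKmem : ∀ {w : G ⧸ M} {i : ℕ}, w ^ r ^ i = 1 → w ∈ K := fun hw =>
    mem_centralizer_normal habq (Cores.pCore_isPGroup r) hw
  -- the part of `J` inside `K`
  set J₁ := (K.comap q).subgroupOf J with hJ₁
  haveI : J₁.Normal := (Subgroup.Normal.comap ‹K.Normal› q).subgroupOf J
  have hfJ₁ : Function.Surjective (f.comp J₁.subtype) := by
    haveI : (J₁.map f).Normal := ‹J₁.Normal›.map f hf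
    rcases IsSimpleGroup.eq_bot_or_eq_top_of_normal (J₁.map f) inferInstance with h | h
    · exfalso
      obtain ⟨j, hj⟩ := hf y
      obtain ⟨a', m, A, B, hm, ham, hjd⟩ := Fusion.Elementwise.exists_bezout (p := r) j
      have h1 : ((j ^ m) ^ B : J) ∈ J₁ := by
        rw [hJ₁, Subgroup.mem_subgroupOf, Subgroup.mem_comap]
        refine hKmem (i := a') ?_
        rw [← map_pow, ← Subgroup.coe_pow, ← zpow_natCast _ (r ^ a'), ← zpow_mul, mul_comm, zpow_mul,
          zpow_natCast, ← pow_mul, mul_comm, ← ham, pow_orderOf_eq_one, one_zpow, Subgroup.coe_one,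
          map_one]
      have h2 : f ((j ^ m) ^ B) = 1 := by
        have := Subgroup.mem_map_of_mem f h1
        rwa [h, Subgroup.mem_bot] at this
      have h3 : y = ((y ^ r ^ a') ^ A : T) := by
        conv_lhs => rw [← hj, hjd, map_mul, h2, mul_one]
        rw [map_zpow, map_pow, hj]
      rcases Nat.eq_zero_or_pos a' with ha | ha
      · rw [ha, pow_zero, one_mul] at ham
        exact hm (ham ▸ hy ▸ hj ▸ orderOf_map_dvd f j)
      · rw [orderOf_dvd_iff_pow_eq_one.1 (hy ▸ dvd_pow_self r ha.ne'), one_zpow] at h3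
        rw [h3, orderOf_one] at hy
        exact hr.one_lt.ne hy
    · intro w
      obtain ⟨j, hj, rfl⟩ := h ▸ Subgroup.mem_top w
      exact ⟨⟨j, hj⟩, rfl⟩
  obtain ⟨p, t, hz1, -, ⟨i, hzi⟩, htz⟩ := exists_real_lift hr2
    (((hab r).subgroup J).subgroup J₁) (f.comp J₁.subtype) hfJ₁ hy hs
  set z : G := (((⁅p, t⁆ : J₁) : J) : G) with hzdef
  set pG : G := (((p : J₁) : J) : G) with hpG
  set tG : G := (((t : J₁) : J) : G) with htG
  have hzc : z = ⁅pG, tG⁆ := by
    simp [hzdef, hpG, htG, commutatorElement_def]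
  have hzr : z ^ r ^ i = 1 := by
    rw [hzdef, ← Subgroup.coe_pow, ← Subgroup.coe_pow, hzi]; rfl
  have htzG : tG * z * tG⁻¹ = z⁻¹ := by
    exact congrArg (fun w : J₁ => ((w : J) : G)) htz
  have hzJ : z ∈ J := ((⁅p, t⁆ : J₁) : J).2
  have hxz : Commute x z := (Subgroup.mem_centralizer_singleton_iff.1 (hJC hzJ)).symm
  have hxt : tG * x = x * tG := Subgroup.mem_centralizer_singleton_iff.1 (hJC (t : J₁).1.2)
  have hz1' : z ≠ 1 := fun e => hz1 (Subtype.ext (Subtype.ext (by simpa [hzdef] using e)))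
  refine ⟨z, hxz, ⟨i, hzr⟩, ?_⟩
  set g := x * z with hg
  have hgr : g ^ r ^ (b + i) = 1 := by
    rw [hg, hxz.mul_pow, pow_add, pow_mul, hxr, one_pow, mul_comm, pow_mul, hzr, one_pow, one_mul]
  have hcop : ∀ {w : G} {j : ℕ}, w ^ r ^ j = 1 → (orderOf w).Coprime (Nat.card M) := fun hw =>
    Nat.Coprime.coprime_dvd_left (orderOf_dvd_of_pow_eq_one hw) (hMr.symm.pow_left _)
  -- images
  have hpK : q pG ∈ K := (p : J₁).2
  have htK : q tG ∈ K := (t : J₁).2
  have hqz : q z ≠ 1 := by
    intro h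
    have hzM : z ∈ M := (QuotientGroup.eq_one_iff z).1 h
    have h1 : orderOf z ∣ Nat.card M := Subgroup.orderOf_coe (⟨z, hzM⟩ : M) ▸ orderOf_dvd_natCard _
    exact hz1' (orderOf_eq_one_iff.1 (Nat.eq_one_of_dvd_coprimes (hcop hzr) dvd_rfl h1))
  have hqz2 : (q z)⁻¹ ≠ q z := by
    intro h
    have h1 : orderOf (q z) ∣ 2 := by
      refine orderOf_dvd_of_pow_eq_one ?_
      rw [pow_two]
      nth_rw 1 [← h]
      exact inv_mul_cancel _
    have h2 : orderOf (q z) ∣ r ^ i :=
      orderOf_dvd_of_pow_eq_one (by rw [← map_pow, hzr, map_one])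
    exact hqz (orderOf_eq_one_iff.1 (Nat.eq_one_of_dvd_coprimes
      (((Nat.coprime_primes Nat.prime_two hr).2 hr2.symm).pow_right i) h1 h2))
  have hinf : Subgroup.centralizer ({q g} : Set (G ⧸ M)) =
      Subgroup.centralizer ({q x} : Set (G ⧸ M)) ⊓ Subgroup.centralizer ({q z} : Set (G ⧸ M)) := by
    refine le_antisymm (fun w hw => ?_) (fun w hw => ?_)
    · have hw' : w * (q x * q z) * w⁻¹ = q x * q z := by
        rw [← map_mul, ← hg, Subgroup.mem_centralizer_singleton_iff.1 hw, mul_inv_cancel_right]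
      set d := (q x)⁻¹ * (w * q x * w⁻¹) with hd
      have hdQ : d ∈ Q := mul_mem (inv_mem hxQ) (‹Q.Normal›.conj_mem _ hxQ w)
      have hd' : d = q z * (w * (q z)⁻¹ * w⁻¹) := by
        have e : w * q x * w⁻¹ = q x * q z * (w * (q z)⁻¹ * w⁻¹) := by
          conv_rhs => rw [← hw']
          group
        rw [hd, e]; group
      have hdK : d ∈ ⁅K, K⁆ := by
        haveI : (⁅K, K⁆ : Subgroup (G ⧸ M)).Normal := Subgroup.commutator_normal K K
        have h1 : q z ∈ ⁅K, K⁆ := by
          rw [hzc, map_commutatorElement]; exact Subgroup.commutator_mem_commutator hpK htK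
        rw [hd']
        exact mul_mem h1 (Subgroup.Normal.conj_mem inferInstance _ (inv_mem h1) w)
      have hdmem : d ∈ K := Subgroup.commutator_le_self K hdK
      obtain ⟨j, hj⟩ := Cores.pCore_isPGroup r ⟨d, hdQ⟩
      have hd1 : d = 1 := by
        have h1 := eq_one_of_center_commutator (habq.subgroup K) (z := (⟨d, hdmem⟩ : K)) (k := j)
          (Subgroup.mem_center_iff.2 fun k => Subtype.ext
            ((Subgroup.mem_centralizer_iff.1 k.2 d hdQ).symm))
          (by
            have hmap : (commutator K).map K.subtype = ⁅K, K⁆ := Subgroup.map_subtype_commutator K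
            obtain ⟨⟨d', hd''⟩, hmem, rfl⟩ := hmap.symm ▸ hdK
            exact hmem)
          (Subtype.ext (congrArg (fun u : Q => (u : G ⧸ M)) hj))
        exact congrArg Subtype.val h1
      have hwx : w * q x = q x * w := by
        have := inv_mul_eq_one.1 (hd.symm.trans hd1)
        rw [eq_mul_inv_iff_mul_eq] at this
        exact this.symm
      refine ⟨Subgroup.mem_centralizer_singleton_iff.2 hwx,
        Subgroup.mem_centralizer_singleton_iff.2 ?_⟩
      have h2 := Subgroup.mem_centralizer_singleton_iff.1 hw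
      rw [hg, map_mul, ← mul_assoc, hwx, mul_assoc, mul_assoc] at h2
      exact mul_left_cancel h2
    · rw [Subgroup.mem_centralizer_singleton_iff, hg, map_mul]
      exact ((show Commute w (q x) from Subgroup.mem_centralizer_singleton_iff.1 hw.1).mul_right
        (show Commute w (q z) from Subgroup.mem_centralizer_singleton_iff.1 hw.2)).eq
  have hlt : v2 ((Subgroup.centralizer ({g} : Set G)).map q) <
      v2 ((Subgroup.centralizer ({x} : Set G)).map q) := by
    rw [map_centralizer M (hcop hgr), map_centralizer M (hcop hxr), hinf]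
    refine v2_inter_lt (t := q tG) (by rw [← map_mul, hxt, map_mul]) ?_ hqz2
    rw [← map_inv, ← map_mul, ← map_mul, htzG, map_inv]
  -- the fixed points in `M`
  set O := relCore 2 M with hO
  haveI : O.Normal := relCore_normal 2 M
  set q' := QuotientGroup.mk' O with hq'
  haveI : (M.map q').Normal := hMn.map q' (QuotientGroup.mk'_surjective O)
  haveI : Group.IsSolvable (M.map q') := Coprime.isSolvable_map q' inferInstance
  set W := (Cfsg.pCore 2 (M.map q')).map (M.map q').subtype with hW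
  haveI : W.Normal := Cores.normal_map_subtype _ _
  have hW2 : IsPGroup 2 W := (Cores.pCore_isPGroup 2).map _
  have hJW : J.map q' ≤ Subgroup.centralizer (W : Set (G ⧸ O)) :=
    perfect_le_centralizer ((hab 2).quotient O) W hW2 _ (by rw [← Subgroup.map_commutator, hJ])
  have hM2 : ∀ {w : G} {j : ℕ}, w ^ r ^ j = 1 →
      v2 (Subgroup.centralizer ({w} : Set G) ⊓ M) =
        v2 (W ⊓ Subgroup.centralizer ({q' w} : Set (G ⧸ O))) := by
    intro w j hw
    set A := Subgroup.zpowers w with hA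
    have hAC : Subgroup.centralizer (A : Set G) = Subgroup.centralizer ({w} : Set G) := by
      refine le_antisymm (fun c hc => Subgroup.mem_centralizer_singleton_iff.2
        (Subgroup.mem_centralizer_iff.1 hc w (Subgroup.mem_zpowers w)).symm) fun c hc => ?_
      rw [Subgroup.mem_centralizer_iff]
      rintro a ha
      obtain ⟨l, rfl⟩ := Subgroup.mem_zpowers_iff.1 ha
      exact ((show Commute c w from Subgroup.mem_centralizer_singleton_iff.1 hc).zpow_right l).eq.symm
    have hAC' : Subgroup.centralizer ((A.map q' : Subgroup (G ⧸ O)) : Set (G ⧸ O)) =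
        Subgroup.centralizer ({q' w} : Set (G ⧸ O)) := by
      refine le_antisymm (fun c hc => Subgroup.mem_centralizer_singleton_iff.2
        (Subgroup.mem_centralizer_iff.1 hc (q' w)
          (Subgroup.mem_map_of_mem q' (Subgroup.mem_zpowers w))).symm) fun c hc => ?_
      rw [Subgroup.mem_centralizer_iff]
      rintro _ ⟨a, ha, rfl⟩
      obtain ⟨l, rfl⟩ := Subgroup.mem_zpowers_iff.1 ha
      rw [map_zpow]
      exact ((show Commute c (q' w) from
        Subgroup.mem_centralizer_singleton_iff.1 hc).zpow_right l).eq.symm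
    have h1 := Coprime.map_inf_centralizer q' (A := A) (K := M) Subgroup.le_normalizer_of_normal
      (by rw [Nat.card_zpowers]; exact hcop hw) (Or.inl inferInstance)
    rw [hAC, hAC'] at h1
    set X := M.map q' ⊓ Subgroup.centralizer ({q' w} : Set (G ⧸ O)) with hX
    have hker : v2 ((Subgroup.centralizer ({w} : Set G) ⊓ M) ⊓ O) = 0 := by
      refine Nat.factorization_eq_zero_of_not_dvd fun hd => ?_
      have := (relCore_coprime 2 M).coprime_dvd_left (Subgroup.card_dvd_of_le (inf_le_right :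
        (Subgroup.centralizer ({w} : Set G) ⊓ M) ⊓ O ≤ O))
      exact Nat.prime_two.not_dvd_one (Nat.Coprime.eq_one_of_dvd this.symm hd ▸ dvd_rfl)
    rw [v2_map O, hker, add_zero, inf_comm (Subgroup.centralizer _) M, h1]
    -- every 2-element of `X` lies in `W`
    obtain ⟨S⟩ := (inferInstance : Nonempty (Sylow 2 X))
    have hSW : (S : Subgroup X).map X.subtype ≤ W ⊓ Subgroup.centralizer ({q' w} : Set (G ⧸ O)) := by
      rintro _ ⟨u, hu, rfl⟩
      refine ⟨?_, u.2.2⟩
      obtain ⟨l, hl⟩ := S.2 ⟨u, hu⟩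
      refine ⟨⟨u, u.2.1⟩, mem_pCore (((hab 2).quotient O).subgroup _) (core_image_eq_bot 2 M) (k := l)
        (Subtype.ext ?_), rfl⟩
      simpa using congrArg (fun v : (S : Subgroup X) => ((v : X) : G ⧸ O)) hl
    have hle : W ⊓ Subgroup.centralizer ({q' w} : Set (G ⧸ O)) ≤ X :=
      inf_le_inf_right _ (Subgroup.map_subtype_le _)
    refine le_antisymm ?_ ((Nat.factorization_le_iff_dvd Nat.card_pos.ne' Nat.card_pos.ne').2
      (Subgroup.card_dvd_of_le hle) 2)
    have h2 := (Nat.factorization_le_iff_dvd Nat.card_pos.ne' Nat.card_pos.ne').2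
      (Subgroup.card_dvd_of_le hSW) 2
    rw [Subgroup.card_map_of_injective X.subtype_injective, S.card_eq_multiplicity,
      Nat.prime_two.factorization_pow, Finsupp.single_eq_same] at h2
    exact h2
  have hWeq : W ⊓ Subgroup.centralizer ({q' g} : Set (G ⧸ O)) =
      W ⊓ Subgroup.centralizer ({q' x} : Set (G ⧸ O)) := by
    ext w
    simp only [Subgroup.mem_inf, Subgroup.mem_centralizer_singleton_iff]
    refine and_congr_right fun hw => ?_
    have hc : Commute w (q' z) :=
      Subgroup.mem_centralizer_iff.1 (hJW (Subgroup.mem_map_of_mem q' hzJ)) w hw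
    rw [hg, map_mul]
    constructor
    · intro h
      have h' : Commute w (q' x * q' z) := h
      have := h'.mul_right hc.inv_right
      rwa [mul_inv_cancel_right] at this
    · intro h
      exact ((show Commute w (q' x) from h).mul_right hc).eq
  have hMeq : v2 (Subgroup.centralizer ({g} : Set G) ⊓ M) =
      v2 (Subgroup.centralizer ({x} : Set G) ⊓ M) := by
    rw [hM2 hgr, hM2 hxr, hWeq]
  rw [v2_map M, v2_map M (Subgroup.centralizer ({x} : Set G)), hMeq]
  exact Nat.add_lt_add_right hlt _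

end Cfsg.Agent.ASolv.MaxTwoPart
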